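import Cfsg.Agent.Lib.Spor.UFourType.ThreeAOrder

/-!
# The element of order three is a commutator in its centralizer
-/

set_option autoImplicit false

namespace CfsgLib.Spor.UFourType

open Subgroup

noncomputable section

namespace Model

variable {G : Type*} [Group G] [Finite G] {z : G} {Q : Subgroup G} {ψ : ℕ → G} (M : Model z Q ψ)
include M

/-- The core is not abelian. -/
theorem grpO_noncomm : ∃ x ∈ M.grpO, ∃ x' ∈ M.grpO, x * x' ≠ x' * x := by
  by_contra hcon
  push Not at hcon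
  have hw : wC false ∈ [wC false, wC' false] := List.mem_cons_self
  obtain ⟨s, hs, hsz, hs1⟩ := M.side_exists_fix hw
  obtain ⟨b, g, hg⟩ := M.side_real hw hs hsz hs1
  have hsO := M.A_inverted_memO hs.1 hsz
  set B := M.grpO.map (MulAut.conj g).toMonoidHom with hB
  have hBM : B ≤ M.grpM b := by
    rintro _ ⟨x, hx, rfl⟩
    exact M.grpH_le b ((hg x).1 (hcon x hx s hsO))
  have hBc : Nat.card B = 243 := by
    rw [hB, Subgroup.card_map_of_injective (show Function.Injective (MulAut.conj g).toMonoidHom from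
      (MulAut.conj g).injective), M.card_grpO]
  have hodd : Odd (Nat.card B) := by rw [hBc]; decide
  have hcomm : ∀ x ∈ B, ∀ x' ∈ B, x * x' = x' * x := by
    rintro _ ⟨x, hx, rfl⟩ _ ⟨x', hx', rfl⟩
    rw [← map_mul, ← map_mul, hcon x hx x' hx']
  have hbig := M.inter_big B hBM hodd
  have hA : M.grpA ≤ B := by
    have e : B ⊓ M.grpA = M.grpA :=
      Subgroup.eq_of_le_of_card_ge inf_le_right (by rw [M.card_grpA]; omega)
    exact inf_eq_right.1 e
  obtain ⟨τ, hτ, hτA⟩ : ∃ τ ∈ B, τ ∉ M.grpA := by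
    by_contra h
    push Not at h
    have := Subgroup.card_le_of_le (H := B) (K := M.grpA) h
    rw [hBc, M.card_grpA] at this
    omega
  have h9 := M.fix_bound (hBM hτ) (hodd.of_dvd_nat (Subgroup.orderOf_dvd_natCard B hτ)) hτA M.grpA le_rfl
    (fun a ha => by rw [hcomm τ hτ a (hA ha), mul_inv_cancel_right, mul_inv_cancel]; exact one_mem _)
  rw [M.card_grpA] at h9
  omega

/-- The element is a commutator of two elements of its centralizer. -/
theorem a_commutator : ∃ x x' : G, x * ψ aC = ψ aC * x ∧ x' * ψ aC = ψ aC * x' ∧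
    x * x' * x⁻¹ * x'⁻¹ = ψ aC := by
  obtain ⟨x, hx, x', hx', hne⟩ := M.grpO_noncomm
  obtain ⟨n, hn⟩ := (Submonoid.mem_powers_iff _ _).1 (mem_powers_iff_mem_zpowers.2 (M.O_comm hx hx'))
  have h3 : ψ aC ^ 3 = 1 := by rw [← M.a_order]; exact pow_orderOf_eq_one _
  rw [pow_eq_pow_mod n h3] at hn
  have hlt := Nat.mod_lt n (show 0 < 3 by norm_num)
  have hX := M.mem_grpX.1 (M.grpO_le hx)
  have hX' := M.mem_grpX.1 (M.grpO_le hx')
  interval_cases (n % 3)
  · exfalso
    rw [pow_zero] at hn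
    exact hne (mul_inv_eq_iff_eq_mul.1 (mul_inv_eq_one.1 hn.symm))
  · exact ⟨x, x', hX, hX', by rw [← hn, pow_one]⟩
  · refine ⟨x', x, hX', hX, ?_⟩
    calc x' * x * x'⁻¹ * x⁻¹ = (x * x' * x⁻¹ * x'⁻¹)⁻¹ := by group
      _ = ψ aC := by rw [← hn]; exact inv_eq_of_mul_eq_one_right (by rw [← pow_succ]; exact h3)

end Model

end

end CfsgLib.Spor.UFourType
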