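import Cfsg.Agent.Lib.Spor.SuzType.YCent.Ternary

/-!
# The twenty-two conjugates of the element in the group of order 243 and their stabilizer
-/

set_option autoImplicit false
set_option synthInstance.maxSize 4096

namespace CfsgLib.Spor.UFourType.Model

open Subgroup

noncomputable section

variable {G : Type*} [Group G] [Finite G] {z : G} {Q : Subgroup G} {ψ : ℕ → G} (M : Model z Q ψ)
include M

theorem orb_four {c : ℕ} (hc : c ∈ [aC, mC aC aC, 16, mC 16 16]) : M.Orb (ψ c) ∧ z * ψ c = ψ c * z := by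
  refine ⟨?_, M.comm_z (four_distinct.2 c hc).2 |>.symm⟩
  have hsq : ∀ d < 1152, ψ d ^ 3 = 1 → ψ (mC d d) = (ψ d)⁻¹ := fun d hd h3 => by
    rw [← M.mul d hd d hd]
    exact (inv_eq_of_mul_eq_one_right (by rw [← pow_two, ← pow_succ']; exact h3)).symm
  simp only [List.mem_cons, List.not_mem_nil, or_false] at hc
  rcases hc with rfl | rfl | rfl | rfl
  · exact M.orb_self
  · rw [hsq _ (by norm_num) (M.a_order ▸ pow_orderOf_eq_one _)]; exact M.orb_inv M.orb_self
  · exact M.orb_b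
  · rw [hsq _ (by norm_num) (M.grpP_cube M.b_memX.2)]; exact M.orb_inv M.orb_b

theorem card_four : Nat.card {e : G // ∃ c ∈ [aC, mC aC aC, 16, mC 16 16], ψ c = e} = 4 :=
  M.card_codes (fun c hc => (four_distinct.2 c hc).2) four_distinct.1

theorem orb_ne_one {e : G} (h : M.Orb e) : e ≠ 1 := fun e1 => by
  obtain ⟨g, -, hg⟩ := h
  exact M.a_ne (conj_eq_one_iff.1 (hg.trans e1))

theorem orb_cube {e : G} (h : M.Orb e) : e ^ 3 = 1 := M.grpA_cube (M.orb_grpA h)

end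

end CfsgLib.Spor.UFourType.Model

namespace CfsgLib.Spor.SuzType.YCent

open Subgroup CfsgLib.Spor.CoOneType
open CfsgLib.Spor.UFourType (Model aC mC)

noncomputable section

theorem mem_norm_of_map {G : Type*} [Group G] [Finite G] {A : Subgroup G} {h : G}
    (H : ∀ a ∈ A, h * a * h⁻¹ ∈ A) : h ∈ normalizer (A : Set G) := by
  have e : A.map (MulAut.conj h).toMonoidHom = A :=
    eq_of_le_of_card_ge (by rintro _ ⟨a, ha, rfl⟩; exact H a ha)
      (by rw [Subgroup.card_map_of_injective (MulAut.conj h).injective])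
  refine mem_normalizer_iff.2 fun a => ⟨H a, fun ha => ?_⟩
  rw [← e] at ha
  obtain ⟨b, hb, hbe⟩ := ha
  have : b = a := (MulAut.conj h).injective hbe
  exact this ▸ hb

theorem conj_pow_cases {G : Type*} [Group G] {y w : G} (hy : y ^ 3 = 1) (hw : w ∈ zpowers y) (h1 : w ≠ 1) :
    w = y ∨ w = y * y := by
  have ho : IsOfFinOrder y := isOfFinOrder_iff_pow_eq_one.2 ⟨3, by norm_num, hy⟩
  obtain ⟨n, rfl⟩ := (Submonoid.mem_powers_iff _ _).1 (ho.mem_powers_iff_mem_zpowers.2 hw)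
  rw [pow_eq_pow_mod n hy] at h1 ⊢
  have hlt := Nat.mod_lt n (show 0 < 3 by norm_num)
  interval_cases (n % 3)
  · exact absurd (pow_zero y) h1
  · exact Or.inl (pow_one y)
  · exact Or.inr (pow_two y)

theorem rot_witness : ∀ d e : Vec, Aniso d e → rot d e e + e = d ∧ rot d e d = e := by decide +kernel

theorem flip_facts : pl vA vA = 0 ∧ pl vB vA = 1 ∧ pl vA (vD 0) = 0 ∧ pl vB (vD 0) = 0 ∧ pl vA (vD 1) = 0 ∧
    pl vB (vD 1) = 0 ∧ ∀ i, pl (vD i) vA = 0 ∧ pl (vE i) vA = 0 ∧ pl (vD i) (vD i) = 0 ∧ pl (vE i) (vD i) = 1 ∧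
      ∀ j, i ≠ j → pl (vD i) (vD j) = 0 ∧ pl (vE i) (vD j) = 0 := by decide +kernel

theorem flip_rot : (∀ x : Vec, rot vA (vB + vA) x = rot vA vB (rot vA vB x)) ∧
    ∀ i, ∀ x : Vec, rot (vD i) (vE i + vD i) x = rot (vD i) (vE i) (rot (vD i) (vE i) x) := by decide +kernel

theorem span_six : ∀ x : Vec, ∃ a b c d f g : ZMod 2,
    x = a • vA + b • vB + c • vD 0 + d • vE 0 + f • vD 1 + g • vE 1 := by decide +kernel

theorem plane_power {h r : Iso6} {d e : Vec} (ha : Aniso d e) (hr : ∀ x, act r x = rot d e x) (hc : h * r = r * h)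
    (hr3 : r ^ 3 = 1) : ∃ n : ℕ, act h d = act (r ^ n) d ∧ act h e = act (r ^ n) e := by
  obtain ⟨hw, hde⟩ := rot_witness d e ha
  have hq : act h d = rot d e (act h e) + act h e := by
    conv_lhs => rw [← hw]
    rw [act_add, ← hr, ← act_mul, hc, act_mul, hr]
  have he : ∀ n : ℕ, act h d = act (r ^ n) d → act h e = act (r ^ n) e := fun n hn => by
    calc act h e = act h (act r d) := by rw [hr, hde]
      _ = act r (act h d) := by rw [← act_mul, hc, act_mul]
      _ = act (r ^ n) e := by rw [hn, ← act_mul, ← pow_succ', pow_succ, act_mul, hr, hde]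
  have hr2 : act (r ^ 2) d = d + e := by
    rw [pow_two, act_mul, hr, hr, hde]
    calc rot d e e = rot d e e + e + e := by rw [add_assoc, vec_add_self, add_zero]
      _ = d + e := by rw [hw]
  rcases rot_image_mem d e (act h e) with h0 | h0 | h0 | h0 <;> rw [← hq] at h0
  · exfalso
    have h1 := (aniso_act h ha).1
    rw [h0] at h1
    exact absurd h1 (by decide +kernel)
  · exact ⟨0, by rw [h0, pow_zero, act_one], he 0 (by rw [h0, pow_zero, act_one])⟩
  · exact ⟨1, by rw [h0, pow_one, hr, hde], he 1 (by rw [h0, pow_one, hr, hde])⟩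
  · exact ⟨2, by rw [h0, hr2], he 2 (by rw [h0, hr2])⟩

/-- An isometry commuting with the three rotations is a product of them. -/
theorem cent_three {h : Iso6} (h0 : h * g0 = g0 * h) (h1 : ∀ i, h * pr3 i = pr3 i * h) : h ∈ rot3 := by
  obtain ⟨a, ha, ha'⟩ := plane_power ref_aniso act_g0 h0 g0_pow
  obtain ⟨b, hb, hb'⟩ := plane_power (plane_aniso 0) (act_pr3 0) (h1 0) (pr3_pow 0)
  obtain ⟨c, hc, hc'⟩ := plane_power (plane_aniso 1) (act_pr3 1) (h1 1) (pr3_pow 1)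
  refine ⟨a, b, c, iso_ext fun x => ?_⟩
  have fix : ∀ (r : Iso6) (n : ℕ) (u : Vec), act r u = u → act (r ^ n) u = u := fun r n u hu => by
    induction n with
    | zero => rw [pow_zero, act_one]
    | succ n ih => rw [pow_succ, act_mul, hu, ih]
  have hfix : ∀ i (u : Vec), rot (vD i) (vE i) u = u → act (pr3 i) u = u := fun i u hu => by rw [act_pr3, hu]
  obtain ⟨h₁, h₂, h₃⟩ := comm3
  have e1 : el3 a b c = pr3 0 ^ b * (g0 ^ a * pr3 1 ^ c) := by
    rw [el3, ← mul_assoc, (h₁.pow_pow a b).eq, mul_assoc]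
  have e2 : el3 a b c = pr3 1 ^ c * (g0 ^ a * pr3 0 ^ b) := by
    rw [el3, ← mul_assoc, ← ((h₂.pow_pow a c).mul_left (h₃.pow_pow b c)).eq]
  have f0 : ∀ u ∈ ([vA, vB] : List Vec), act (el3 a b c) u = act (g0 ^ a) u := fun u hu => by
    simp only [List.mem_cons, List.not_mem_nil, or_false] at hu
    rw [el3, act_mul, act_mul, fix (pr3 1) c u (hfix 1 u ?_), fix (pr3 0) b u (hfix 0 u ?_)] <;>
      rcases hu with rfl | rfl <;> first | exact (rot_plane _).2.2.1 | exact (rot_plane _).2.2.2.1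
  have f1 : ∀ u ∈ ([vD 0, vE 0] : List Vec), act (el3 a b c) u = act (pr3 0 ^ b) u := fun u hu => by
    simp only [List.mem_cons, List.not_mem_nil, or_false] at hu
    rw [e1, act_mul, act_mul, fix (pr3 1) c u (hfix 1 u ?_), fix g0 a u ?_] <;>
      rcases hu with rfl | rfl
    · rw [act_g0, (rot_plane 0).2.2.2.2.1]
    · rw [act_g0, (rot_plane 0).2.2.2.2.2]
    · exact (rot_other 1 0 (by decide)).1
    · exact (rot_other 1 0 (by decide)).2
  have f2 : ∀ u ∈ ([vD 1, vE 1] : List Vec), act (el3 a b c) u = act (pr3 1 ^ c) u := fun u hu => by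
    simp only [List.mem_cons, List.not_mem_nil, or_false] at hu
    rw [e2, act_mul, act_mul, fix (pr3 0) b u (hfix 0 u ?_), fix g0 a u ?_] <;>
      rcases hu with rfl | rfl
    · rw [act_g0, (rot_plane 1).2.2.2.2.1]
    · rw [act_g0, (rot_plane 1).2.2.2.2.2]
    · exact (rot_other 0 1 (by decide)).1
    · exact (rot_other 0 1 (by decide)).2
  obtain ⟨p, q, r, s, k, l, rfl⟩ := span_six x
  simp only [act_add, act_smul]
  rw [f0 vA (by simp), f0 vB (by simp), f1 (vD 0) (by simp), f1 (vE 0) (by simp), f2 (vD 1) (by simp),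
    f2 (vE 1) (by simp), ha, ha', hb, hb', hc, hc']

/-- No element of the simple group inverts the three rotations. -/
theorem no_inverter {g : Iso6} (hg : g ∈ Om) (h0 : g * g0 * g⁻¹ = g0 * g0)
    (h1 : ∀ i, g * pr3 i * g⁻¹ = pr3 i * pr3 i) : False := by
  obtain ⟨q1, q2, q3, q4, q5, q6, q7⟩ := flip_facts
  obtain ⟨p, hp, hpa⟩ := exists_refl ref_aniso.1
  obtain ⟨r, hr, hra⟩ := exists_refl (plane_aniso 0).1
  obtain ⟨s, hs, hsa⟩ := exists_refl (plane_aniso 1).1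
  set R := p * (r * s) with hR
  have hRn : R ∉ Om := fun h => hp (by
    have := mul_mem h (inv_mem (mul_mem_om hr hs))
    rwa [hR, mul_inv_cancel_right] at this)
  have hRA : act R vA = vA := by
    rw [hR, act_mul, act_mul, hsa, q5, zero_smul, add_zero, hra, q3, zero_smul, add_zero, hpa, q1, zero_smul, add_zero]
  have hRB : act R vB = vB + vA := by
    rw [hR, act_mul, act_mul, hsa, q6, zero_smul, add_zero, hra, q4, zero_smul, add_zero, hpa, q2, one_smul]
  have hRD : ∀ i, act R (vD i) = vD i ∧ act R (vE i) = vE i + vD i := by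
    intro i
    obtain ⟨k1, k2, k3, k4, k5⟩ := q7 i
    fin_cases i
    · obtain ⟨k6, k7⟩ := k5 1 (by decide)
      simp only [Fin.zero_eta, Fin.isValue] at k1 k2 k3 k4 k6 k7 ⊢
      constructor
      · rw [hR, act_mul, act_mul, hsa, k6, zero_smul, add_zero, hra, k3, zero_smul, add_zero, hpa, k1, zero_smul,
          add_zero]
      · rw [hR, act_mul, act_mul, hsa, k7, zero_smul, add_zero, hra, k4, one_smul, act_add, hpa, k2, zero_smul,
          add_zero, hpa, k1, zero_smul, add_zero]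
    · obtain ⟨k6, k7⟩ := k5 0 (by decide)
      simp only [Fin.mk_one, Fin.isValue] at k1 k2 k3 k4 k6 k7 ⊢
      constructor
      · rw [hR, act_mul, act_mul, hsa, k3, zero_smul, add_zero, hra, k6, zero_smul, add_zero, hpa, k1, zero_smul,
          add_zero]
      · rw [hR, act_mul, act_mul, hsa, k4, one_smul, act_add, hra, k7, zero_smul, add_zero, hra, k6, zero_smul,
          add_zero, act_add, hpa, k2, zero_smul, add_zero, hpa, k1, zero_smul, add_zero]
  have hR0 : R * g0 * R⁻¹ = g0 * g0 := iso_ext fun x => by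
    rw [rot_conj act_g0, hRA, hRB, flip_rot.1, act_mul, act_g0, act_g0]
  have hR1 : ∀ i, R * pr3 i * R⁻¹ = pr3 i * pr3 i := fun i => iso_ext fun x => by
    rw [rot_conj (act_pr3 i), (hRD i).1, (hRD i).2, flip_rot.2, act_mul, act_pr3, act_pr3]
  have hcomm : ∀ u : Iso6, u ^ 3 = 1 → R * u * R⁻¹ = u * u → g * u * g⁻¹ = u * u →
      g * R * u = u * (g * R) := fun u hu hRu hgu => by
    rw [← mul_inv_eq_iff_eq_mul]
    calc g * R * u * (g * R)⁻¹ = g * (R * u * R⁻¹) * g⁻¹ := by group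
      _ = g * u * g⁻¹ * (g * u * g⁻¹) := by rw [hRu]; group
      _ = u ^ 3 * u := by rw [hgu, pow_succ u 2, pow_two]; simp only [mul_assoc]
      _ = u := by rw [hu, one_mul]
  have hgR : g * R ∈ Om :=
    (rot3_le (cent_three (hcomm g0 g0_pow hR0 h0) fun i => hcomm _ (pr3_pow i) (hR1 i) (h1 i))).1
  exact hRn (by
    have := mul_mem (inv_mem hg) hgR
    rwa [inv_mul_cancel_left] at this)

theorem four_pairs : Nat.card {p : Fin 3 × Fin 3 // (p.1 = 0 ∨ p.2 = 0) ∧ p ≠ (0, 0)} = 4 := by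
  rw [Nat.card_eq_fintype_card]; decide +kernel

variable {G : Type*} [Group G] [Finite G] {z : G} {Q : Subgroup G} {v : G → Vec} {ρ : G → Iso6} {y : G}
  {t : Fin 2 → G} {T : Type*} [Group T] {N : Subgroup G} {π : N →* T}

namespace Quo

variable (U : Quo z Q v ρ y t N π) {ψ : ℕ → T} [Finite T] (M : Model U.zb U.qb ψ)
include U M

/-- A conjugate commuting with the involution is conjugate in its centralizer. -/
theorem exists_conj_cent {e : G} (hc : IsConj y e) (hz : e * z = z * e) :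
    ∃ c ∈ centralizer ({z} : Set G), c * y * c⁻¹ = e := by
  obtain ⟨m, hm⟩ := isConj_iff.1 hc
  have huN : m⁻¹ * z * m ∈ N := (U.memN _).2 (by
    calc m⁻¹ * z * m * y = m⁻¹ * (z * (m * y * m⁻¹)) * m := by group
      _ = m⁻¹ * (m * y * m⁻¹ * z) * m := by rw [hm, hz]
      _ = _ := by group)
  set u : N := ⟨m⁻¹ * z * m, huN⟩ with hu
  have hu4 : (u : G) ^ 4 = 1 := by
    show (m⁻¹ * z * m) ^ 4 = 1
    rw [show m⁻¹ * z * m = m⁻¹ * z * m⁻¹⁻¹ by group, conj_pow, U.z_four]; group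
  have hu2 : π u * π u = 1 := by
    rw [← map_mul, show u * u = 1 from Subtype.ext (by
      show m⁻¹ * z * m * (m⁻¹ * z * m) = 1
      rw [show m⁻¹ * z * m * (m⁻¹ * z * m) = m⁻¹ * (z * z) * m by group, U.setup.zz]; group), map_one]
  have hu1 : π u ≠ 1 := fun h => U.setup.z_ne (by
    have e1 : m⁻¹ * z * m = 1 := U.eq_of_pi (n := 1) (h.trans (map_one π).symm) hu4 (one_pow _)
    calc z = m * (m⁻¹ * z * m) * m⁻¹ := by group
      _ = 1 := by rw [e1]; group)
  obtain ⟨τ, hτ⟩ := isConj_iff.1 (M.isConj_invol hu2 hu1)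
  obtain ⟨n, rfl⟩ := U.surj τ
  have hnz : (n : G) * z * (n : G)⁻¹ = m⁻¹ * z * m :=
    U.eq_of_pi (m := n * ⟨z, U.z_N⟩ * n⁻¹) (n := u) (by rw [map_mul, map_mul, map_inv]; exact hτ)
      (by show ((n : G) * z * (n : G)⁻¹) ^ 4 = 1; rw [conj_pow, U.z_four]; group) hu4
  have hny : (n : G) * y = y * n := (U.memN _).1 n.2
  refine ⟨m * n, mem_cz.2 (mul_inv_eq_iff_eq_mul.1 ?_), ?_⟩
  · calc m * n * z * (m * (n : G))⁻¹ = m * ((n : G) * z * (n : G)⁻¹) * m⁻¹ := by group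
      _ = z := by rw [hnz]; group
  · calc m * n * y * (m * (n : G))⁻¹ = m * ((n : G) * y * (n : G)⁻¹) * m⁻¹ := by group
      _ = e := by rw [hny, mul_inv_cancel_right, hm]

omit [Finite T] in
/-- A fixed conjugate outside the subgroup of order three. -/
def Other (_M : Model U.zb U.qb ψ) (n : N) : Prop :=
  (n : G) ∈ U.a0 _M ∧ IsConj y (n : G) ∧ (n : G) * z = z * n ∧ π n ≠ 1

theorem other_img {n : N} (h : U.Other M n) :
    ∃ b c : Fin 3, (b = 0 ∨ c = 0) ∧ (b, c) ≠ (0, 0) ∧ ρ n = el3 0 b c := by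
  obtain ⟨hA, hc, hz, hn⟩ := h
  have hF : (n : G) ∈ U.a0 M ⊓ centralizer ({z} : Set G) := ⟨hA, mem_cz.2 hz⟩
  obtain ⟨c', hc', e⟩ := U.exists_conj_cent M hc hz
  have hρ : ρ c' * g0 * (ρ c')⁻¹ = ρ n := by
    rw [← e, U.setup.ρ_mul _ (mul_mem hc' U.mem) _ (inv_mem hc'), U.setup.ρ_mul _ hc' _ U.mem, U.setup.ρ_inv hc', U.img]
  obtain ⟨a, b, c, habc⟩ := ((U.fixed_abelian M).1 _ hF).1
  rw [el3_reduce] at habc
  have hsupp := support_of_conj (Nat.mod_lt a (show 0 < 3 by norm_num)) (Nat.mod_lt b (show 0 < 3 by norm_num))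
    (Nat.mod_lt c (show 0 < 3 by norm_num)) (hρ.trans habc)
  have hbc0 : ¬ (b % 3 = 0 ∧ c % 3 = 0) := by
    rintro ⟨hb0, hc0⟩
    rw [hb0, hc0, el3, pow_zero, pow_zero, mul_one, mul_one] at habc
    have hy : y ^ (a % 3) ∈ U.a0 M ⊓ centralizer ({z} : Set G) :=
      ⟨pow_mem (U.y_a0 M) _, pow_mem U.mem _⟩
    have h1 := ((U.fixed_abelian M).1 _ (mul_mem hF (inv_mem hy))).2.1 (by
      rw [U.setup.ρ_mul _ hF.2 _ (inv_mem hy.2), U.setup.ρ_inv hy.2, U.setup.ρ_pow U.mem, U.img, habc, mul_inv_cancel])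
    exact hn (U.pi_y (a % 3) (mul_inv_eq_one.1 h1))
  have ha0 : a % 3 = 0 := by omega
  rw [ha0] at habc
  refine ⟨⟨b % 3, Nat.mod_lt _ (by norm_num)⟩, ⟨c % 3, Nat.mod_lt _ (by norm_num)⟩, ?_, ?_, habc⟩
  · simp only [Fin.ext_iff, Fin.val_zero]; omega
  · intro h
    exact hbc0 ⟨congrArg (fun p : Fin 3 × Fin 3 => (p.1 : ℕ)) h, congrArg (fun p : Fin 3 × Fin 3 => (p.2 : ℕ)) h⟩

theorem other_unique {n n' : N} (h : U.Other M n) (h' : U.Other M n') (e : π n = π n') : n = n' := by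
  obtain ⟨b, c, -, -, hb⟩ := U.other_img M h
  obtain ⟨b', c', -, -, hb'⟩ := U.other_img M h'
  obtain ⟨k, hk⟩ := U.pi_eq e
  have hρ : el3 0 b c = el3 0 b' c' * g0 ^ k := by
    rw [← hb, ← hb', hk, U.setup.ρ_mul _ (mem_cz.2 h'.2.2.1) _ (pow_mem U.mem k), U.setup.ρ_pow U.mem, U.img]
  have hg : g0 ^ k = el3 k 0 0 := by simp [el3]
  have h1 : el3 (k + 0) (b' + 0 + 2 * b) (c' + 0 + 2 * c) = 1 := by
    have hinv : el3 0 b c * el3 0 (2 * b) (2 * c) = 1 := by
      rw [el3_mul, show (0 : ℕ) + 0 = 3 * 0 by rfl, show (b : ℕ) + 2 * b = 3 * b by ring,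
        show (c : ℕ) + 2 * c = 3 * c by ring, el3_reduce]
      simp [el3]
    rw [hρ, hg, el3_mul, el3_mul, zero_add] at hinv
    exact hinv
  rw [el3_reduce] at h1
  have hk0 := (el3_inj (Nat.mod_lt _ (by norm_num)) (Nat.mod_lt _ (by norm_num)) (Nat.mod_lt _ (by norm_num)) h1).1
  refine Subtype.ext ?_
  rw [hk, pow_eq_pow_mod k U.cube, show k % 3 = 0 by omega, pow_zero, mul_one]

variable (hψ : ψ aC ∈ U.hb 0)
include hψ

theorem orb_lift {τ : T} (hτ : M.Orb τ) : ∃ n : N, (n : G) ∈ U.a0 M ∧ IsConj y (n : G) ∧ π n = τ := by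
  obtain ⟨g, hg, rfl⟩ := hτ
  obtain ⟨w, hw, hwe⟩ := U.hb_mem.1 hψ
  have hwA : (w : G) ∈ U.a0 M := (U.mem_a0 M).2 ⟨w.2, hwe ▸ M.grpP_le_grpA M.aX_mem.1⟩
  have hwC : (w : G) ∈ centralizer ({z} : Set G) := (U.toGens.side_CY 0 hw).1
  obtain ⟨-, hw1, hw3⟩ := (U.fixed_abelian M).1 _ ⟨hwA, hwC⟩
  obtain ⟨a, ha, j, hj⟩ := hw
  have hρ : ρ (w : G) = pr3 0 ^ (j % 3) := by rw [hj, U.toGens.side_rho ha, ← pow_eq_pow_mod j (pr3_pow 0)]
  have hconj : IsConj y (w : G) := by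
    have hlt := Nat.mod_lt j (show 0 < 3 by norm_num)
    obtain ⟨h, hh, he⟩ := pr3_conj 0
    interval_cases hj3 : j % 3
    · exfalso
      rw [pow_zero] at hρ
      exact M.a_ne (by rw [← hwe, show w = 1 from Subtype.ext (hw1 hρ), map_one])
    · exact U.toData.isConj_of_img hwC hw3 hh (by rw [hρ, pow_one, he])
    · obtain ⟨i, hi, hie⟩ := exists_pr3_inverter
      refine U.toData.isConj_of_img hwC hw3 (mul_mem (mem_cent0.1 hi).1 hh) ?_
      calc i * h * g0 * (i * h)⁻¹ = i * (h * g0 * h⁻¹) * i⁻¹ := by group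
        _ = ρ (w : G) := by rw [he, hie, hρ, pow_two]
  obtain ⟨n, rfl⟩ := U.surj g
  exact ⟨n * w * n⁻¹, U.conj_a0 M hg hwA, hconj.trans (isConj_iff.2 ⟨n, rfl⟩), by rw [map_mul, map_mul, map_inv, hwe]⟩

theorem other_facts : (∀ n, U.Other M n → M.Orb (π n)) ∧ ∀ i, ∃ n, U.Other M n ∧ ρ (n : G) = pr3 i := by
  classical
  have hl : ∀ τ : {e : T // ∃ c ∈ [aC, mC aC aC, 16, mC 16 16], ψ c = e}, ∃ n, U.Other M n ∧ π n = τ := by
    rintro ⟨τ, c, hc, rfl⟩
    obtain ⟨ho, hcz⟩ := M.orb_four hc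
    obtain ⟨n, hA, hcj, hn⟩ := U.orb_lift M hψ ho
    exact ⟨n, ⟨hA, hcj, U.fixed_lift (hn ▸ hcz), hn ▸ M.orb_ne_one ho⟩, hn⟩
  choose f hf hfe using hl
  let F : {e : T // ∃ c ∈ [aC, mC aC aC, 16, mC 16 16], ψ c = e} → {n : N // U.Other M n} := fun τ => ⟨f τ, hf τ⟩
  have hFi : Function.Injective F := fun τ τ' e =>
    Subtype.ext (by rw [← hfe τ, ← hfe τ', show f τ = f τ' from congrArg Subtype.val e])
  choose gb gc hg1 hg2 hg3 using fun n : {n : N // U.Other M n} => U.other_img M n.2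
  let Gm : {n : N // U.Other M n} → {p : Fin 3 × Fin 3 // (p.1 = 0 ∨ p.2 = 0) ∧ p ≠ (0, 0)} :=
    fun n => ⟨(gb n, gc n), hg1 n, hg2 n⟩
  have hGi : Function.Injective Gm := fun n n' e => by
    have e' := congrArg Subtype.val e
    have hb : gb n = gb n' := congrArg Prod.fst e'
    have hc : gc n = gc n' := congrArg Prod.snd e'
    have hmem : ∀ m : {n : N // U.Other M n}, ((m : N) : G) ∈ U.a0 M ⊓ centralizer ({z} : Set G) :=
      fun m => ⟨m.2.1, mem_cz.2 m.2.2.2.1⟩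
    have h1 := ((U.fixed_abelian M).1 _ (mul_mem (hmem n) (inv_mem (hmem n')))).2.1 (by
      rw [U.setup.ρ_mul _ (hmem n).2 _ (inv_mem (hmem n').2), U.setup.ρ_inv (hmem n').2, hg3 n, hg3 n', hb, hc,
        mul_inv_cancel])
    exact Subtype.ext (Subtype.ext (mul_inv_eq_one.1 h1))
  have h4 : Nat.card {n : N // U.Other M n} = 4 := le_antisymm
    ((Nat.card_le_card_of_injective Gm hGi).trans_eq four_pairs)
    (M.card_four.symm.trans_le (Nat.card_le_card_of_injective F hFi))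
  have hFs := (hFi.bijective_of_nat_card_le (by rw [h4, M.card_four])).2
  have hGs := (hGi.bijective_of_nat_card_le (by rw [h4, four_pairs])).2
  refine ⟨fun n hn => ?_, fun i => ?_⟩
  · obtain ⟨τ, hτ⟩ := hFs ⟨n, hn⟩
    rw [← show f τ = n from congrArg Subtype.val hτ, hfe]
    obtain ⟨c, hc, e⟩ := τ.2
    exact e ▸ (M.orb_four hc).1
  · fin_cases i
    · obtain ⟨n, hn⟩ := hGs ⟨(1, 0), by decide⟩
      refine ⟨n.1, n.2, ?_⟩
      have e' := congrArg Subtype.val hn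
      rw [hg3 n, show gb n = 1 from congrArg Prod.fst e', show gc n = 0 from congrArg Prod.snd e']
      simp [el3]
    · obtain ⟨n, hn⟩ := hGs ⟨(0, 1), by decide⟩
      refine ⟨n.1, n.2, ?_⟩
      have e' := congrArg Subtype.val hn
      rw [hg3 n, show gb n = 0 from congrArg Prod.fst e', show gc n = 1 from congrArg Prod.snd e']
      simp [el3]

theorem exists_move_fixed {n : N} (hA : (n : G) ∈ U.a0 M) (hc : IsConj y (n : G)) (h1 : π n ≠ 1) :
    ∃ g : N, π g ∈ normalizer (M.grpA : Set T) ∧ U.Other M (g * n * g⁻¹) := by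
  obtain ⟨hN, hnA⟩ := (U.mem_a0 M).1 hA
  obtain ⟨τ, hτ, hz⟩ := M.fixed_by_invol (p := π n) hnA
  obtain ⟨g, rfl⟩ := U.surj τ
  refine ⟨g, hτ, U.conj_a0 M hτ hA, hc.trans (isConj_iff.2 ⟨g, rfl⟩), U.fixed_lift ?_, fun h => h1 ?_⟩
  · rw [map_mul, map_mul, map_inv]; exact hz
  · rw [map_mul, map_mul, map_inv] at h
    exact conj_eq_one_iff.1 h

theorem pi_orb {n : N} (hA : (n : G) ∈ U.a0 M) (hc : IsConj y (n : G)) (h1 : π n ≠ 1) : M.Orb (π n) := by
  obtain ⟨g, hg, ho⟩ := U.exists_move_fixed M hψ hA hc h1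
  have h := M.orb_conj ((U.other_facts M hψ).1 _ ho) (inv_mem hg)
  rwa [map_mul, map_mul, map_inv, show (π g)⁻¹ * (π g * π n * (π g)⁻¹) * (π g)⁻¹⁻¹ = π n by group] at h

theorem lift_unique {n n' : N} (hA : (n : G) ∈ U.a0 M) (hc : IsConj y (n : G)) (hA' : (n' : G) ∈ U.a0 M)
    (hc' : IsConj y (n' : G)) (h1 : π n ≠ 1) (e : π n = π n') : n = n' := by
  obtain ⟨g, hg, ho⟩ := U.exists_move_fixed M hψ hA hc h1
  have ho' : U.Other M (g * n' * g⁻¹) := by
    obtain ⟨_, _, hz, hne⟩ := ho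
    obtain ⟨k, hk⟩ := U.pi_eq (m := g * n' * g⁻¹) (n := g * n * g⁻¹) (by simp only [map_mul, e])
    refine ⟨U.conj_a0 M hg hA', hc'.trans (isConj_iff.2 ⟨g, rfl⟩), ?_, ?_⟩
    · rw [hk]
      exact ((show Commute (((g * n * g⁻¹ : N) : G)) z from hz).mul_left
        ((show Commute y z from U.toData.y_comm).pow_left k)).eq
    · simp only [map_mul, map_inv, ← e]
      simpa only [map_mul, map_inv] using hne
  exact mul_left_cancel (mul_right_cancel (U.other_unique M ho ho' (by simp only [map_mul, e])))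

theorem card_conjY : Nat.card {e : G // e ∈ U.a0 M ∧ IsConj y e} = 22 := by
  classical
  have hyN : ∀ k : ℕ, y ^ k ∈ N := fun k => pow_mem ((U.memN y).2 rfl) k
  choose f hfA hfc hfe using fun τ : {τ : T // M.Orb τ} => U.orb_lift M hψ τ.2
  let F : Bool ⊕ {τ : T // M.Orb τ} → {e : G // e ∈ U.a0 M ∧ IsConj y e} :=
    Sum.elim (fun b => if b then ⟨y, U.y_a0 M, IsConj.refl y⟩
      else ⟨y * y, mul_mem (U.y_a0 M) (U.y_a0 M), U.toData.isConj_sq⟩) fun τ => ⟨f τ, hfA τ, hfc τ⟩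
  have hyy : y * y ≠ y := fun h => U.toData.y_ne (mul_eq_left.1 h)
  have hpi : ∀ (b : Bool) (n : N), (n : G) = F (Sum.inl b) → π n = 1 := by
    rintro (_ | _) n hn
    · exact U.pi_y 2 (hn.trans (pow_two y).symm)
    · exact U.pi_y 1 (hn.trans (pow_one y).symm)
  have hF : Function.Bijective F := by
    refine ⟨?_, fun e => ?_⟩
    · rintro (b | τ) (b' | τ') h <;> have h' := congrArg Subtype.val h
      · cases b <;> cases b' <;> first | rfl | exact absurd h' hyy | exact absurd h'.symm hyy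
      · exact absurd (hfe τ' ▸ hpi b (f τ') h'.symm) (M.orb_ne_one τ'.2)
      · exact absurd (hfe τ ▸ hpi b' (f τ) h') (M.orb_ne_one τ.2)
      · exact congrArg Sum.inr (Subtype.ext (by rw [← hfe τ, ← hfe τ', show f τ = f τ' from Subtype.ext h']))
    · obtain ⟨hN, -⟩ := (U.mem_a0 M).1 e.2.1
      by_cases h1 : π ⟨(e : G), hN⟩ = 1
      · rcases conj_pow_cases U.cube ((U.ker _).1 h1) (fun h => U.toData.y_ne (by
          obtain ⟨g, hg⟩ := isConj_iff.1 e.2.2
          exact conj_eq_one_iff.1 (hg.trans h))) with h | h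
        · exact ⟨Sum.inl true, Subtype.ext h.symm⟩
        · exact ⟨Sum.inl false, Subtype.ext h.symm⟩
      · let τ : {τ : T // M.Orb τ} := ⟨_, U.pi_orb M hψ (n := ⟨(e : G), hN⟩) e.2.1 e.2.2 h1⟩
        refine ⟨Sum.inr τ, Subtype.ext ?_⟩
        exact (congrArg Subtype.val (U.lift_unique M hψ (n := ⟨(e : G), hN⟩) e.2.1 e.2.2 (hfA τ) (hfc τ) h1
          (hfe τ).symm)).symm
  rw [← Nat.card_eq_of_bijective F hF, Nat.card_sum, M.card_orb]
  simp

theorem card_normalizer : Nat.card (normalizer (U.a0 M : Set G)) = 1924560 := by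
  have h := CfsgLib.Spor.SuzType.card_orbit_mul (normalizer (U.a0 M : Set G)) y
  rw [show normalizer (U.a0 M : Set G) ⊓ centralizer ({y} : Set G) = normalizer (U.a0 M : Set G) ⊓ N from
    le_antisymm (fun g hg => ⟨hg.1, (U.memN g).2 (mem_cz.1 hg.2)⟩) (fun g hg => ⟨hg.1, mem_cz.2 ((U.memN g).1 hg.2)⟩),
    U.card_norm_inf M] at h
  have e : Nat.card {e : G // ∃ g ∈ normalizer (U.a0 M : Set G), g * y * g⁻¹ = e} =
      Nat.card {e : G // e ∈ U.a0 M ∧ IsConj y e} := Nat.card_congr (Equiv.subtypeEquivRight fun e =>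
    ⟨fun ⟨g, hg, h⟩ => ⟨h ▸ (mem_normalizer_iff.1 hg y).1 (U.y_a0 M), isConj_iff.2 ⟨g, h⟩⟩,
      fun ⟨h1, h2⟩ => U.transitive M h1 h2⟩)
  rw [e, U.card_conjY M hψ] at h
  omega

omit hψ in
omit [Finite T] in
/-- An element of the normalizer keeping each pair of inverse conjugates. -/
def Signed (_M : Model U.zb U.qb ψ) (k : G) : Prop :=
  k ∈ normalizer (U.a0 _M : Set G) ∧
    ∀ e ∈ U.a0 _M, IsConj y e → k * e * k⁻¹ = e ∨ k * e * k⁻¹ = e * e

omit hψ in
theorem conj_mem {h e : G} (hh : h ∈ normalizer (U.a0 M : Set G)) (he : e ∈ U.a0 M) (hc : IsConj y e) :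
    h * e * h⁻¹ ∈ U.a0 M ∧ IsConj y (h * e * h⁻¹) :=
  ⟨(mem_normalizer_iff.1 hh e).1 he, hc.trans (isConj_iff.2 ⟨h, rfl⟩)⟩

omit hψ in
theorem four_eq {e : G} (he : e ∈ U.a0 M) : e * e * (e * e) = e := by
  rw [show e * e * (e * e) = e ^ 3 * e by simp only [pow_succ, pow_zero, one_mul, mul_assoc],
    (U.elementary M).2 e he, one_mul]

omit hψ in
theorem signed_mul {k l : G} (hk : U.Signed M k) (hl : U.Signed M l) : U.Signed M (k * l) := by
  refine ⟨mul_mem hk.1 hl.1, fun e he hc => ?_⟩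
  rw [show k * l * e * (k * l)⁻¹ = k * (l * e * l⁻¹) * k⁻¹ by group]
  rcases hl.2 e he hc with h | h <;> rw [h]
  · exact hk.2 e he hc
  · rw [show k * (e * e) * k⁻¹ = k * e * k⁻¹ * (k * e * k⁻¹) by group]
    rcases hk.2 e he hc with h' | h' <;> rw [h']
    · exact Or.inr rfl
    · exact Or.inl (U.four_eq M he)

omit hψ in
theorem signed_inv {k : G} (hk : U.Signed M k) : U.Signed M k⁻¹ := by
  refine ⟨inv_mem hk.1, fun e he hc => ?_⟩
  rcases hk.2 e he hc with h | h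
  · left
    calc k⁻¹ * e * k⁻¹⁻¹ = k⁻¹ * (k * e * k⁻¹) * k := by rw [h, inv_inv]
      _ = e := by group
  · right
    have h2 : k⁻¹ * e * k⁻¹⁻¹ * (k⁻¹ * e * k⁻¹⁻¹) = e := by
      calc k⁻¹ * e * k⁻¹⁻¹ * (k⁻¹ * e * k⁻¹⁻¹) = k⁻¹ * (e * e) * k := by group
        _ = e := by rw [← h]; group
    have := U.four_eq M (U.conj_mem M (inv_mem hk.1) he hc).1
    rw [h2] at this
    exact this.symm

omit hψ in
theorem signed_conj {k h : G} (hk : U.Signed M k) (hh : h ∈ normalizer (U.a0 M : Set G)) :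
    U.Signed M (h⁻¹ * k * h) := by
  refine ⟨mul_mem (mul_mem (inv_mem hh) hk.1) hh, fun e he hc => ?_⟩
  obtain ⟨h1, h2⟩ := U.conj_mem M hh he hc
  rw [show h⁻¹ * k * h * e * (h⁻¹ * k * h)⁻¹ = h⁻¹ * (k * (h * e * h⁻¹) * k⁻¹) * h by group]
  rcases hk.2 _ h1 h2 with h' | h' <;> rw [h']
  · exact Or.inl (by group)
  · exact Or.inr (by group)

omit hψ in
theorem signed_a0 {k : G} (hk : k ∈ U.a0 M) : U.Signed M k :=
  ⟨le_normalizer hk, fun e he _ => Or.inl (by rw [(U.elementary M).1 k hk e he, mul_inv_cancel_right])⟩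

theorem signed_fix {k : G} (hk : U.Signed M k) (hy : k * y = y * k) : k ∈ U.a0 M := by
  set n : N := ⟨k, (U.memN k).2 hy⟩ with hn
  have hτ : π n ∈ normalizer (M.grpA : Set T) := (U.norm_iff M).1 hk.1
  set τ := π n with hτd
  have hsign : ∀ e, M.Orb e → τ * e * τ⁻¹ = e ∨ τ * e * τ⁻¹ = e * e := by
    intro e he
    obtain ⟨w, hwA, hwc, rfl⟩ := U.orb_lift M hψ he
    rcases hk.2 _ hwA hwc with h | h
    · left
      rw [hτd, ← map_inv, ← map_mul, ← map_mul]
      exact congrArg π (Subtype.ext h)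
    · right
      rw [hτd, ← map_inv, ← map_mul, ← map_mul, ← map_mul]
      exact congrArg π (Subtype.ext h)
  have hee : ∀ e, M.Orb e → e * e * (e * e) = e := fun e he => by
    rw [show e * e * (e * e) = e ^ 3 * e by simp only [pow_succ, pow_zero, one_mul, mul_assoc], M.orb_cube he, one_mul]
  have hsq : τ * τ ∈ M.grpA := by
    refine M.cent_grpA fun a ha => (mem_centralizer_singleton_iff.1 ((M.orb_span
      (W := centralizer ({τ * τ} : Set T)) fun e he => mem_centralizer_singleton_iff.2 ?_) ha)).symm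
    symm
    rw [← mul_inv_eq_iff_eq_mul, show τ * τ * e * (τ * τ)⁻¹ = τ * (τ * e * τ⁻¹) * τ⁻¹ by group]
    rcases hsign e he with h | h <;> rw [h]
    · exact h
    · rw [show τ * (e * e) * τ⁻¹ = τ * e * τ⁻¹ * (τ * e * τ⁻¹) by group, h, hee e he]
  refine (U.mem_a0 M).2 ⟨n.2, ?_⟩
  show τ ∈ M.grpA
  by_contra hτA
  set i := τ * τ * τ with hi
  have hi2 : i * i = 1 := by
    rw [show i * i = (τ * τ) ^ 3 by rw [hi]; simp only [pow_succ, pow_zero, one_mul, mul_assoc], M.grpA_cube hsq]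
  have hi1 : i ≠ 1 := fun h => hτA (by
    rw [show τ = (τ * τ)⁻¹ from (inv_eq_of_mul_eq_one_right h).symm]; exact inv_mem hsq)
  obtain ⟨g, hg, hgi⟩ := M.invol_conj (mul_mem (mul_mem hτ hτ) hτ) hi2 hi1
  obtain ⟨e, he, heP⟩ := M.orb_outside
  have he' : M.Orb (g⁻¹ * e * g) := by
    have := M.orb_conj he (inv_mem hg)
    rwa [inv_inv] at this
  have hact : U.zb * e * U.zb = g * (τ * (g⁻¹ * e * g) * τ⁻¹) * g⁻¹ := by
    have hc : τ * τ * (τ * (g⁻¹ * e * g) * τ⁻¹) * (τ * τ)⁻¹ = τ * (g⁻¹ * e * g) * τ⁻¹ :=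
      mul_inv_eq_iff_eq_mul.2 (M.grpA_comm hsq (M.normA hτ (M.orb_grpA he')))
    have hzinv : U.zb = U.zb⁻¹ := eq_inv_of_mul_eq_one_left M.zz
    calc U.zb * e * U.zb = U.zb * e * U.zb⁻¹ := by rw [← hzinv]
      _ = g * (τ * τ * (τ * (g⁻¹ * e * g) * τ⁻¹) * (τ * τ)⁻¹) * g⁻¹ := by rw [← hgi]; group
      _ = _ := by rw [hc]
  rcases hsign _ he' with h | h <;> rw [h] at hact
  · refine heP ?_
    have h' : U.zb * e * U.zb = e := hact.trans (by group)
    exact M.fixed_A (M.orb_grpA he) ((M.z_fixed_iff e).1 h')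
  · refine M.orb_nonreal he ?_
    rw [hact, show g * (g⁻¹ * e * g * (g⁻¹ * e * g)) * g⁻¹ = e * e by group]
    exact (inv_eq_of_mul_eq_one_right (by rw [← pow_two, ← pow_succ']; exact M.orb_cube he)).symm

theorem signed_mem {k : G} (hk : U.Signed M k) : k ∈ U.a0 M := by
  rcases hk.2 y (U.y_a0 M) (IsConj.refl y) with h | h
  · exact U.signed_fix M hψ hk (mul_inv_eq_iff_eq_mul.1 h)
  exfalso
  have hzH : z ∈ normalizer (U.a0 M : Set G) := (U.norm_iff M (n := ⟨z, U.z_N⟩)).2 M.z_norm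
  have hzk : U.Signed M (z * k * z) := by
    have := U.signed_conj M hk hzH
    rwa [U.setup.z_inv] at this
  set w := z * k * z * k⁻¹ with hw
  have hzy : z * y * z = y := by rw [← U.toData.y_comm, mul_assoc, U.setup.zz, mul_one]
  have hwy : w * y = y * w := by
    rw [← mul_inv_eq_iff_eq_mul]
    have hk' : k⁻¹ * y * k = y * y := by
      have h' : k * (y * y) * k⁻¹ = y := by
        rw [show k * (y * y) * k⁻¹ = k * y * k⁻¹ * (k * y * k⁻¹) by group, h, U.four_eq M (U.y_a0 M)]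
      calc k⁻¹ * y * k = k⁻¹ * (k * (y * y) * k⁻¹) * k := by rw [h']
        _ = y * y := by group
    calc w * y * w⁻¹ = z * k * (z * (k⁻¹ * y * k) * z⁻¹) * k⁻¹ * z⁻¹ := by rw [hw]; group
      _ = z * k * (z * y * z * (z * y * z)) * k⁻¹ * z := by
          rw [hk', U.setup.z_inv]; simp only [mul_assoc]; rw [← mul_assoc z z, U.setup.zz, one_mul]
      _ = z * (k * y * k⁻¹ * (k * y * k⁻¹)) * z := by rw [hzy]; group
      _ = y := by rw [h, U.four_eq M (U.y_a0 M), hzy]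
  have hwA : w ∈ U.a0 M := U.signed_fix M hψ (U.signed_mul M hzk (U.signed_inv M hk)) hwy
  have hw3 : w ^ 3 = 1 := (U.elementary M).2 w hwA
  have hzwz : z * w * z = w⁻¹ := by
    rw [hw, mul_inv_rev, inv_inv, mul_inv_rev, mul_inv_rev, U.setup.z_inv]
    calc z * (z * k * z * k⁻¹) * z = z * z * k * z * k⁻¹ * z := by group
      _ = _ := by rw [U.setup.zz, one_mul]; group
  set l := w * w * k with hl
  have hlS : U.Signed M l := U.signed_mul M (U.signed_a0 M (mul_mem hwA hwA)) hk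
  have hly : l * y * l⁻¹ = y * y := by
    calc l * y * l⁻¹ = w * w * (k * y * k⁻¹) * (w * w)⁻¹ := by rw [hl]; group
      _ = y * y := by
          rw [h, mul_inv_eq_iff_eq_mul]
          exact (U.elementary M).1 _ (mul_mem hwA hwA) _ (mul_mem (U.y_a0 M) (U.y_a0 M))
  have hlz : l * z = z * l := by
    have e : z * l * z = l := by
      calc z * l * z = z * w * z * (z * w * z) * (z * k * z) := by
            rw [hl]; simp only [mul_assoc]
            rw [← mul_assoc z z (w * (z * (z * (k * z)))), U.setup.zz, one_mul, ← mul_assoc z z (k * z), U.setup.zz, one_mul]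
        _ = w⁻¹ * w⁻¹ * (w * k) := by rw [hzwz, show z * k * z = w * k by rw [hw, inv_mul_cancel_right]]
        _ = w⁻¹ * k := by group
        _ = l := by
            rw [hl]
            congr 1
            exact inv_eq_of_mul_eq_one_right (by rw [← mul_assoc, ← pow_two, ← pow_succ]; exact hw3)
    calc l * z = z * l * z * z := by rw [e]
      _ = z * l := by rw [mul_assoc (z * l), U.setup.zz, mul_one]
  have hall : ∀ e ∈ U.a0 M, IsConj y e → l * e * l⁻¹ = e * e := by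
    intro e he hc
    refine (hlS.2 e he hc).resolve_left fun hfix => ?_
    obtain ⟨g, hg, hge⟩ := U.transitive M he hc
    have hm := U.signed_fix M hψ (U.signed_conj M hlS hg) (mul_inv_eq_iff_eq_mul.1 (by
      calc g⁻¹ * l * g * y * (g⁻¹ * l * g)⁻¹ = g⁻¹ * (l * (g * y * g⁻¹) * l⁻¹) * g := by group
        _ = g⁻¹ * (g * y * g⁻¹) * g := by rw [hge, hfix]
        _ = y := by group))
    have hlA : l ∈ U.a0 M := by
      have := (mem_normalizer_iff.1 hg _).1 hm
      rwa [show g * (g⁻¹ * l * g) * g⁻¹ = l by group] at this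
    rw [U.y_central M hlA, mul_inv_cancel_right] at hly
    exact U.toData.y_ne (mul_eq_left.1 hly.symm)
  have hlC : l ∈ centralizer ({z} : Set G) := mem_cz.2 hlz
  have S := U.setup
  refine no_inverter (S.ρ_mem l hlC) ?_ fun i => ?_
  · rw [← U.img, ← S.ρ_inv hlC, ← S.ρ_mul _ hlC _ U.mem, ← S.ρ_mul _ (mul_mem hlC U.mem) _ (inv_mem hlC), hly,
      S.ρ_mul _ U.mem _ U.mem]
  · obtain ⟨n, ⟨hA, hc, hz, -⟩, hρ⟩ := (U.other_facts M hψ).2 i
    have hnC : (n : G) ∈ centralizer ({z} : Set G) := mem_cz.2 hz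
    rw [← hρ, ← S.ρ_inv hlC, ← S.ρ_mul _ hlC _ hnC, ← S.ρ_mul _ (mul_mem hlC hnC) _ (inv_mem hlC), hall _ hA hc,
      S.ρ_mul _ hnC _ hnC]

end Quo

end

end CfsgLib.Spor.SuzType.YCent
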