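import Cfsg.Agent.Lib.Spor.SuzType.YCent.ElevenQuot
import Cfsg.Agent.Lib.Spor.SuzType.Order

/-!
# A Sylow 3-subgroup contains a self-centralizing group of order 243 with `M₁₁` on top
-/

set_option autoImplicit false
set_option synthInstance.maxSize 4096

namespace CfsgLib.Spor.SuzType.YCent

open Subgroup CfsgLib.Spor.CoOneType

noncomputable section

/-- The properties of the group of order 243. -/
def Eleven {G : Type*} [Group G] (A : Subgroup G) : Prop :=
  Cfsg.IsElementaryAbelian 3 A ∧ Nat.card A = 3 ^ 5 ∧ centralizer (A : Set G) = A ∧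
    ∃ _ : (A.subgroupOf (normalizer (A : Set G))).Normal,
      Cfsg.Spor.IsoM11 (↥(normalizer (A : Set G)) ⧸ A.subgroupOf (normalizer (A : Set G)))

theorem eleven_map {G : Type*} [Group G] {A : Subgroup G} (e : G ≃* G) (h : Eleven A) :
    Eleven (A.map e.toMonoidHom) := by
  obtain ⟨⟨hab, h3⟩, hc, hC, hn, hi⟩ := h
  refine ⟨⟨⟨⟨?_⟩⟩, ?_⟩, by rw [Subgroup.card_map_of_injective e.injective, hc], ?_, ?_⟩
  · rintro ⟨_, a, ha, rfl⟩ ⟨_, b, hb, rfl⟩
    refine Subtype.ext ?_
    show e a * e b = e b * e a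
    rw [← map_mul, ← map_mul]
    exact congrArg e (congrArg Subtype.val (hab.is_comm.comm ⟨a, ha⟩ ⟨b, hb⟩))
  · rintro _ ⟨a, ha, rfl⟩
    show e a ^ 3 = 1
    rw [← map_pow, h3 a ha, map_one]
  · refine le_antisymm (fun g hg => ?_) ?_
    · refine ⟨e.symm g, ?_, e.apply_symm_apply g⟩
      rw [← hC]
      refine mem_centralizer_iff.2 fun a ha => e.injective ?_
      rw [map_mul, map_mul, e.apply_symm_apply]
      exact mem_centralizer_iff.1 hg (e a) ⟨a, ha, rfl⟩
    · rintro _ ⟨a, ha, rfl⟩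
      rw [← hC] at ha
      refine mem_centralizer_iff.2 ?_
      rintro _ ⟨b, hb, rfl⟩
      show e b * e a = e a * e b
      rw [← map_mul, ← map_mul, mem_centralizer_iff.1 ha b hb]
  · haveI := hn
    haveI hn' : ((A.map e.toMonoidHom).subgroupOf (normalizer (A.map e.toMonoidHom : Set G))).Normal :=
      Subgroup.normal_in_normalizer
    obtain ⟨i⟩ := hi
    let f : normalizer (A : Set G) ≃* normalizer (A.map e.toMonoidHom : Set G) :=
      (e.subgroupMap (normalizer (A : Set G))).trans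
        (MulEquiv.subgroupCongr (Subgroup.map_equiv_normalizer_eq A e))
    refine ⟨hn', ⟨(QuotientGroup.congr _ _ f ?_).symm.trans i⟩⟩
    refine le_antisymm ?_ fun x hx => ?_
    · rintro _ ⟨a, ha, rfl⟩
      exact ⟨(a : G), ha, rfl⟩
    · obtain ⟨a, ha, hax⟩ := hx
      exact ⟨⟨a, le_normalizer ha⟩, ha, Subtype.ext hax⟩

variable {G : Type*} [Group G] [Finite G] {z : G} {Q : Subgroup G} {v : G → Vec}
  {ρ : G → Iso6} {y : G}

/-- The three-local statement. -/
theorem Data.three_local (D : Data z Q v ρ y) (hnwc : ∃ g : G, g * z * g⁻¹ ∈ Q ∧ g * z * g⁻¹ ≠ z)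
    (P : Sylow 3 (normalizer (zpowers y : Set G))) :
    ¬ 3 ∣ ((P : Subgroup (normalizer (zpowers y : Set G))).map (normalizer (zpowers y : Set G)).subtype).index ∧
      ∃ A : Subgroup G,
        A ≤ (P : Subgroup (normalizer (zpowers y : Set G))).map (normalizer (zpowers y : Set G)).subtype ∧
          Eleven A := by
  classical
  haveI : Fact (Nat.Prime 3) := ⟨Nat.prime_three⟩
  obtain ⟨t, Tg⟩ := D.exists_gens
  set N := centralizer (zpowers y : Set G) with hN
  have hmemN : ∀ n, n ∈ N ↔ n * y = y * n := fun n => by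
    refine ⟨fun h => (mem_centralizer_iff.1 h y (mem_zpowers y)).symm, fun h => mem_centralizer_iff.2 fun k hk => ?_⟩
    obtain ⟨i, rfl⟩ := mem_zpowers_iff.1 hk
    exact ((show Commute n y from h).zpow_right i).eq.symm
  haveI : ((zpowers y).subgroupOf N).Normal := ⟨fun a ha g => by
    rw [Subgroup.mem_subgroupOf] at ha ⊢
    rw [Subgroup.coe_mul, Subgroup.coe_mul, Subgroup.coe_inv, ← mem_centralizer_iff.1 g.2 (a : G) ha,
      mul_inv_cancel_right]
    exact ha⟩
  have U : Quo z Q v ρ y t N (QuotientGroup.mk' ((zpowers y).subgroupOf N)) :=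
    ⟨Tg, hmemN, QuotientGroup.mk'_surjective _, fun n => by
      rw [QuotientGroup.mk'_apply, QuotientGroup.eq_one_iff, Subgroup.mem_subgroupOf]⟩
  obtain ⟨ψ, M, hψ⟩ := U.exists_model hnwc
  have hNle : N ≤ (normalizer (zpowers y : Set G)) := centralizer_le_normalizer _
  have hcN : Nat.card N = 9797760 := by
    have h := ((zpowers y).subgroupOf N).card_mul_index
    rw [Nat.card_congr (Subgroup.subgroupOfEquivOfLe (zpowers_le.2 ((hmemN y).2 rfl))).toEquiv, Nat.card_zpowers,
      D.y_ord, Subgroup.index_eq_card, M.card_eq] at h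
    omega
  have hcNm : Nat.card (normalizer (zpowers y : Set G)) = 19595520 := by
    have h := (N.subgroupOf (normalizer (zpowers y : Set G))).card_mul_index
    rw [Nat.card_congr (Subgroup.subgroupOfEquivOfLe hNle).toEquiv, hcN,
      show (N.subgroupOf (normalizer (zpowers y : Set G))).index = 2 from D.relIndex_two] at h
    omega
  have hcG : Nat.card G = 448345497600 := by
    obtain ⟨g, hgQ, hne⟩ := hnwc
    obtain ⟨k, F⟩ := exists_pt D.setup hgQ hne
    obtain ⟨a, b, Tr⟩ := F.exists_tri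
    exact Tr.card_eq
  have hcP : Nat.card (P : Subgroup (normalizer (zpowers y : Set G))) = 2187 := by
    rw [P.card_eq_multiplicity, hcNm, show (19595520 : ℕ).factorization 3 = 7 by
      rw [show (19595520 : ℕ) = 3 ^ 7 * 8960 by norm_num, Nat.factorization_mul (by norm_num) (by norm_num),
        Nat.prime_three.factorization_pow, Finsupp.add_apply, Finsupp.single_eq_same,
        Nat.factorization_eq_zero_of_not_dvd (show ¬ 3 ∣ 8960 by norm_num)]]
    norm_num
  refine ⟨?_, ?_⟩
  · have h := ((P : Subgroup (normalizer (zpowers y : Set G))).map (normalizer (zpowers y : Set G)).subtype).card_mul_index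
    rw [Subgroup.card_map_of_injective (normalizer (zpowers y : Set G)).subtype_injective, hcP, hcG] at h
    rw [show ((P : Subgroup (normalizer (zpowers y : Set G))).map (normalizer (zpowers y : Set G)).subtype).index = 205004800 by omega]
    norm_num
  have hA : U.a0 M ≤ (normalizer (zpowers y : Set G)) := (U.a0_le M).trans hNle
  obtain ⟨P₀, hP₀⟩ := ((U.a0_pgroup M).of_equiv (Subgroup.subgroupOfEquivOfLe hA).symm).exists_le_sylow
  obtain ⟨g, hg⟩ := MulAction.exists_smul_eq (normalizer (zpowers y : Set G)) P₀ P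
  have hE : Eleven (U.a0 M) := ⟨by
      exact ⟨⟨⟨fun a b => Subtype.ext ((U.elementary M).1 a a.2 b b.2)⟩⟩, (U.elementary M).2⟩,
    (U.card_a0 M).trans (by norm_num), U.self_centralizing M, U.quotient_m11 M hψ⟩
  refine ⟨(U.a0 M).map (MulAut.conj (g : G)).toMonoidHom, ?_, eleven_map _ hE⟩
  rintro _ ⟨a, ha, rfl⟩
  refine ⟨g * ⟨a, hA ha⟩ * g⁻¹, ?_, rfl⟩
  show g * ⟨a, hA ha⟩ * g⁻¹ ∈ (P : Subgroup (normalizer (zpowers y : Set G)))
  rw [← hg, Sylow.coe_subgroup_smul]
  exact Subgroup.smul_mem_pointwise_smul _ (MulAut.conj g) _ (hP₀ (Subgroup.mem_subgroupOf.2 ha))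

end

end CfsgLib.Spor.SuzType.YCent
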