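import Cfsg.Agent.Lib.Spor.SuzType.YCent.Eleven
import Cfsg.Agent.Lib.Perm.DegEleven.Main

/-!
# The normalizer of the group of order 243 acts as `M₁₁`
-/

set_option autoImplicit false
set_option synthInstance.maxSize 4096

namespace CfsgLib.Spor.SuzType.YCent

open Subgroup MulAction

noncomputable section

theorem commutative_transitive_card {α : Type*} [Fintype α] [DecidableEq α] (hα : Fintype.card α = 11)
    {G : Subgroup (Equiv.Perm α)} (D : Subgroup G) [IsPretransitive D α]
    (hD : ∀ a ∈ D, ∀ b ∈ D, a * b = b * a) : Nat.card D = 11 := by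
  obtain ⟨a⟩ : Nonempty α := Fintype.card_pos_iff.1 (by omega)
  have hs : stabilizer D a = ⊥ := by
    rw [Subgroup.eq_bot_iff_forall]
    intro d hd
    refine Subtype.ext (Subtype.ext (Equiv.ext fun b => ?_))
    obtain ⟨k, rfl⟩ := exists_smul_eq D a b
    have hc : d * k = k * d := Subtype.ext (hD d d.2 k k.2)
    show d • k • a = k • a
    rw [← mul_smul, hc, mul_smul, mem_stabilizer_iff.1 hd]
  have h := index_stabilizer_of_transitive D a
  rwa [hs, Subgroup.index_bot, Nat.card_eq_fintype_card (α := α), hα] at h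

/-- A transitive group of degree eleven and of order 7920 is not solvable. -/
theorem not_solvable_eleven {α : Type*} [Fintype α] [DecidableEq α] (hα : Fintype.card α = 11)
    (G : Subgroup (Equiv.Perm α)) [IsPretransitive G α] (hG : Nat.card G = 7920) : ¬ Group.IsSolvable G := by
  classical
  haveI := Fact.mk (show Nat.Prime 11 by norm_num)
  intro h
  obtain ⟨n, hn⟩ := (Group.isSolvable_def G).1 h
  have hex : ∃ n, derivedSeries G n = ⊥ := ⟨n, hn⟩
  have hspec := Nat.find_spec hex
  obtain ⟨m, hm⟩ : ∃ m, Nat.find hex = m + 1 := ⟨Nat.find hex - 1, by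
    have h0 : Nat.find hex ≠ 0 := fun e => by
      rw [e, derivedSeries_zero] at hspec
      have := congrArg (fun K : Subgroup G => Nat.card K) hspec
      simp only [Subgroup.card_top, Subgroup.card_bot, hG] at this
      norm_num at this
    omega⟩
  rw [hm] at hspec
  set D := derivedSeries G m with hD
  have hne : D ≠ ⊥ := Nat.find_min hex (by omega)
  haveI hDn : D.Normal := derivedSeries_normal G m
  haveI := CfsgLib.Perm.DegEleven.transitive_of_normal_ne_bot hα G D hDn hne
  have hcomm : ∀ a ∈ D, ∀ b ∈ D, a * b = b * a := fun a ha b hb => by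
    have hm2 : a * b * a⁻¹ * b⁻¹ ∈ derivedSeries G (m + 1) := by
      rw [derivedSeries_succ]; exact Subgroup.commutator_mem_commutator ha hb
    rw [hspec, Subgroup.mem_bot] at hm2
    exact mul_inv_eq_iff_eq_mul.1 (mul_inv_eq_one.1 hm2)
  have hd := CfsgLib.Perm.DegSeven.card_normalizer_dvd (p := 11) (by omega) G D
    (commutative_transitive_card hα D hcomm)
  rw [Subgroup.normalizer_eq_top, Subgroup.card_top, hG, hα] at hd
  norm_num [Nat.factorial] at hd

/-- A transitive group of degree eleven and of order 7920 is `M₁₁`. -/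
theorem iso_m11_eleven {α : Type*} [Fintype α] [DecidableEq α] (hα : Fintype.card α = 11)
    (G : Subgroup (Equiv.Perm α)) [IsPretransitive G α] (hG : Nat.card G = 7920) :
    Nonempty (G ≃* ↥Cfsg.Spor.M11) := by
  classical
  haveI : Nontrivial α := Fintype.one_lt_card_iff_nontrivial.1 (by omega)
  have hs := not_solvable_eleven hα G hG
  have hA : ¬ alternatingGroup α ≤ G := fun h => by
    have h' := Subgroup.card_dvd_of_le h
    rw [nat_card_alternatingGroup, Nat.card_eq_fintype_card (α := α), hα, hG,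
      show (Nat.factorial 11) / 2 = 19958400 from rfl] at h'
    norm_num at h'
  obtain ⟨-, -, hsimp⟩ := CfsgLib.Perm.DegEleven.even_orders hα G hs hA
    (CfsgLib.Perm.DegEleven.le_alternating hα G hs hA)
  haveI := hsimp
  exact CfsgLib.Char.MEleven.Order.iso_m11_of_simple hG

open CfsgLib.Spor.CoOneType
open CfsgLib.Spor.UFourType (Model aC)

variable {G : Type*} [Group G] [Finite G] {z : G} {Q : Subgroup G} {v : G → Vec} {ρ : G → Iso6} {y : G}
  {t : Fin 2 → G} {T : Type*} [Group T] {N : Subgroup G} {π : N →* T}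

namespace Quo

variable (U : Quo z Q v ρ y t N π) {ψ : ℕ → T} [Finite T] (M : Model U.zb U.qb ψ) (hψ : ψ aC ∈ U.hb 0)
include U M hψ

omit [Finite T] in
/-- The stabilizer of the pair of the element and its inverse. -/
def pair (_hψ : ψ aC ∈ U.hb 0) : Subgroup (normalizer (U.a0 M : Set G)) :=
  (normalizer (zpowers y : Set G)).subgroupOf (normalizer (U.a0 M : Set G))

theorem mem_pair {h : normalizer (U.a0 M : Set G)} :
    h ∈ U.pair M hψ ↔ (h : G) * y * (h : G)⁻¹ = y ∨ (h : G) * y * (h : G)⁻¹ = y * y := by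
  rw [pair, Subgroup.mem_subgroupOf]
  constructor
  · intro hh
    refine conj_pow_cases U.cube ((mem_normalizer_iff.1 hh y).1 (mem_zpowers y)) fun e => U.toData.y_ne ?_
    exact conj_eq_one_iff.1 e
  · intro hh
    refine mem_norm_of_map fun a ha => ?_
    obtain ⟨i, rfl⟩ := mem_zpowers_iff.1 ha
    rw [← conj_zpow]
    rcases hh with e | e <;> rw [e]
    · exact zpow_mem (mem_zpowers y) i
    · exact zpow_mem (mul_mem (mem_zpowers y) (mem_zpowers y)) i

theorem index_pair : (U.pair M hψ).index = 11 := by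
  classical
  have hsq := U.toData.isConj_sq
  obtain ⟨m, hm, hmy⟩ := U.transitive M (mul_mem (U.y_a0 M) (U.y_a0 M)) hsq
  have hyy : y * y ≠ y := fun h => U.toData.y_ne (mul_eq_left.1 h)
  have hN : ∀ n : (normalizer (U.a0 M : Set G) ⊓ N : Subgroup G), (n : G) * y * (n : G)⁻¹ = y :=
    fun n => mul_inv_eq_iff_eq_mul.2 ((U.memN _).1 n.2.2)
  let el : Bool → G := fun b => if b then m else 1
  have hel : ∀ b, el b ∈ normalizer (U.a0 M : Set G) := by rintro (_ | _) <;> [exact one_mem _; exact hm]
  have helc : ∀ b (n : (normalizer (U.a0 M : Set G) ⊓ N : Subgroup G)),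
      el b * n * y * (el b * (n : G))⁻¹ = el b * y * (el b)⁻¹ := fun b n => by
    calc el b * n * y * (el b * (n : G))⁻¹ = el b * ((n : G) * y * (n : G)⁻¹) * (el b)⁻¹ := by group
      _ = _ := by rw [hN]
  let f : Bool × (normalizer (U.a0 M : Set G) ⊓ N : Subgroup G) → U.pair M hψ := fun x =>
    ⟨⟨el x.1 * x.2, mul_mem (hel x.1) x.2.2.1⟩, (U.mem_pair M hψ).2 (by
      show el x.1 * x.2 * y * (el x.1 * (x.2 : G))⁻¹ = y ∨ _
      rw [helc]
      cases x.1
      · left; simp [el]
      · right; exact hmy)⟩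
  have hf : Function.Bijective f := by
    refine ⟨fun x w e => ?_, fun k => ?_⟩
    · have e' : el x.1 * (x.2 : G) = el w.1 * w.2 := congrArg (fun k : U.pair M hψ => ((k : _) : G)) e
      have h1 : el x.1 * y * (el x.1)⁻¹ = el w.1 * y * (el w.1)⁻¹ := by rw [← helc x.1 x.2, e', helc]
      have hb : x.1 = w.1 := by
        revert h1
        cases x.1 <;> cases w.1 <;> simp [el, hmy, hyy, hyy.symm]
      rw [hb] at e'
      exact Prod.ext hb (Subtype.ext (mul_left_cancel e'))
    · rcases (U.mem_pair M hψ).1 k.2 with h | h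
      · exact ⟨(false, ⟨k.1.1, k.1.2, (U.memN _).2 (mul_inv_eq_iff_eq_mul.1 h)⟩),
          Subtype.ext (Subtype.ext (one_mul _))⟩
      · refine ⟨(true, ⟨m⁻¹ * (k.1.1 : G), Subgroup.mul_mem _ (Subgroup.inv_mem _ hm) k.1.2, (U.memN _).2 ?_⟩),
          Subtype.ext (Subtype.ext (mul_inv_cancel_left _ _))⟩
        rw [← mul_inv_eq_iff_eq_mul]
        calc m⁻¹ * k.1.1 * y * (m⁻¹ * (k.1.1 : G))⁻¹ = m⁻¹ * ((k.1.1 : G) * y * (k.1.1 : G)⁻¹) * m := by group
          _ = y := by rw [h, ← hmy]; group
  have hc : Nat.card (U.pair M hψ) = 174960 := by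
    rw [← Nat.card_eq_of_bijective f hf, Nat.card_prod, U.card_norm_inf M]
    simp
  have h := (U.pair M hψ).card_mul_index
  rw [hc, U.card_normalizer M hψ] at h
  omega

/-- The normalizer modulo the group of order 243 is `M₁₁`. -/
theorem quotient_m11 : ∃ _ : ((U.a0 M).subgroupOf (normalizer (U.a0 M : Set G))).Normal,
    Cfsg.Spor.IsoM11 (↥(normalizer (U.a0 M : Set G)) ⧸ (U.a0 M).subgroupOf (normalizer (U.a0 M : Set G))) := by
  classical
  set H := normalizer (U.a0 M : Set G) with hH
  set K := U.pair M hψ with hK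
  haveI hn : ((U.a0 M).subgroupOf H).Normal := Subgroup.normal_in_normalizer
  refine ⟨hn, ?_⟩
  let α := H ⧸ K
  letI : Fintype α := Fintype.ofFinite α
  have hα : Fintype.card α = 11 := by
    rw [← Nat.card_eq_fintype_card]; exact U.index_pair M hψ
  set φ := MulAction.toPermHom H α with hφ
  have hker : φ.ker = (U.a0 M).subgroupOf H := by
    rw [hφ, ← Subgroup.normalCore_eq_ker]
    refine le_antisymm (fun k hk => ?_) fun a ha => ?_
    · refine Subgroup.mem_subgroupOf.2 (U.signed_mem M hψ ⟨k.2, fun e he hc => ?_⟩)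
      obtain ⟨g, hg, hge⟩ := U.transitive M he hc
      have hmem : (⟨g, hg⟩ : H)⁻¹ * k * ⟨g, hg⟩ ∈ K := by
        have := hk ((⟨g, hg⟩ : H)⁻¹)
        rwa [inv_inv] at this
      rcases (U.mem_pair M hψ).1 hmem with h | h
      · left
        replace h : g⁻¹ * (k : G) * g * y * (g⁻¹ * (k : G) * g)⁻¹ = y := h
        calc (k : G) * e * (k : G)⁻¹ = g * (g⁻¹ * (k : G) * g * y * (g⁻¹ * (k : G) * g)⁻¹) * g⁻¹ := by
              rw [← hge]; group
          _ = e := by rw [h, hge]
      · right
        replace h : g⁻¹ * (k : G) * g * y * (g⁻¹ * (k : G) * g)⁻¹ = y * y := h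
        calc (k : G) * e * (k : G)⁻¹ = g * (g⁻¹ * (k : G) * g * y * (g⁻¹ * (k : G) * g)⁻¹) * g⁻¹ := by
              rw [← hge]; group
          _ = g * y * g⁻¹ * (g * y * g⁻¹) := by rw [h]; group
          _ = e * e := by rw [hge]
    · intro h
      refine (U.mem_pair M hψ).2 (Or.inl (mul_inv_eq_iff_eq_mul.2 ?_))
      exact U.y_central M ((mem_normalizer_iff.1 h.2 _).1 (Subgroup.mem_subgroupOf.1 ha))
  haveI : IsPretransitive φ.range α := ⟨fun a b => by
    obtain ⟨h, he⟩ := exists_smul_eq H a b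
    exact ⟨⟨φ h, h, rfl⟩, he⟩⟩
  have hc : Nat.card φ.range = 7920 := by
    have h := φ.ker.card_mul_index
    rw [Subgroup.index_ker, hker, Nat.card_congr (Subgroup.subgroupOfEquivOfLe le_normalizer).toEquiv, U.card_a0 M,
      U.card_normalizer M hψ] at h
    omega
  obtain ⟨e⟩ := iso_m11_eleven hα φ.range hc
  exact ⟨((QuotientGroup.quotientMulEquivOfEq hker.symm).trans (QuotientGroup.quotientKerEquivRange φ)).trans e⟩

end Quo

end

end CfsgLib.Spor.SuzType.YCent
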