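import Cfsg.Agent.Lib.Spor.SuzType.YCent.Omega
import Cfsg.Agent.Lib.Spor.SuzType.Automizer

/-!
# Lifting to the centralizer of the central involution
-/

set_option autoImplicit false
set_option synthInstance.maxSize 4096

namespace CfsgLib.Spor.SuzType

open Subgroup CfsgLib.Spor.CoOneType

noncomputable section

variable {G : Type*} [Group G] {z : G} {Q : Subgroup G} {v : G → Vec} {ρ : G → Iso6}

namespace Setup

variable (S : Setup z Q v ρ)
include S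

/-- A change of coordinates by an element of the simple group. -/
theorem twist {h : Iso6} (hh : h ∈ Om) : Setup z Q (fun a => act h (v a)) (fun c => h * ρ c * h⁻¹) := by
  refine ⟨S.core, S.card, fun a ha b hb => ?_, fun a ha => ?_, fun w => ?_, fun a ha => ?_, fun a ha b hb => ?_,
    fun a ha b hb => ?_, fun c hc a ha => ?_, fun c hc => ?_, fun c hc => ?_, fun g hg => ?_⟩
  · rw [S.v_mul a ha b hb, act_add]
  · rw [← S.v_ker a ha]
    exact ⟨fun e => act_injective h (e.trans (act_zero h).symm), fun e => by rw [e, act_zero]⟩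
  · obtain ⟨a, ha, e⟩ := S.v_surj (act h⁻¹ w)
    exact ⟨a, ha, by rw [e, ← act_mul, mul_inv_cancel, act_one]⟩
  · rw [qf_act]; exact S.v_sq a ha
  · rw [← S.v_comm a ha b hb]
    show QuadraticMap.polar qf (act h (v a)) (act h (v b)) = 0 ↔ _
    rw [pol_act]
  · rw [S.ρ_mul a ha b hb]; group
  · rw [S.ρ_act c hc a ha, act_mul, act_mul, ← act_mul h⁻¹ h, inv_mul_cancel, act_one]
  · rw [← S.ρ_ker c hc, mul_inv_eq_one, mul_eq_left]
  · exact (inferInstance : Om.Normal).conj_mem _ (S.ρ_mem c hc) h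
  · obtain ⟨c, hc, e⟩ := S.ρ_surj (h⁻¹ * g * h) (mul_mem (mul_mem (inv_mem hh) hg) hh)
    exact ⟨c, hc, by rw [e]; group⟩

/-- The elements of the centralizer whose image lies in a subgroup. -/
def pre (_S : Setup z Q v ρ) (A : Subgroup Iso6) : Subgroup G where
  carrier := {c | c ∈ centralizer ({z} : Set G) ∧ ρ c ∈ A}
  one_mem' := ⟨one_mem _, by rw [_S.ρ_one]; exact one_mem _⟩
  mul_mem' := fun {a b} ⟨ha, ha'⟩ ⟨hb, hb'⟩ => ⟨mul_mem ha hb, by rw [_S.ρ_mul a ha b hb]; exact mul_mem ha' hb'⟩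
  inv_mem' := fun {a} ⟨ha, ha'⟩ => ⟨inv_mem ha, by rw [_S.ρ_inv ha]; exact inv_mem ha'⟩

theorem mem_pre {A : Subgroup Iso6} {c : G} : c ∈ S.pre A ↔ c ∈ centralizer ({z} : Set G) ∧ ρ c ∈ A := Iff.rfl

/-- The order of a subgroup of the centralizer from its image. -/
theorem card_sub {H : Subgroup G} (hH : H ≤ centralizer ({z} : Set G)) {A : Subgroup Iso6}
    (hA : ∀ h ∈ H, ρ h ∈ A) (hsur : ∀ a ∈ A, ∃ h ∈ H, ρ h = a) :
    Nat.card H = Nat.card (H ⊓ Q : Subgroup G) * Nat.card A := by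
  let f : H →* A := MonoidHom.mk' (fun c => ⟨ρ c, hA c c.2⟩) fun a b =>
    Subtype.ext (S.ρ_mul a (hH a.2) b (hH b.2))
  have hs : Function.Surjective f := fun a => by
    obtain ⟨c, hc, e⟩ := hsur a a.2
    exact ⟨⟨c, hc⟩, Subtype.ext e⟩
  have e := f.ker.card_mul_index
  rw [Subgroup.index_ker, MonoidHom.range_eq_top.2 hs, Subgroup.card_top] at e
  rw [← e]
  congr 1
  exact Nat.card_congr
    { toFun := fun c => ⟨c.1.1, c.1.2, (S.ρ_ker _ (hH c.1.2)).1 (congrArg Subtype.val (MonoidHom.mem_ker.1 c.2))⟩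
      invFun := fun c => ⟨⟨c.1, c.2.1⟩, MonoidHom.mem_ker.2 (Subtype.ext (S.ρ_of_mem c.2.2))⟩
      left_inv := fun c => rfl
      right_inv := fun c => rfl }

theorem card_pre {A : Subgroup Iso6} (hA : A ≤ Om) : Nat.card (S.pre A) = 128 * Nat.card A := by
  rw [S.card_sub (H := S.pre A) (A := A) (fun _ h => h.1) (fun _ h => h.2) (fun a ha => by
    obtain ⟨c, hc, e⟩ := S.ρ_surj a (hA ha)
    exact ⟨c, ⟨hc, e ▸ ha⟩, e⟩)]
  congr 1
  rw [inf_eq_right.2 fun q hq => ⟨S.le hq, by rw [S.ρ_of_mem hq]; exact one_mem _⟩, S.card]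

variable [Finite G]

theorem exp_four {a : G} (ha : a ∈ Q) : a ^ 4 = 1 := by
  rcases S.core.sq_eq a ha with e | e <;> rw [show a ^ 4 = a * a * (a * a) by simp only [pow_succ, pow_zero, one_mul, mul_assoc], e]
  · rw [one_mul]
  · exact S.zz

theorem not_three_Q {x : G} (hx : x ^ 3 = 1) (hxQ : x ∈ Q) : x = 1 := by
  have h := S.exp_four hxQ
  rw [pow_succ, hx, one_mul] at h
  exact h

omit [Finite G] in
theorem rho_cube {x : G} (hx : x ∈ centralizer ({z} : Set G)) (hx3 : x ^ 3 = 1) : ρ x ^ 3 = 1 := by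
  rw [← S.ρ_pow hx, hx3, S.ρ_one]

/-- Two elements of order three with the same image are conjugate under the extraspecial group. -/
theorem conj_of_rho_eq (M : Subgroup G) {x x' : G} (hx : x ∈ centralizer ({z} : Set G))
    (hx' : x' ∈ centralizer ({z} : Set G)) (hxM : x ∈ M) (hxM' : x' ∈ M) (hx3 : x ^ 3 = 1) (hx3' : x' ^ 3 = 1)
    (he : ρ x = ρ x') : ∃ q ∈ Q, q ∈ M ∧ q * x * q⁻¹ = x' := by
  haveI : Fact (Nat.Prime 3) := ⟨Nat.prime_three⟩
  by_cases h1 : ρ x' = 1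
  · have ha := S.not_three_Q hx3' ((S.ρ_ker _ hx').1 h1)
    have hb := S.not_three_Q hx3 ((S.ρ_ker _ hx).1 (he.trans h1))
    exact ⟨1, one_mem _, one_mem _, by rw [ha, hb]; group⟩
  have hord : orderOf (ρ x') = 3 := orderOf_eq_prime (S.rho_cube hx' hx3') h1
  have hne : ∀ {y : G}, y ^ 3 = 1 → ρ y = ρ x' → orderOf y = 3 := fun {y} hy hye =>
    orderOf_eq_prime hy fun e => h1 (by rw [← hye, e, S.ρ_one])
  set U := S.pre (zpowers (ρ x')) ⊓ M with hU
  have hsq : ¬ 3 ^ 2 ∣ Nat.card U := fun h => by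
    have := h.trans (Subgroup.card_dvd_of_le (inf_le_left : U ≤ S.pre (zpowers (ρ x'))))
    rw [S.card_pre (zpowers_le.2 (S.ρ_mem _ hx')), Nat.card_zpowers, hord] at this
    norm_num at this
  have hxU : x ∈ U := ⟨⟨hx, he ▸ mem_zpowers _⟩, hxM⟩
  have hxU' : x' ∈ U := ⟨⟨hx', mem_zpowers _⟩, hxM'⟩
  obtain ⟨h, hh, hc⟩ := conj_zpowers_of_not_sq hsq hxU' hxU (hne hx3' rfl) (hne hx3 he)
  have hhC := hh.1.1
  obtain ⟨i, hi⟩ := mem_zpowers_iff.1 hh.1.2
  obtain ⟨n, hn⟩ := (Submonoid.mem_powers_iff _ _).1 ((mem_powers_iff_mem_zpowers).2 hc)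
  have hcomm : Commute (ρ h) (ρ x') := hi ▸ (Commute.refl (ρ x')).zpow_left i
  have hr : ρ x' = ρ x' ^ n := by
    rw [← S.ρ_pow hx', hn, S.ρ_mul _ (mul_mem hhC hx) _ (inv_mem hhC), S.ρ_mul _ hhC _ hx, S.ρ_inv hhC, he,
      hcomm.eq, mul_inv_cancel_right]
  have hn1 : n % 3 = 1 := by
    rw [← pow_one (ρ x'), ← pow_mul, one_mul] at hr
    have := pow_eq_pow_iff_modEq.1 hr
    rw [hord] at this
    exact this.symm
  have hconj : h * x * h⁻¹ = x' := by rw [← hn, pow_eq_pow_mod n hx3', hn1, pow_one]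
  set q := x' ^ (-i) * h with hq
  have hqC : q ∈ centralizer ({z} : Set G) := mul_mem (zpow_mem hx' _) hhC
  have hρz : ∀ j : ℤ, ρ (x' ^ j) = ρ x' ^ j := fun j => by
    let f : centralizer ({z} : Set G) →* Iso6 :=
      MonoidHom.mk' (fun c => ρ c) fun a b => S.ρ_mul a a.2 b b.2
    exact map_zpow f ⟨x', hx'⟩ j
  refine ⟨q, (S.ρ_ker q hqC).1 ?_, mul_mem (zpow_mem hxM' _) hh.2, ?_⟩
  · rw [S.ρ_mul _ (zpow_mem hx' _) _ hhC, hρz, ← hi, ← zpow_add, neg_add_cancel, zpow_zero]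
  · rw [hq, show x' ^ (-i) * h * x * (x' ^ (-i) * h)⁻¹ = x' ^ (-i) * (h * x * h⁻¹) * (x' ^ (-i))⁻¹ by group, hconj,
      ((Commute.refl x').zpow_left (-i)).eq, mul_inv_cancel_right]

/-- Lifting an element commuting with the image of an element of order three. -/
theorem exists_lift_cent (M : Subgroup G) {y c : G} (hy : y ∈ centralizer ({z} : Set G)) (hy3 : y ^ 3 = 1)
    (hyM : y ∈ M) (hc : c ∈ centralizer ({z} : Set G)) (hcM : c ∈ M) (he : ρ c * ρ y = ρ y * ρ c) :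
    ∃ d ∈ centralizer ({z} : Set G), d ∈ M ∧ d * y = y * d ∧ ρ d = ρ c := by
  obtain ⟨q, hq, hqM, e⟩ := S.conj_of_rho_eq M (x := c * y * c⁻¹) (x' := y)
    (mul_mem (mul_mem hc hy) (inv_mem hc)) hy (mul_mem (mul_mem hcM hyM) (inv_mem hcM)) hyM
    (by rw [conj_pow, hy3]; group) hy3
    (by rw [S.ρ_mul _ (mul_mem hc hy) _ (inv_mem hc), S.ρ_mul _ hc _ hy, S.ρ_inv hc, he, mul_inv_cancel_right])
  refine ⟨q * c, mul_mem (S.le hq) hc, mul_mem hqM hcM, ?_, by rw [S.ρ_mul _ (S.le hq) _ hc, S.ρ_of_mem hq, one_mul]⟩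
  rw [← mul_inv_eq_iff_eq_mul]
  refine Eq.trans ?_ e
  group

omit [Finite G] in
/-- An element of order three fixing the value of an element of the extraspecial group centralizes it. -/
theorem comm_of_fix {c a : G} (hc : c ∈ centralizer ({z} : Set G)) (hc3 : c ^ 3 = 1) (ha : a ∈ Q)
    (h : act (ρ c) (v a) = v a) : c * a = a * c := by
  rcases (S.v_eq (S.norm hc ha) ha).1 (by rw [S.ρ_act c hc a ha, h]) with e | e
  · exact conj_eq_iff_comm.1 e
  · exfalso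
    have hcz : c * z * c⁻¹ = z := conj_eq_iff_comm.2 (mem_cz.1 hc)
    have e3 : c ^ 3 * a * (c ^ 3)⁻¹ = a * z :=
      calc c ^ 3 * a * (c ^ 3)⁻¹ = c * (c * (c * a * c⁻¹) * c⁻¹) * c⁻¹ := by
            rw [show c ^ 3 = c * c * c by rw [pow_succ, pow_two]]
            simp only [mul_inv_rev, mul_assoc]
        _ = c * (c * (a * z) * c⁻¹) * c⁻¹ := by rw [e]
        _ = c * ((c * a * c⁻¹) * (c * z * c⁻¹)) * c⁻¹ := by
            simp only [mul_assoc, inv_mul_cancel_left]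
        _ = c * (a * z * z) * c⁻¹ := by rw [hcz, e]
        _ = a * z := by rw [mul_assoc a, S.zz, mul_one, e]
    rw [hc3] at e3
    exact S.z_ne (by simpa using e3)

theorem cube_of_lift {c : G} (hc : c ∈ centralizer ({z} : Set G)) (h : ρ c ^ 3 = 1) :
    (c ^ 4) ^ 3 = 1 ∧ ρ (c ^ 4) = ρ c := by
  have h3 : c ^ 3 ∈ Q := (S.ρ_ker _ (pow_mem hc 3)).1 (by rw [S.ρ_pow hc, h])
  refine ⟨by rw [← pow_mul, show 4 * 3 = 3 * 4 by norm_num, pow_mul]; exact S.exp_four h3, ?_⟩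
  rw [S.ρ_pow hc, pow_succ, h, one_mul]

/-- The intersection of two of the extraspecial groups. -/
theorem inter_four {g a : G} (hgQ : g * z * g⁻¹ ∈ Q) (hne : g * z * g⁻¹ ≠ z) (ha : a ∈ Q)
    (ha' : a ∈ Q.map (MulAut.conj g).toMonoidHom) :
    a = 1 ∨ a = z ∨ a = g * z * g⁻¹ ∨ a = z * (g * z * g⁻¹) := by
  have h2 : g * z * g⁻¹ * (g * z * g⁻¹) = 1 := by
    rw [show g * z * g⁻¹ * (g * z * g⁻¹) = g * (z * z) * g⁻¹ by group, S.zz]; group
  have hv0 : v (g * z * g⁻¹) ≠ 0 := S.v_ne hgQ (fun e => S.z_ne (by simpa using e)) hne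
  obtain ⟨h, hh, e⟩ := move_singular hv0 w0_ne ((S.v_sq _ hgQ).2 h2) qf_w0
  have F : Pt z Q (fun a => act h (v a)) (fun c => h * ρ c * h⁻¹) g := ⟨S.twist hh, hgQ, e⟩
  obtain ⟨s, t, rfl⟩ := F.inter ha ha'
  exact F.zi_cases s t

end Setup

end

end CfsgLib.Spor.SuzType
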