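import Cfsg.Agent.Lib.Spor.SuzType.YCent.Lift
import Cfsg.Agent.Lib.Spor.SuzType.Local
import Cfsg.Agent.Lib.Char.TransLinear.SL23

/-!
# The centralizer of an element of order three inside the centralizer of the involution
-/

set_option autoImplicit false
set_option synthInstance.maxSize 4096

namespace CfsgLib.Spor.SuzType.YCent

open Subgroup CfsgLib.Spor.CoOneType

noncomputable section

variable {G : Type*} [Group G] [Finite G] {z : G} {Q : Subgroup G} {v : G → Vec} {ρ : G → Iso6} {y : G}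

theorem span_split : ∀ i (s t s' t' : ZMod 2),
    (s • vD i + t • vE i) + (s' • vD i + t' • vE i) = (s + s') • vD i + (t + t') • vE i := by decide +kernel

theorem span_four : ∀ i (s t : ZMod 2), s • vD i + t • vE i ∈ ([0, vD i, vE i, vD i + vE i] : List Vec) := by
  decide +kernel

theorem span_facts : ∀ i, ([0, vD i, vE i, vD i + vE i] : List Vec).toFinset.card = 4 ∧
    (∀ x ∈ ([0, vD i, vE i, vD i + vE i] : List Vec), qf x = 0 → x = 0) ∧
    (∀ j, i ≠ j → ∀ x ∈ ([0, vD i, vE i, vD i + vE i] : List Vec),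
      ∀ x' ∈ ([0, vD j, vE j, vD j + vE j] : List Vec), (x = x' → x = 0) ∧ pl x x' = 0 ∧
        rot (vD j) (vE j) x = x) ∧
    (∀ x ∈ ([0, vD i, vE i, vD i + vE i] : List Vec), rot vA vB x = x ∧ ∃ s t : ZMod 2, x = s • vD i + t • vE i) ∧
    (∀ x ∈ ([0, vD i, vE i, vD i + vE i] : List Vec),
      rot (vD i) (vE i) x ∈ ([0, vD i, vE i, vD i + vE i] : List Vec)) ∧
    pl (vD i) (vE i) = 1 ∧ rot (vD i) (vE i) (vD i) ≠ vD i := by decide +kernel

/-- An element of order three with the reference rotation as image. -/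
structure Data (z : G) (Q : Subgroup G) (v : G → Vec) (ρ : G → Iso6) (y : G) : Prop where
  setup : Setup z Q v ρ
  mem : y ∈ centralizer ({z} : Set G)
  cube : y ^ 3 = 1
  img : ρ y = g0

/-- The centralizer inside the centralizer of the involution. -/
abbrev CY (z y : G) : Subgroup G := centralizer ({z} : Set G) ⊓ centralizer ({y} : Set G)

/-- The two further elements of order three. -/
structure Gens (z : G) (Q : Subgroup G) (v : G → Vec) (ρ : G → Iso6) (y : G) (t : Fin 2 → G) : Prop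
    extends Data z Q v ρ y where
  tmem : ∀ i, t i ∈ CY z y
  tcube : ∀ i, t i ^ 3 = 1
  tcomm : ∀ i j, t i * t j = t j * t i
  timg : ∀ i, ρ (t i) = pr3 i

namespace Data

variable (D : Data z Q v ρ y)
include D

theorem y_ne : y ≠ 1 := fun e => g0_ne (by rw [← D.img, e, D.setup.ρ_one])

theorem y_ord : orderOf y = 3 := orderOf_eq_prime D.cube D.y_ne

theorem y_comm : y * z = z * y := mem_cz.1 D.mem

theorem rho_cent {c : G} (hc : c ∈ CY z y) : ρ c ∈ cent0 := by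
  refine mem_cent0.2 ⟨D.setup.ρ_mem c hc.1, ?_⟩
  rw [← D.img, ← D.setup.ρ_mul c hc.1 y D.mem, ← D.setup.ρ_mul y D.mem c hc.1, mem_cz.1 hc.2]

theorem exists_lift {h : Iso6} (hh : h ∈ cent0) : ∃ c ∈ CY z y, ρ c = h := by
  obtain ⟨h1, h2⟩ := mem_cent0.1 hh
  obtain ⟨c, hc, rfl⟩ := D.setup.ρ_surj h h1
  obtain ⟨d, hd, -, hdy, e⟩ := D.setup.exists_lift_cent ⊤ D.mem D.cube (mem_top _) hc (mem_top _) (by rw [D.img, h2])
  exact ⟨d, ⟨hd, mem_cz.2 hdy⟩, e⟩

theorem exists_gens : ∃ t : Fin 2 → G, Gens z Q v ρ y t := by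
  have S := D.setup
  have hcube : ∀ i, ∀ c ∈ CY z y, ρ c = pr3 i → c ^ 4 ∈ CY z y ∧ (c ^ 4) ^ 3 = 1 ∧ ρ (c ^ 4) = pr3 i :=
    fun i c hc e => ⟨pow_mem hc 4, (S.cube_of_lift hc.1 (by rw [e, pr3_pow])).1,
      (S.cube_of_lift hc.1 (by rw [e, pr3_pow])).2.trans e⟩
  obtain ⟨c₁, hc₁, e₁⟩ := D.exists_lift (rot3_le (pr3_rot3 0))
  obtain ⟨m₁, k₁, i₁⟩ := hcube 0 c₁ hc₁ e₁
  obtain ⟨c₂, hc₂, e₂⟩ := D.exists_lift (rot3_le (pr3_rot3 1))
  obtain ⟨d, hd, hdM, hdc, ed⟩ := S.exists_lift_cent (centralizer ({y} : Set G)) m₁.1 k₁ m₁.2 hc₂.1 hc₂.2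
    (by rw [i₁, e₂, pr3_comm])
  obtain ⟨m₂, k₂, i₂⟩ := hcube 1 d ⟨hd, hdM⟩ (ed.trans e₂)
  have hc : Commute (c₁ ^ 4) (d ^ 4) := ((show Commute d (c₁ ^ 4) from hdc).pow_left 4).symm
  refine ⟨![c₁ ^ 4, d ^ 4], D, ?_, ?_, ?_, ?_⟩
  · intro i; fin_cases i; exacts [m₁, m₂]
  · intro i; fin_cases i; exacts [k₁, k₂]
  · intro i j; fin_cases i <;> fin_cases j; exacts [rfl, hc.eq, hc.eq.symm, rfl]
  · intro i; fin_cases i; exacts [i₁, i₂]

theorem fixed_iff {a : G} (ha : a ∈ Q) : a ∈ centralizer ({y} : Set G) ↔ plf (v a) vA = 0 ∧ plf (v a) vB = 0 := by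
  rw [mem_cz, ← g0_fix, ← D.img]
  constructor
  · intro e
    rw [← D.setup.ρ_act y D.mem a ha, ← e, mul_inv_cancel_right]
  · exact fun e => (D.setup.comm_of_fix D.mem D.cube ha e).symm

theorem card_fixed : Nat.card (Q ⊓ centralizer ({y} : Set G) : Subgroup G) = 32 := by
  have h := D.setup.card_lifts (Finset.univ.filter fun x : Vec => plf x vA = 0 ∧ plf x vB = 0)
  rw [fixed_count] at h
  refine Eq.trans (Nat.card_congr (Equiv.subtypeEquivRight fun a => ?_)) h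
  rw [Finset.mem_filter]
  exact ⟨fun ⟨h1, h2⟩ => ⟨h1, Finset.mem_univ _, (D.fixed_iff h1).1 h2⟩,
    fun ⟨h1, _, h2⟩ => ⟨h1, (D.fixed_iff h1).2 h2⟩⟩

theorem card_CY : Nat.card (CY z y) = 3456 := by
  rw [D.setup.card_sub (H := CY z y) (A := cent0) inf_le_left (fun c hc => D.rho_cent hc)
    (fun h hh => D.exists_lift hh), card_cent0]
  rw [show CY z y ⊓ Q = Q ⊓ centralizer ({y} : Set G) from le_antisymm (fun a ha => ⟨ha.2, ha.1.2⟩)
    (fun a ha => ⟨⟨D.setup.le ha.1, ha.2⟩, ha.1⟩), D.card_fixed]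

end Data

namespace Gens

variable {t : Fin 2 → G} (T : Gens z Q v ρ y t)
include T

theorem yt_comm (i : Fin 2) : t i * y = y * t i := mem_cz.1 (T.tmem i).2

theorem tz_comm (i : Fin 2) : t i * z = z * t i := mem_cz.1 (T.tmem i).1

omit [Finite G] in
/-- The quaternion group of a plane. -/
def quat (T : Gens z Q v ρ y t) (i : Fin 2) : Subgroup G where
  carrier := {a | a ∈ Q ∧ v a ∈ ([0, vD i, vE i, vD i + vE i] : List Vec)}
  one_mem' := ⟨one_mem _, by rw [T.setup.v_one]; exact List.mem_cons_self⟩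
  mul_mem' := by
    rintro a b ⟨ha, ha'⟩ ⟨hb, hb'⟩
    obtain ⟨-, s, r, e⟩ := (span_facts i).2.2.2.1 _ ha'
    obtain ⟨-, s', r', e'⟩ := (span_facts i).2.2.2.1 _ hb'
    exact ⟨mul_mem ha hb, by rw [T.setup.v_mul a ha b hb, e, e', span_split]; exact span_four i _ _⟩
  inv_mem' := by
    rintro a ⟨ha, ha'⟩
    exact ⟨inv_mem ha, by rw [T.setup.v_inv ha]; exact ha'⟩

theorem mem_quat {i : Fin 2} {a : G} :
    a ∈ T.quat i ↔ a ∈ Q ∧ v a ∈ ([0, vD i, vE i, vD i + vE i] : List Vec) := Iff.rfl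

theorem z_quat (i : Fin 2) : z ∈ T.quat i := ⟨T.setup.core.mem, by rw [T.setup.v_z]; exact List.mem_cons_self⟩

theorem quat_CY {i : Fin 2} {a : G} (ha : a ∈ T.quat i) : a ∈ CY z y :=
  ⟨T.setup.le ha.1, (T.toData.fixed_iff ha.1).2 (g0_fix.1 (by
    rw [act_g0]; exact ((span_facts i).2.2.2.1 _ ha.2).1))⟩

theorem card_quat (i : Fin 2) : Nat.card (T.quat i) = 8 := by
  have h := T.setup.card_lifts ([0, vD i, vE i, vD i + vE i] : List Vec).toFinset
  rw [(span_facts i).1] at h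
  refine Eq.trans (Nat.card_congr (Equiv.subtypeEquivRight fun a => ?_)) h
  rw [List.mem_toFinset]
  exact Iff.rfl

theorem quat_other {i j : Fin 2} (hij : i ≠ j) {a : G} (ha : a ∈ T.quat i) : t j * a = a * t j :=
  T.setup.comm_of_fix (T.tmem j).1 (T.tcube j) ha.1 (by
    rw [T.timg, act_pr3]
    obtain ⟨x', hx'⟩ : ∃ x', x' ∈ ([0, vD j, vE j, vD j + vE j] : List Vec) := ⟨0, List.mem_cons_self⟩
    exact ((span_facts i).2.2.1 j hij _ ha.2 x' hx').2.2)

theorem quat_comm {i j : Fin 2} (hij : i ≠ j) {a b : G} (ha : a ∈ T.quat i) (hb : b ∈ T.quat j) : a * b = b * a :=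
  (T.setup.v_comm a ha.1 b hb.1).1 ((span_facts i).2.2.1 j hij _ ha.2 _ hb.2).2.1

theorem quat_norm {i : Fin 2} {a : G} (ha : a ∈ T.quat i) : t i * a * (t i)⁻¹ ∈ T.quat i :=
  ⟨T.setup.norm (T.tmem i).1 ha.1, by
    rw [T.setup.ρ_act _ (T.tmem i).1 a ha.1, T.timg, act_pr3]
    exact (span_facts i).2.2.2.2.1 _ ha.2⟩

theorem quat_norm_pow {i : Fin 2} (n : ℕ) {a : G} (ha : a ∈ T.quat i) : t i ^ n * a * (t i ^ n)⁻¹ ∈ T.quat i := by
  induction n with
  | zero => simpa using ha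
  | succ n ih =>
    rw [pow_succ', show t i * t i ^ n * a * (t i * t i ^ n)⁻¹ = t i * (t i ^ n * a * (t i ^ n)⁻¹) * (t i)⁻¹ by group]
    exact T.quat_norm ih

omit [Finite G] in
/-- The product of a quaternion group and an element of order three. -/
def side (T : Gens z Q v ρ y t) (i : Fin 2) : Subgroup G where
  carrier := {c | ∃ a ∈ T.quat i, ∃ n : ℕ, c = a * t i ^ n}
  one_mem' := ⟨1, one_mem _, 0, by simp⟩
  mul_mem' := by
    rintro _ _ ⟨a, ha, n, rfl⟩ ⟨b, hb, m, rfl⟩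
    refine ⟨a * (t i ^ n * b * (t i ^ n)⁻¹), mul_mem ha ?_, n + m, by rw [pow_add]; group⟩
    induction n with
    | zero => simpa using hb
    | succ n ih =>
      rw [pow_succ', show t i * t i ^ n * b * (t i * t i ^ n)⁻¹ = t i * (t i ^ n * b * (t i ^ n)⁻¹) * (t i)⁻¹ by group]
      refine ⟨T.setup.core.norm (t i) (mem_cz.1 (T.tmem i).1) _ ih.1, ?_⟩
      rw [T.setup.ρ_act _ (T.tmem i).1 _ ih.1, T.timg, act_pr3]
      exact (span_facts i).2.2.2.2.1 _ ih.2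
  inv_mem' := by
    rintro _ ⟨a, ha, n, rfl⟩
    have hinv : (t i ^ n)⁻¹ = t i ^ (2 * n) := inv_eq_of_mul_eq_one_right (by
      rw [← pow_add, show n + 2 * n = 3 * n by ring, pow_mul, T.tcube, one_pow])
    refine ⟨t i ^ (2 * n) * a⁻¹ * (t i ^ (2 * n))⁻¹, ?_, 2 * n, by rw [← hinv]; group⟩
    generalize 2 * n = m
    induction m with
    | zero => simpa using ha
    | succ m ih =>
      rw [pow_succ', show t i * t i ^ m * a⁻¹ * (t i * t i ^ m)⁻¹ = t i * (t i ^ m * a⁻¹ * (t i ^ m)⁻¹) * (t i)⁻¹ by group]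
      refine ⟨T.setup.core.norm (t i) (mem_cz.1 (T.tmem i).1) _ ih.1, ?_⟩
      rw [T.setup.ρ_act _ (T.tmem i).1 _ ih.1, T.timg, act_pr3]
      exact (span_facts i).2.2.2.2.1 _ ih.2

theorem quat_side {i : Fin 2} {a : G} (ha : a ∈ T.quat i) : a ∈ T.side i := ⟨a, ha, 0, by simp⟩

theorem t_side (i : Fin 2) : t i ∈ T.side i := ⟨1, one_mem _, 1, by simp⟩

theorem side_CY (i : Fin 2) : T.side i ≤ CY z y := by
  rintro _ ⟨a, ha, n, rfl⟩
  exact mul_mem (T.quat_CY ha) (pow_mem (T.tmem i) n)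

theorem side_rho {i : Fin 2} {a : G} (ha : a ∈ T.quat i) (n : ℕ) : ρ (a * t i ^ n) = pr3 i ^ n := by
  rw [T.setup.ρ_mul _ (T.setup.le ha.1) _ (pow_mem (T.tmem i).1 n), T.setup.ρ_of_mem ha.1, one_mul,
    T.setup.ρ_pow (T.tmem i).1, T.timg]

theorem side_zero {i : Fin 2} {a : G} (ha : a ∈ T.quat i) {n : ℕ} (h : pr3 i ^ n = 1) : a * t i ^ n = a := by
  have hr : pr3 i ^ (n % 3) = 1 := by rw [← pow_eq_pow_mod n (pr3_pow i)]; exact h
  rw [pow_eq_pow_mod n (T.tcube i)]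
  have hlt := Nat.mod_lt n (show 0 < 3 by norm_num)
  have hne : ∀ m < 3, pr3 i ^ m = 1 → m = 0 := by
    intro m hm hm1
    have h1 : pr3 i ≠ 1 := fun e => by
      have := act_pr3 i (vD i)
      rw [e, act_one] at this
      exact (span_facts i).2.2.2.2.2.2 this.symm
    interval_cases m
    · rfl
    · exact absurd (by rwa [pow_one] at hm1) h1
    · exfalso
      have h3 := pr3_pow i
      rw [pow_succ, hm1, one_mul] at h3
      exact h1 h3
  rw [hne _ hlt hr, pow_zero, mul_one]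

theorem side_comm {i j : Fin 2} (hij : i ≠ j) {a b : G} (ha : a ∈ T.side i) (hb : b ∈ T.side j) : a * b = b * a := by
  obtain ⟨p, hp, n, rfl⟩ := ha
  obtain ⟨q, hq, m, rfl⟩ := hb
  have h1 : Commute p q := T.quat_comm hij hp hq
  have h2 : Commute p (t j ^ m) := ((show Commute (t j) p from T.quat_other hij hp).pow_left m).symm
  have h3 : Commute (t i ^ n) q := (show Commute (t i) q from T.quat_other hij.symm hq).pow_left n
  have h4 : Commute (t i ^ n) (t j ^ m) := (show Commute (t i) (t j) from T.tcomm i j).pow_pow n m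
  exact ((h1.mul_right h2).mul_left (h3.mul_right h4)).eq

theorem card_side (i : Fin 2) : Nat.card (T.side i) = 24 := by
  let f : T.quat i × Fin 3 → T.side i := fun x => ⟨x.1 * t i ^ (x.2 : ℕ), x.1, x.1.2, x.2, rfl⟩
  have hf : Function.Bijective f := by
    refine ⟨fun x w e => ?_, fun c => ?_⟩
    · have e' : (x.1 : G) * t i ^ (x.2 : ℕ) = w.1 * t i ^ (w.2 : ℕ) := congrArg Subtype.val e
      have hk : ((w.1 : G)⁻¹ * x.1) * t i ^ ((x.2 : ℕ) + 2 * (w.2 : ℕ)) = 1 := by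
        rw [pow_add, mul_assoc (w.1 : G)⁻¹, ← mul_assoc (x.1 : G), e', mul_assoc (w.1 : G), inv_mul_cancel_left,
          ← pow_add, show (w.2 : ℕ) + 2 * (w.2 : ℕ) = 3 * (w.2 : ℕ) by ring, pow_mul, T.tcube, one_pow]
      have hq : (w.1 : G)⁻¹ * x.1 ∈ T.quat i := mul_mem (inv_mem w.1.2) x.1.2
      have hr : pr3 i ^ ((x.2 : ℕ) + 2 * (w.2 : ℕ)) = 1 := by rw [← T.side_rho hq, hk, T.setup.ρ_one]
      have h1 := T.side_zero hq hr
      rw [hk] at h1
      have h2 : x.1 = w.1 := Subtype.ext (inv_mul_eq_one.1 h1.symm).symm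
      refine Prod.ext h2 ?_
      rw [h2] at e'
      have h3 := mul_left_cancel e'
      have hord : orderOf (t i) = 3 := orderOf_eq_prime (T.tcube i) fun e1 => by
        have := T.timg i
        rw [e1, T.setup.ρ_one] at this
        have h' := act_pr3 i (vD i)
        rw [← this, act_one] at h'
        exact (span_facts i).2.2.2.2.2.2 h'.symm
      exact Fin.ext (pow_injOn_Iio_orderOf (Set.mem_Iio.2 (by rw [hord]; exact x.2.2)) (Set.mem_Iio.2 (by rw [hord]; exact w.2.2)) h3)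
    · obtain ⟨c, a, ha, n, rfl⟩ := c
      exact ⟨(⟨a, ha⟩, ⟨n % 3, Nat.mod_lt _ (by norm_num)⟩),
        Subtype.ext (by show a * t i ^ (n % 3) = _; rw [← pow_eq_pow_mod n (T.tcube i)])⟩
  rw [← Nat.card_eq_of_bijective f hf, Nat.card_prod, T.card_quat, Nat.card_fin]

theorem side_invol {i : Fin 2} {c : G} (hc : c ∈ T.side i) (h2 : c * c = 1) (h1 : c ≠ 1) : c = z := by
  obtain ⟨a, ha, n, rfl⟩ := hc
  have hr : pr3 i ^ n = 1 := by
    have hh : pr3 i ^ n * pr3 i ^ n = 1 := by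
      rw [← T.side_rho ha n, ← T.setup.ρ_mul _ (T.side_CY i ⟨a, ha, n, rfl⟩).1 _ (T.side_CY i ⟨a, ha, n, rfl⟩).1, h2,
        T.setup.ρ_one]
    calc pr3 i ^ n = pr3 i ^ n * (pr3 i ^ n * pr3 i ^ n) := by rw [hh, mul_one]
      _ = (pr3 i ^ 3) ^ n := by rw [← pow_add, ← pow_add, ← pow_mul]; ring_nf
      _ = 1 := by rw [pr3_pow, one_pow]
  rw [T.side_zero ha hr] at h2 h1 ⊢
  have hq := (T.setup.v_sq a ha.1).2 h2
  exact ((T.setup.v_ker a ha.1).1 ((span_facts i).2.1 _ ha.2 hq)).resolve_left h1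

/-- Each product is a copy of the special linear group. -/
theorem side_sl (i : Fin 2) : Nonempty (T.side i ≃* Matrix.SpecialLinearGroup (Fin 2) (ZMod 3)) := by
  set H := T.side i
  haveI : ((T.quat i).subgroupOf H).Normal := ⟨fun a ha c => by
    obtain ⟨b, hb, n, e⟩ := c.2
    rw [Subgroup.mem_subgroupOf]
    show (c : G) * a * (c : G)⁻¹ ∈ T.quat i
    rw [e, show b * t i ^ n * (a : G) * (b * t i ^ n)⁻¹ = b * (t i ^ n * a * (t i ^ n)⁻¹) * b⁻¹ by group]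
    exact mul_mem (mul_mem hb (T.quat_norm_pow n ha)) (inv_mem hb)⟩
  obtain ⟨a, ha, hva⟩ := T.setup.v_surj (vD i)
  obtain ⟨b, hb, hvb⟩ := T.setup.v_surj (vE i)
  have haq : a ∈ T.quat i := ⟨ha, by rw [hva]; simp⟩
  have hbq : b ∈ T.quat i := ⟨hb, by rw [hvb]; simp⟩
  refine CfsgLib.Char.mulEquiv_SL23_of_order_24 (T.card_side i) (fun x w hx hw => ?_)
    ((T.quat i).subgroupOf H) ?_ ⟨⟨a, T.quat_side haq⟩, haq, ⟨b, T.quat_side hbq⟩, hbq, fun e => ?_⟩
    (t := ⟨t i, T.t_side i⟩) ?_ ⟨⟨a, T.quat_side haq⟩, haq, fun e => ?_⟩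
  · have key : ∀ u : H, orderOf u = 2 → (u : G) = z := fun u hu =>
      T.side_invol u.2 (by
        have h := pow_orderOf_eq_one u
        rw [hu, pow_two] at h
        exact congrArg Subtype.val h)
        (fun e => by rw [Subtype.ext (show (u : G) = ((1 : H) : G) from e), orderOf_one] at hu; norm_num at hu)
    exact Subtype.ext ((key x hx).trans (key w hw).symm)
  · rw [Nat.card_congr (Subgroup.subgroupOfEquivOfLe fun _ h => T.quat_side h).toEquiv, T.card_quat]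
  · have h := (T.setup.v_comm a ha b hb).2 (congrArg Subtype.val e)
    rw [hva, hvb] at h
    have := (span_facts i).2.2.2.2.2.1
    exact one_ne_zero (this.symm.trans h)
  · rw [← Subgroup.orderOf_coe]
    refine orderOf_eq_prime (T.tcube i) fun e1 => ?_
    have h' := act_pr3 i (vD i)
    rw [← T.timg i, show t i = 1 from e1, T.setup.ρ_one, act_one] at h'
    exact (span_facts i).2.2.2.2.2.2 h'.symm
  · have h : t i * a = a * t i := congrArg Subtype.val e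
    have h' := T.setup.ρ_act _ (T.tmem i).1 a ha
    rw [conj_eq_iff_comm.2 h, hva, T.timg, act_pr3] at h'
    exact (span_facts i).2.2.2.2.2.2 h'.symm

theorem side_inter {i j : Fin 2} (hij : i ≠ j) {a b : G} {n : ℕ} (ha : a ∈ T.side i) (hb : b ∈ T.side j)
    (h : a = b * y ^ n) : a = 1 ∨ a = z := by
  obtain ⟨p, hp, k, rfl⟩ := ha
  obtain ⟨q, hq, m, rfl⟩ := hb
  have hr : pr3 i ^ k = pr3 j ^ m * g0 ^ n := by
    rw [← T.side_rho hp k, h, T.setup.ρ_mul _ (T.side_CY j ⟨q, hq, m, rfl⟩).1 _ (pow_mem T.mem n), T.side_rho hq,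
      T.setup.ρ_pow T.mem, T.img]
  have hi : el3 n (if j = 0 then m else 2 * k) (if j = 0 then 2 * k else m) = 1 := by
    have hc : g0 ^ n * pr3 j ^ m = pr3 j ^ m * g0 ^ n :=
      ((show Commute g0 (pr3 j) from (g0_pr3 j).symm).pow_pow n m).eq
    have h3 : ∀ i, pr3 i ^ k * pr3 i ^ (2 * k) = 1 := fun i => by
      rw [← pow_add, show k + 2 * k = 3 * k by ring, pow_mul, pr3_pow, one_pow]
    fin_cases i <;> fin_cases j <;> simp at hij <;> simp only [el3, Fin.isValue, ↓reduceIte, one_ne_zero,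
      Fin.zero_eta, Fin.mk_one] at hr hc ⊢
    · rw [((show Commute (pr3 0) (pr3 1) from pr3_comm 0 1).pow_pow (2 * k) m).eq, ← mul_assoc, hc, ← hr]
      exact h3 0
    · rw [← mul_assoc, hc, ← hr]
      exact h3 1
  rw [el3_reduce] at hi
  obtain ⟨e1, e2, e3⟩ := el3_inj (Nat.mod_lt _ (by norm_num)) (Nat.mod_lt _ (by norm_num))
    (Nat.mod_lt _ (by norm_num)) hi
  have hk : k % 3 = 0 ∧ m % 3 = 0 := by split_ifs at e2 e3 <;> omega
  rw [pow_eq_pow_mod k (T.tcube i), hk.1, pow_zero, mul_one] at h ⊢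
  rw [pow_eq_pow_mod m (T.tcube j), hk.2, pow_eq_pow_mod n T.cube, e1, pow_zero, mul_one, pow_zero, mul_one] at h
  exact (T.setup.v_ker p hp.1).1 (((span_facts i).2.2.1 j hij _ hp.2 _ hq.2).1 (by rw [h]))

/-- The fixed elements split. -/
theorem fixed_split {a : G} (ha : a ∈ Q) (hy : a ∈ centralizer ({y} : Set G)) :
    ∃ p ∈ T.quat 0, ∃ q ∈ T.quat 1, a = p * q := by
  obtain ⟨h1, h2⟩ := (T.toData.fixed_iff ha).1 hy
  obtain ⟨s, r, s', r', e⟩ := perp_split _ h1 h2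
  obtain ⟨p, hp, hvp⟩ := T.setup.v_surj (s • vD 0 + r • vE 0)
  obtain ⟨q, hq, hvq⟩ := T.setup.v_surj (s' • vD 1 + r' • vE 1)
  have hpq : p ∈ T.quat 0 := ⟨hp, by rw [hvp]; exact span_four 0 s r⟩
  have hqq : q ∈ T.quat 1 := ⟨hq, by rw [hvq]; exact span_four 1 s' r'⟩
  rcases (T.setup.v_eq ha (mul_mem hp hq)).1 (by rw [T.setup.v_mul p hp q hq, hvp, hvq, e]) with e' | e'
  · exact ⟨p, hpq, q, hqq, e'⟩
  · exact ⟨p, hpq, q * z, mul_mem hqq (T.z_quat 1), by rw [e', mul_assoc]⟩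

/-- Elements with image among the rotations split. -/
theorem rot_split {c : G} (hc : c ∈ CY z y) (h : ρ c ∈ rot3) :
    ∃ a ∈ T.side 0, ∃ b ∈ T.side 1, ∃ n : ℕ, c = a * b * y ^ n := by
  obtain ⟨n, k, m, e⟩ := h
  set d := y ^ n * (t 0 ^ k * t 1 ^ m) with hd
  have hyC : y ∈ CY z y := ⟨T.mem, mem_cz.2 rfl⟩
  have hdm : d ∈ CY z y := mul_mem (pow_mem hyC n) (mul_mem (pow_mem (T.tmem 0) k) (pow_mem (T.tmem 1) m))
  have hρd : ρ d = el3 n k m := by
    rw [hd, T.setup.ρ_mul _ (pow_mem T.mem n) _ (mul_mem (pow_mem (T.tmem 0).1 k) (pow_mem (T.tmem 1).1 m)),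
      T.setup.ρ_mul _ (pow_mem (T.tmem 0).1 k) _ (pow_mem (T.tmem 1).1 m), T.setup.ρ_pow T.mem,
      T.setup.ρ_pow (T.tmem 0).1, T.setup.ρ_pow (T.tmem 1).1, T.img, T.timg, T.timg, el3]
  have hq : c * d⁻¹ ∈ Q := (T.setup.ρ_ker _ (mul_mem hc.1 (inv_mem hdm.1))).1 (by
    rw [T.setup.ρ_mul _ hc.1 _ (inv_mem hdm.1), T.setup.ρ_inv hdm.1, hρd, e, mul_inv_cancel])
  obtain ⟨p, hp, q, hq', e'⟩ := T.fixed_split hq (mul_mem hc.2 (inv_mem hdm.2))
  refine ⟨p * t 0 ^ k, ⟨p, hp, k, rfl⟩, q * t 1 ^ m, ⟨q, hq', m, rfl⟩, n, ?_⟩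
  have hyc : Commute (y ^ n) (t 0 ^ k * t 1 ^ m) :=
    (((show Commute y (t 0) from (T.yt_comm 0).symm).pow_pow n k).mul_right
      ((show Commute y (t 1) from (T.yt_comm 1).symm).pow_pow n m))
  have hqt : Commute (t 0 ^ k) q := (show Commute (t 0) q from T.quat_other (by decide) hq').pow_left k
  calc c = c * d⁻¹ * d := by rw [inv_mul_cancel_right]
    _ = p * (q * t 0 ^ k) * t 1 ^ m * y ^ n := by rw [e', hd, hyc.eq]; simp only [mul_assoc]
    _ = _ := by rw [hqt.eq.symm]; simp only [mul_assoc]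

theorem quat_rho {i : Fin 2} {a : G} (ha : a ∈ T.quat i) : ρ a = 1 := T.setup.ρ_of_mem ha.1

theorem side_rot3 {i : Fin 2} {a : G} (ha : a ∈ T.side i) : ρ a ∈ rot3 := by
  obtain ⟨p, hp, n, rfl⟩ := ha
  rw [T.side_rho hp]
  exact pow_mem (pr3_rot3 i) n

end Gens

end

end CfsgLib.Spor.SuzType.YCent
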