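import Cfsg.Agent.Lib.Spor.SuzType.YCent.Lift
import Cfsg.Agent.Lib.Spor.SuzType.Local

/-!
# Normalising an element of order three with a quaternion commutator
-/

set_option autoImplicit false
set_option synthInstance.maxSize 4096

namespace CfsgLib.Spor.SuzType.YCent

open Subgroup CfsgLib.Spor.CoOneType
open scoped commutatorElement

noncomputable section

variable {G : Type*} [Group G] [Finite G] {z : G} {Q : Subgroup G} {v : G → Vec} {ρ : G → Iso6} {y : G}

theorem qf_step : ∀ d e : Vec, qf d = qf e → qf (d + e) = qf d → plf d e = 1 → qf d = 1 := by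
  intro d e h1 h2 h3
  have h := SuzType.qf_add d e
  rw [h2, ← h1, ← plf_eq, h3, CharTwo.add_self_eq_zero, zero_add] at h
  exact h

theorem list_four {α : Type*} [DecidableEq α] {P : Finset α} (hP : P.card = 4) {a b c d : α} (ha : a ∈ P)
    (hb : b ∈ P) (hc : c ∈ P) (hd : d ∈ P) (hab : a ≠ b) (hac : a ≠ c) (had : a ≠ d) (hbc : b ≠ c) (hbd : b ≠ d)
    (hcd : c ≠ d) : ∀ x, x ∈ P → x = a ∨ x = b ∨ x = c ∨ x = d := by
  have h : ({a, b, c, d} : Finset α) = P := by
    refine Finset.eq_of_subset_of_card_le (fun x hx => ?_) ?_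
    · simp only [Finset.mem_insert, Finset.mem_singleton] at hx
      rcases hx with rfl | rfl | rfl | rfl <;> assumption
    · rw [hP, Finset.card_insert_of_notMem (by simp [hab, hac, had]),
        Finset.card_insert_of_notMem (by simp [hbc, hbd]), Finset.card_insert_of_notMem (by simp [hcd]),
        Finset.card_singleton]
  intro x hx
  rw [← h] at hx
  simpa using hx

theorem vec_cancel {a b : Vec} (h : a + b = 0) : a = b := by
  calc a = a + (b + b) := by rw [vec_add_self, add_zero]
    _ = b := by rw [← add_assoc, h, zero_add]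

/-- An element of order three whose commutator with the extraspecial group is non-abelian of order eight
acts as a rotation of an anisotropic plane. -/
theorem exists_plane (S : Setup z Q v ρ) (hy : y ∈ centralizer ({z} : Set G)) (hy3 : y ^ 3 = 1)
    (h8 : Nat.card (⁅Q, zpowers y⁆ : Subgroup G) = 8)
    (hna : ∃ a ∈ ⁅Q, zpowers y⁆, ∃ b ∈ ⁅Q, zpowers y⁆, a * b ≠ b * a) :
    ∃ d e, Aniso d e ∧ ∀ x, act (ρ y) x = rot d e x := by
  classical
  set g := ρ y with hgdef
  have hg3 : g ^ 3 = 1 := S.rho_cube hy hy3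
  have hggg : ∀ x, act g (act g (act g x)) = x := fun x => by
    rw [← act_mul, ← act_mul, show g * g * g = g ^ 3 by rw [pow_succ, pow_two], hg3, act_one]
  let f : Vec → Vec := fun x => act g x + x
  have fadd : ∀ a b, f (a + b) = f a + f b := fun a b => by
    show act g (a + b) + (a + b) = (act g a + a) + (act g b + b)
    rw [act_add]; abel
  have fpow : ∀ (n : ℕ) x, ∃ w, act (g ^ n) x + x = f w := by
    intro n x
    induction n with
    | zero => exact ⟨0, by rw [pow_zero, act_one, vec_add_self]; simp [f, act_zero]⟩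
    | succ n ih =>
      obtain ⟨w, hw⟩ := ih
      refine ⟨act (g ^ n) x + w, ?_⟩
      rw [fadd, ← hw, pow_succ', act_mul]
      show act g (act (g ^ n) x) + x = act g (act (g ^ n) x) + act (g ^ n) x + (act (g ^ n) x + x)
      rw [show act g (act (g ^ n) x) + act (g ^ n) x + (act (g ^ n) x + x) =
        act g (act (g ^ n) x) + (act (g ^ n) x + act (g ^ n) x) + x by abel, vec_add_self, add_zero]
  let W : Subgroup G :=
    { carrier := {a | a ∈ Q ∧ ∃ w, v a = f w}
      one_mem' := ⟨one_mem _, 0, by rw [S.v_one]; simp [f, act_zero]⟩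
      mul_mem' := by
        rintro a b ⟨ha, w, ea⟩ ⟨hb, w', eb⟩
        exact ⟨mul_mem ha hb, w + w', by rw [S.v_mul a ha b hb, ea, eb, fadd]⟩
      inv_mem' := by
        rintro a ⟨ha, w, ea⟩
        exact ⟨inv_mem ha, w, by rw [S.v_inv ha, ea]⟩ }
  have hWle : ⁅Q, zpowers y⁆ ≤ W := by
    rw [Subgroup.commutator_le]
    intro a ha b hb
    obtain ⟨n, rfl⟩ := (Submonoid.mem_powers_iff _ _).1 (mem_powers_iff_mem_zpowers.2 hb)
    obtain ⟨w, hw⟩ := fpow n (v a)
    have hyn := pow_mem hy n
    have hc : y ^ n * a⁻¹ * (y ^ n)⁻¹ ∈ Q := S.norm hyn (inv_mem ha)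
    rw [commutatorElement_def, show a * y ^ n * a⁻¹ * (y ^ n)⁻¹ = a * (y ^ n * a⁻¹ * (y ^ n)⁻¹) by group]
    refine ⟨mul_mem ha hc, w, ?_⟩
    rw [S.v_mul a ha _ hc, S.ρ_act _ hyn _ (inv_mem ha), S.v_inv ha, S.ρ_pow hy, add_comm]
    exact hw
  obtain ⟨a, ha, b, hb, hab⟩ := hna
  have haQ := (hWle ha).1
  have hbQ := (hWle hb).1
  have hzW : z ∈ ⁅Q, zpowers y⁆ := by
    rcases S.core.comm_eq a haQ b hbQ with e | e
    · exact absurd (mul_inv_eq_iff_eq_mul.1 (mul_inv_eq_one.1 e)) hab
    · rw [← e]; exact mul_mem (mul_mem (mul_mem ha hb) (inv_mem ha)) (inv_mem hb)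
  set P := Finset.univ.filter fun x : Vec => ∃ c ∈ ⁅Q, zpowers y⁆, v c = x with hPdef
  have hPc : P.card = 4 := by
    have h := S.card_lifts P
    have e : Nat.card {c : G // c ∈ Q ∧ v c ∈ P} = 8 := by
      rw [← h8]
      refine Nat.card_congr (Equiv.subtypeEquivRight fun c => ?_)
      rw [hPdef, Finset.mem_filter]
      constructor
      · rintro ⟨hc, -, d, hd, e⟩
        rcases (S.v_eq hc (hWle hd).1).1 e.symm with rfl | rfl
        · exact hd
        · exact mul_mem hd hzW
      · exact fun hc => ⟨(hWle hc).1, Finset.mem_univ _, c, hc, rfl⟩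
    omega
  have hPf : ∀ x, f x ∈ P := fun x => by
    obtain ⟨c, hc, e⟩ := S.v_surj x
    refine Finset.mem_filter.2 ⟨Finset.mem_univ _, _, commutator_mem_commutator hc (mem_zpowers y), ?_⟩
    have hcc : y * c⁻¹ * y⁻¹ ∈ Q := S.norm hy (inv_mem hc)
    rw [commutatorElement_def, show c * y * c⁻¹ * y⁻¹ = c * (y * c⁻¹ * y⁻¹) by group, S.v_mul c hc _ hcc,
      S.ρ_act y hy _ (inv_mem hc), S.v_inv hc, e, add_comm]
  have hfP : ∀ x ∈ P, ∃ w, x = f w := fun x hx => by
    obtain ⟨-, c, hc, rfl⟩ := Finset.mem_filter.1 hx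
    exact (hWle hc).2
  have hpl : plf (v a) (v b) = 1 := by
    rw [plf_eq]
    exact (two_cases _).resolve_left fun h => hab ((S.v_comm a haQ b hbQ).1 h)
  have hvaP : v a ∈ P := Finset.mem_filter.2 ⟨Finset.mem_univ _, a, ha, rfl⟩
  have hvbP : v b ∈ P := Finset.mem_filter.2 ⟨Finset.mem_univ _, b, hb, rfl⟩
  set d := v a with hd
  have hd0 : d ≠ 0 := fun h => by
    rw [h] at hpl
    exact absurd hpl (by revert b; intro b; rw [plf_eq]; simp [QuadraticMap.polar, show qf 0 = 0 by decide +kernel])
  have hfix0 : ∀ x ∈ P, act g x = x → x = 0 := by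
    intro x hx hgx
    obtain ⟨w, rfl⟩ := hfP x hx
    have h2 : act g (act g w) = w := by
      have h := hgx
      simp only [f, act_add] at h
      rw [add_comm (act g (act g w)) (act g w)] at h
      exact add_left_cancel h
    have h1 : act g w = w := by
      have := hggg w
      rwa [h2] at this
    show act g w + w = 0
    rw [h1, vec_add_self]
  have hgP : ∀ x ∈ P, act g x ∈ P := fun x hx => by
    obtain ⟨w, rfl⟩ := hfP x hx
    have : act g (f w) = f (act g w) := act_add g _ _
    rw [this]; exact hPf _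
  set e := act g d with he
  have hne : d ≠ e := fun h => hd0 (hfix0 d hvaP h.symm)
  have he0 : e ≠ 0 := fun h => hd0 (act_injective g (h.trans (act_zero g).symm))
  have hde : d + e ≠ 0 := fun h => hne (vec_cancel h)
  have h0P : (0 : Vec) ∈ P := by
    have := hPf 0
    simpa [f, act_zero] using this
  have hdeP : d + e ∈ P := by
    have := hPf d
    rwa [show f d = d + e from add_comm _ _] at this
  have hall := list_four hPc h0P hvaP (hgP d hvaP) hdeP (Ne.symm hd0) (Ne.symm he0) (Ne.symm hde) hne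
    (fun h => he0 (add_eq_left.1 h.symm)) (fun h => hd0 (add_eq_right.1 h.symm))
  have hge : act g e = d + e := by
    rcases hall _ (hgP e (hgP d hvaP)) with h | h | h | h
    · exact absurd (act_injective g (h.trans (act_zero g).symm)) he0
    · exfalso
      have := hggg d
      rw [← he, h] at this
      exact hne this.symm
    · exfalso
      exact hne (act_injective g h.symm)
    · exact h
  have hgde : act g (d + e) = d := by rw [← hge, he]; exact hggg d
  have hde1 : plf d e = 1 := by
    have hdd : plf d d = 0 := by rw [plf_eq, pl, QuadraticMap.polar, vec_add_self]; simp [show qf 0 = 0 by decide +kernel, CharTwo.add_self_eq_zero]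
    rcases hall _ hvbP with h | h | h | h <;> rw [h] at hpl
    · rw [plf_eq, pl, QuadraticMap.polar, add_zero, sub_self, zero_sub, show qf 0 = 0 by decide +kernel, neg_zero] at hpl
      exact absurd hpl zero_ne_one
    · exact absurd (hdd.symm.trans hpl) zero_ne_one
    · exact hpl
    · rw [plf_eq, pl_add_right, ← plf_eq, ← plf_eq, hdd, zero_add] at hpl
      exact hpl
  have hq : qf d = 1 := qf_step d e (qf_act g d).symm (by
    conv_rhs => rw [← hgde]
    rw [qf_act]) hde1
  have hAn : Aniso d e := ⟨hq, (qf_act g d).trans hq, hde1⟩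
  refine ⟨d, e, hAn, fun x => ?_⟩
  have hA : ∀ u, plf (act g x) (act g u) = plf x u := fun u => plf_act g x u
  have hxd : plf (act g x) d = plf x d + plf x e := by
    conv_lhs => rw [← hgde]
    rw [hA, plf_eq, pl_add_right, ← plf_eq, ← plf_eq]
  have hxe : plf (act g x) e = plf x d := by rw [he, hA]
  have hfd : plf (f x) d = plf x e := by
    rw [plf_eq, pl_add_left, ← plf_eq, ← plf_eq, hxd, add_right_comm, CharTwo.add_self_eq_zero, zero_add]
  have hfe : plf (f x) e = plf x d + plf x e := by
    rw [plf_eq, pl_add_left, ← plf_eq, ← plf_eq, hxe]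
  have hx : act g x = x + f x := by
    show act g x = x + (act g x + x)
    rw [add_comm (act g x) x, ← add_assoc, vec_add_self, zero_add]
  have hself : ∀ u : Vec, plf u u = 0 := by decide +kernel
  have hsym : plf e d = 1 := by rw [plf_eq, pl_comm, ← plf_eq]; exact hde1
  rw [hx, rot, add_assoc, ← hfe, ← hfd]
  congr 1
  rcases hall _ (hPf x) with h | h | h | h <;> rw [h]
  · simp [plf_eq, QuadraticMap.polar, show qf 0 = 0 by decide +kernel]
  · rw [hde1, hself, one_smul, zero_smul, add_zero]
  · rw [hsym, hself, zero_smul, one_smul, zero_add]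
  · have e1 : plf (d + e) e = 1 := by rw [plf_eq, pl_add_left, ← plf_eq, ← plf_eq, hde1, hself, add_zero]
    have e2 : plf (d + e) d = 1 := by rw [plf_eq, pl_add_left, ← plf_eq, ← plf_eq, hsym, hself, zero_add]
    rw [e1, e2, one_smul, one_smul]

/-- Coordinates in which the element maps to the reference rotation. -/
theorem exists_normal (S : Setup z Q v ρ) (hy : y ∈ centralizer ({z} : Set G)) (hy3 : y ^ 3 = 1)
    (h8 : Nat.card (⁅Q, zpowers y⁆ : Subgroup G) = 8)
    (hna : ∃ a ∈ ⁅Q, zpowers y⁆, ∃ b ∈ ⁅Q, zpowers y⁆, a * b ≠ b * a) :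
    ∃ v' ρ', Setup z Q v' ρ' ∧ ρ' y = g0 := by
  obtain ⟨d, e, hA, hrot⟩ := exists_plane S hy hy3 h8 hna
  obtain ⟨h, hh, hd, he⟩ := pair_move hA
  have key : h * g0 * h⁻¹ = ρ y := iso_ext fun x => by rw [rot_conj act_g0, hd, he, hrot]
  exact ⟨_, _, S.twist (inv_mem hh), by show h⁻¹ * ρ y * h⁻¹⁻¹ = g0; rw [← key]; group⟩

end

end CfsgLib.Spor.SuzType.YCent
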