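import Cfsg.Agent.Lib.Spor.SuzType.YCent.Quot
import Cfsg.Agent.Lib.Spor.SuzType.YCent.Normal
import Cfsg.Agent.Lib.Spor.SuzType.YCent.Commutator
import Cfsg.Agent.Lib.Spor.UFourType.Main
import Cfsg.Agent.Lib.Spor.UFourType.Uniq.Iso
import Cfsg.Agent.Lib.Classical.PSUSimple

/-!
# The centralizer is a triple cover of `PSU₄(9)` with perfect derived group
-/

set_option autoImplicit false
set_option synthInstance.maxSize 4096

namespace CfsgLib.Spor.SuzType.YCent

open Subgroup CfsgLib.Spor.CoOneType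
open scoped commutatorElement

noncomputable section

variable {G : Type*} [Group G] [Finite G] {z : G} {Q : Subgroup G} {v : G → Vec} {ρ : G → Iso6} {y : G}
  {t : Fin 2 → G} {T : Type*} [Group T] {N : Subgroup G} {π : N →* T}

theorem sl_noncomm : ∃ a b : CfsgLib.Spor.UFourType.Sl, a * b ≠ b * a := by decide +kernel

theorem code_side : CfsgLib.Spor.UFourType.cA 384 = 4 ∧ CfsgLib.Spor.UFourType.cB 384 = 0 ∧
    CfsgLib.Spor.UFourType.cE 384 = false ∧ CfsgLib.Spor.UFourType.cF 384 = false := by decide +kernel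

namespace Quo

variable (U : Quo z Q v ρ y t N π) (hnwc : ∃ g : G, g * z * g⁻¹ ∈ Q ∧ g * z * g⁻¹ ≠ z)
include U hnwc

theorem exists_model : ∃ ψ, CfsgLib.Spor.UFourType.Model U.zb U.qb ψ ∧
    ψ CfsgLib.Spor.UFourType.aC ∈ U.hb 0 := by
  haveI : Finite T := Finite.of_surjective π U.surj
  obtain ⟨g₁, g₂, hS⟩ := CfsgLib.Spor.UFourType.exists_coord (U.hyp hnwc)
  obtain ⟨k₁, k₂, x, w, p, q, F⟩ := hS.exists_frame
  refine ⟨_, CfsgLib.Spor.UFourType.Frame.model F, ?_⟩
  obtain ⟨ha, hb, he, hf⟩ := code_side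
  have h : CfsgLib.Spor.UFourType.psi k₁ k₂ x w 384 = k₁ (CfsgLib.Spor.UFourType.sl 4) := by
    rw [CfsgLib.Spor.UFourType.psi, ha, hb, he, hf, CfsgLib.Spor.UFourType.pk, CfsgLib.Spor.UFourType.sl_zero, map_one]
    simp
  show CfsgLib.Spor.UFourType.psi k₁ k₂ x w 384 ∈ U.hb 0
  rw [h, ← F.coord.range₁]
  exact ⟨_, rfl⟩

/-- The quotient is the unitary group. -/
theorem nonempty_psu {K : Type} [Field K] [Fintype K] (hK : Fintype.card K = 9) :
    Nonempty (T ≃* Cfsg.PSU 4 K 3) := by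
  haveI : Finite T := Finite.of_surjective π U.surj
  obtain ⟨ψ, M, -⟩ := U.exists_model hnwc
  exact M.nonempty_psu hK

theorem simple {K : Type} [Field K] [Fintype K] (hK : Fintype.card K = 9) : IsSimpleGroup T := by
  obtain ⟨e⟩ := U.nonempty_psu hnwc hK
  haveI : IsSimpleGroup (Cfsg.PSU 4 K 3) := CfsgLib.Classical.psu_isSimple (by rw [hK]; norm_num) (by norm_num)
    (fun h => absurd h.1 (by norm_num))
  haveI : Nontrivial T := e.toEquiv.nontrivial
  exact IsSimpleGroup.isSimpleGroup_of_surjective e.symm.toMonoidHom e.symm.surjective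

/-- The first lift is a commutator modulo the subgroup, of elements centralizing it modulo the subgroup. -/
theorem side_commutator : ∃ a b : N, π a * π ⟨t 0, U.CY_le (U.tmem 0)⟩ = π ⟨t 0, U.CY_le (U.tmem 0)⟩ * π a ∧
    π b * π ⟨t 0, U.CY_le (U.tmem 0)⟩ = π ⟨t 0, U.CY_le (U.tmem 0)⟩ * π b ∧
    π (a * b * a⁻¹ * b⁻¹) = π ⟨t 0, U.CY_le (U.tmem 0)⟩ := by
  haveI : Finite T := Finite.of_surjective π U.surj
  haveI : Fact (Nat.Prime 3) := ⟨Nat.prime_three⟩
  obtain ⟨ψ, M, hmem⟩ := U.exists_model hnwc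
  set u := π ⟨t 0, U.CY_le (U.tmem 0)⟩ with hu
  set w := ψ CfsgLib.Spor.UFourType.aC with hw
  have hum : u ∈ U.hb 0 := U.hb_mem.2 ⟨_, U.toGens.t_side 0, rfl⟩
  have hu1 : u ≠ 1 := fun e => by
    have h1 : t 0 = 1 := U.hb_inj 0 _ (U.toGens.t_side 0) e
    have := U.timg 0
    rw [h1, U.setup.ρ_one] at this
    have h' := act_pr3 0 (vD 0)
    rw [← this, act_one] at h'
    exact (span_facts 0).2.2.2.2.2.2 h'.symm
  have hu3 : u ^ 3 = 1 := by
    rw [hu, ← map_pow]; exact U.pi_y 0 (by rw [pow_zero]; exact U.tcube 0)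
  have huo : orderOf u = 3 := orderOf_eq_prime hu3 hu1
  have hcard : Nat.card (U.hb 0) = 24 := by
    obtain ⟨e⟩ := U.hb_iso 0
    rw [Nat.card_congr e.toEquiv, Nat.card_eq_fintype_card, CfsgLib.Spor.UFourType.card_sl]
  obtain ⟨h, -, hc⟩ := conj_zpowers_of_not_sq (p := 3) (H := U.hb 0) (by rw [hcard]; norm_num) hum hmem huo M.a_order
  obtain ⟨x, x', hx, hx', hxx⟩ := M.a_commutator
  obtain ⟨n, hn⟩ := (Submonoid.mem_powers_iff _ _).1 (mem_powers_iff_mem_zpowers.2 hc)
  rw [pow_eq_pow_mod n hu3] at hn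
  have hconj : ∀ {a b : T}, a * b = b * a → h * a * h⁻¹ * (h * b * h⁻¹) = h * b * h⁻¹ * (h * a * h⁻¹) := by
    intro a b e
    calc h * a * h⁻¹ * (h * b * h⁻¹) = h * (a * b) * h⁻¹ := by group
      _ = _ := by rw [e]; group
  have e1 := hconj hx
  have e2 := hconj hx'
  rw [← hn] at e1 e2
  have hlt := Nat.mod_lt n (show 0 < 3 by norm_num)
  obtain ⟨a, ha⟩ := U.surj (h * x * h⁻¹)
  obtain ⟨b, hb⟩ := U.surj (h * x' * h⁻¹)
  rw [← ha] at e1
  rw [← hb] at e2
  have hcomm : π (a * b * a⁻¹ * b⁻¹) = u ^ (n % 3) := by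
    rw [map_mul, map_mul, map_mul, map_inv, map_inv, ha, hb, hn,
      show w = x * x' * x⁻¹ * x'⁻¹ from hxx.symm]
    group
  interval_cases (n % 3)
  · exfalso
    rw [pow_zero] at hn
    have : w = 1 := conj_eq_one_iff.1 hn.symm
    exact M.a_ne this
  · rw [pow_one] at e1 e2 hcomm
    exact ⟨a, b, e1, e2, hcomm⟩
  · have hinv : (u ^ 2)⁻¹ = u := inv_eq_of_mul_eq_one_right (by rw [← pow_succ]; exact hu3)
    have hcu : ∀ {r : T}, r * u ^ 2 = u ^ 2 * r → r * u = u * r := fun {r} e => by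
      have := (show Commute r (u ^ 2) from e).inv_right
      rw [hinv] at this
      exact this.eq
    refine ⟨b, a, hcu e2, hcu e1, ?_⟩
    rw [show b * a * b⁻¹ * a⁻¹ = (a * b * a⁻¹ * b⁻¹)⁻¹ by group, map_inv, hcomm, hinv]

/-- The element lies in the commutator subgroup. -/
theorem y_commutator : y ∈ ⁅N, N⁆ := by
  have S := U.setup
  obtain ⟨a, b, ha, hb, hab⟩ := U.side_commutator hnwc
  have hyN : y ∈ N := (U.memN y).2 rfl
  have ht : t 0 ∈ N := U.CY_le (U.tmem 0)
  have key : ∀ a : N, π a * π ⟨t 0, ht⟩ = π ⟨t 0, ht⟩ * π a → y ∈ ⁅N, N⁆ ∨ (a : G) * t 0 = t 0 * a := by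
    intro a ha
    have h1 : π (a * ⟨t 0, ht⟩ * a⁻¹ * (⟨t 0, ht⟩ : N)⁻¹) = π 1 := by
      rw [map_mul, map_mul, map_mul, map_inv, map_inv, ha, map_one, mul_inv_cancel_right, mul_inv_cancel]
    obtain ⟨k, hk⟩ := U.pi_eq h1
    replace hk : (a : G) * t 0 * (a : G)⁻¹ * (t 0)⁻¹ = y ^ k := by simpa using hk
    have hm : y ^ k ∈ ⁅N, N⁆ := hk ▸ commutator_mem_commutator a.2 ht
    rw [pow_eq_pow_mod k U.cube] at hk hm
    have hlt := Nat.mod_lt k (show 0 < 3 by norm_num)
    interval_cases (k % 3)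
    · rw [pow_zero] at hk
      exact Or.inr (mul_inv_eq_iff_eq_mul.1 (mul_inv_eq_one.1 hk))
    · rw [pow_one] at hm
      exact Or.inl hm
    · left
      have hy2 : y = (y ^ 2)⁻¹ := eq_inv_of_mul_eq_one_right (by rw [← pow_succ]; exact U.cube)
      rw [hy2]; exact inv_mem hm
  rcases key a ha with h | hat
  · exact h
  rcases key b hb with h | hbt
  · exact h
  obtain ⟨k, hk⟩ := U.pi_eq hab
  replace hk : (a : G) * b * (a : G)⁻¹ * (b : G)⁻¹ = t 0 * y ^ k := by simpa using hk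
  rw [pow_eq_pow_mod k U.cube] at hk
  have hlt := Nat.mod_lt k (show 0 < 3 by norm_num)
  by_cases hk0 : k % 3 = 0
  · rw [hk0, pow_zero, mul_one] at hk
    obtain ⟨g, hg, hge⟩ := pr3_conj 0
    obtain ⟨c, hc, hce⟩ := S.ρ_surj g⁻¹ (inv_mem hg)
    obtain ⟨q, hq, -, e⟩ := S.conj_of_rho_eq ⊤ (x := c * t 0 * c⁻¹) (x' := y)
      (mul_mem (mul_mem hc (U.tmem 0).1) (inv_mem hc)) U.mem (mem_top _) (mem_top _)
      (by rw [conj_pow, U.tcube]; group) U.cube
      (by rw [S.ρ_mul _ (mul_mem hc (U.tmem 0).1) _ (inv_mem hc), S.ρ_mul _ hc _ (U.tmem 0).1, S.ρ_inv hc, hce,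
        U.timg, U.img, ← hge]; group)
    set m := q * c with hm
    have hmt : m * t 0 * m⁻¹ = y := by rw [hm, ← e]; group
    have hmN : ∀ r : G, r * t 0 = t 0 * r → m * r * m⁻¹ ∈ N := fun r hr => (U.memN _).2 (by
      rw [← hmt]
      calc m * r * m⁻¹ * (m * t 0 * m⁻¹) = m * (r * t 0) * m⁻¹ := by group
        _ = m * (t 0 * r) * m⁻¹ := by rw [hr]
        _ = _ := by group)
    have h := commutator_mem_commutator (hmN _ hat) (hmN _ hbt)
    rw [commutatorElement_def, show m * (a : G) * m⁻¹ * (m * b * m⁻¹) * (m * a * m⁻¹)⁻¹ * (m * b * m⁻¹)⁻¹ =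
      m * (a * b * (a : G)⁻¹ * (b : G)⁻¹) * m⁻¹ by group, hk, hmt] at h
    exact h
  · obtain ⟨g, hg, hge⟩ := exists_pr3_inverter
    obtain ⟨c, hc, hce⟩ := U.toData.exists_lift hg
    obtain ⟨q, hq, hqN, e⟩ := S.conj_of_rho_eq (centralizer ({y} : Set G)) (x := c * t 0 * c⁻¹) (x' := t 0 * t 0)
      (mul_mem (mul_mem hc.1 (U.tmem 0).1) (inv_mem hc.1)) (mul_mem (U.tmem 0).1 (U.tmem 0).1)
      (mul_mem (mul_mem hc.2 (U.tmem 0).2) (inv_mem hc.2)) (mul_mem (U.tmem 0).2 (U.tmem 0).2)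
      (by rw [conj_pow, U.tcube]; group)
      (by rw [(Commute.refl (t 0)).mul_pow, U.tcube, one_mul])
      (by rw [S.ρ_mul _ (mul_mem hc.1 (U.tmem 0).1) _ (inv_mem hc.1), S.ρ_mul _ hc.1 _ (U.tmem 0).1, S.ρ_inv hc.1,
        S.ρ_mul _ (U.tmem 0).1 _ (U.tmem 0).1, hce, U.timg, hge])
    set m := q * c with hm
    have hmy : m * y = y * m := mem_cz.1 (mul_mem hqN hc.2)
    have hmN : m ∈ N := (U.memN m).2 hmy
    have hmt : m * t 0 * m⁻¹ = t 0 * t 0 := by rw [hm, ← e]; group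
    have h1 := commutator_mem_commutator a.2 b.2
    rw [commutatorElement_def, hk] at h1
    have h2 := commutator_mem_commutator (mul_mem (mul_mem hmN a.2) (inv_mem hmN))
      (mul_mem (mul_mem hmN b.2) (inv_mem hmN))
    have hmk : m * y ^ (k % 3) * m⁻¹ = y ^ (k % 3) :=
      mul_inv_eq_iff_eq_mul.2 ((show Commute m y from hmy).pow_right _).eq
    rw [commutatorElement_def, show m * (a : G) * m⁻¹ * (m * b * m⁻¹) * (m * a * m⁻¹)⁻¹ * (m * b * m⁻¹)⁻¹ =
      m * (a * b * (a : G)⁻¹ * (b : G)⁻¹) * m⁻¹ by group, hk,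
      show m * (t 0 * y ^ (k % 3)) * m⁻¹ = m * t 0 * m⁻¹ * (m * y ^ (k % 3) * m⁻¹) by group, hmt, hmk] at h2
    have h3 := mul_mem h1 h2
    have e3 : t 0 * y ^ (k % 3) * (t 0 * t 0 * y ^ (k % 3)) = y ^ (k % 3 + k % 3) := by
      have hc' : Commute (t 0) (y ^ (k % 3)) := (show Commute (t 0) y from U.toGens.yt_comm 0).pow_right _
      calc t 0 * y ^ (k % 3) * (t 0 * t 0 * y ^ (k % 3)) = t 0 * (y ^ (k % 3) * (t 0 * t 0)) * y ^ (k % 3) := by group
        _ = t 0 ^ 3 * (y ^ (k % 3) * y ^ (k % 3)) := by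
          rw [((hc'.mul_left hc').symm).eq, pow_succ, pow_two]; simp only [mul_assoc]
        _ = _ := by rw [U.tcube, one_mul, ← pow_add]
    rw [e3] at h3
    interval_cases (k % 3)
    · exact absurd rfl hk0
    · have hy2 : y = (y ^ 2)⁻¹ := eq_inv_of_mul_eq_one_right (by rw [← pow_succ]; exact U.cube)
      rw [hy2]; exact inv_mem h3
    · rwa [pow_succ, U.cube, one_mul] at h3

/-- The centralizer is quasisimple. -/
theorem quasisimple {K : Type} [Field K] [Fintype K] (hK : Fintype.card K = 9) : Cfsg.IsQuasisimple N := by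
  haveI := U.simple hnwc hK
  haveI : Finite T := Finite.of_surjective π U.surj
  have hyN : y ∈ N := (U.memN y).2 rfl
  obtain ⟨a₀', b₀', hne⟩ := sl_noncomm
  obtain ⟨e⟩ := U.hb_iso 0
  have hTna : ¬ ∀ p q : T, p * q = q * p := fun h =>
    hne (by
      have := congrArg e (Subtype.ext (h (e.symm a₀') (e.symm b₀')) :
        e.symm a₀' * e.symm b₀' = e.symm b₀' * e.symm a₀')
      simpa using this)
  have hT : commutator T = ⊤ := by
    rcases (inferInstance : (commutator T).Normal).eq_bot_or_eq_top with h | h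
    · exfalso
      refine hTna fun p q => ?_
      have : ⁅p, q⁆ ∈ commutator T := by
        rw [_root_.commutator_def]; exact commutator_mem_commutator (mem_top p) (mem_top q)
      rw [h, mem_bot] at this
      exact commutatorElement_eq_one_iff_mul_comm.1 this
    · exact h
  have hy : (⟨y, hyN⟩ : N) ∈ commutator N := by
    have h := U.y_commutator hnwc
    have e' : (commutator N).map N.subtype = ⁅N, N⁆ := by
      rw [_root_.commutator_def, Subgroup.map_commutator, ← MonoidHom.range_eq_map, Subgroup.range_subtype]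
    rw [← e'] at h
    obtain ⟨w, hw, hwy⟩ := h
    exact (Subtype.ext hwy : w = ⟨y, hyN⟩) ▸ hw
  have hker : ∀ n : N, π n = 1 → n ∈ commutator N := by
    intro n hn
    obtain ⟨k, hk⟩ := (Submonoid.mem_powers_iff _ _).1 (mem_powers_iff_mem_zpowers.2 ((U.ker n).1 hn))
    rw [show n = (⟨y, hyN⟩ : N) ^ k from Subtype.ext hk.symm]
    exact pow_mem hy k
  have hperf : commutator N = ⊤ := by
    refine eq_top_iff.2 fun n _ => ?_
    have h : π n ∈ (commutator N).map π := by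
      rw [_root_.commutator_def, Subgroup.map_commutator, ← MonoidHom.range_eq_map, MonoidHom.range_eq_top.2 U.surj,
        ← _root_.commutator_def, hT]
      exact mem_top _
    obtain ⟨c, hc, e'⟩ := h
    have : c⁻¹ * n ∈ commutator N := hker _ (by rw [map_mul, map_inv, e', inv_mul_cancel])
    have := mul_mem hc this
    rwa [mul_inv_cancel_left] at this
  have hcent : center N = π.ker := by
    refine le_antisymm (fun n hn => ?_) fun n hn => ?_
    · have hc : π n ∈ center T := mem_center_iff.2 fun q => by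
        obtain ⟨m, rfl⟩ := U.surj q
        rw [← map_mul, ← map_mul, mem_center_iff.1 hn m]
      rcases (inferInstance : (center T).Normal).eq_bot_or_eq_top with h | h
      · rw [h, mem_bot] at hc
        exact hc
      · exact absurd (fun p q => (mem_center_iff.1 (h ▸ mem_top q : q ∈ center T) p)) hTna
    · refine mem_center_iff.2 fun m => Subtype.ext ?_
      obtain ⟨k, hk⟩ := (Submonoid.mem_powers_iff _ _).1 (mem_powers_iff_mem_zpowers.2 ((U.ker n).1 hn))
      show (m : G) * n = n * m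
      rw [← hk]
      exact ((show Commute (m : G) y from (U.memN m).1 m.2).pow_right k).eq
  refine ⟨⟨hperf⟩, ?_⟩
  let e2 : N ⧸ center N ≃* T :=
    (QuotientGroup.quotientMulEquivOfEq hcent).trans (QuotientGroup.quotientKerEquivOfSurjective π U.surj)
  haveI : Nontrivial (N ⧸ center N) := e2.toEquiv.nontrivial
  exact IsSimpleGroup.isSimpleGroup_of_surjective e2.symm.toMonoidHom e2.symm.surjective

end Quo

namespace Data

variable (D : Data z Q v ρ y)
include D

/-- The element is inverted by some element. -/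
theorem exists_inverter : ∃ m : G, m * y * m⁻¹ = y * y := by
  have S := D.setup
  obtain ⟨g, hg, hge⟩ := exists_g0_inverter
  obtain ⟨c, hc, hce⟩ := S.ρ_surj g hg
  obtain ⟨q, hq, -, e⟩ := S.conj_of_rho_eq ⊤ (x := c * y * c⁻¹) (x' := y * y)
    (mul_mem (mul_mem hc D.mem) (inv_mem hc)) (mul_mem D.mem D.mem) (mem_top _) (mem_top _)
    (by rw [conj_pow, D.cube]; group) (by rw [(Commute.refl y).mul_pow, D.cube, one_mul])
    (by rw [S.ρ_mul _ (mul_mem hc D.mem) _ (inv_mem hc), S.ρ_mul _ hc _ D.mem, S.ρ_inv hc,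
      S.ρ_mul _ D.mem _ D.mem, hce, D.img, hge])
  exact ⟨q * c, by rw [← e]; group⟩

/-- The centralizer has index two in the normalizer. -/
theorem relIndex_two :
    (centralizer ((zpowers y : Subgroup G) : Set G)).relIndex (normalizer ((zpowers y : Subgroup G) : Set G)) = 2 := by
  obtain ⟨m, hm⟩ := D.exists_inverter
  have hcz : ∀ x : G, x ∈ centralizer ((zpowers y : Subgroup G) : Set G) ↔ x * y * x⁻¹ = y := fun x => by
    rw [conj_eq_iff_comm, mem_centralizer_iff]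
    refine ⟨fun h => (h y (mem_zpowers y)).symm, fun h k hk => ?_⟩
    obtain ⟨i, rfl⟩ := mem_zpowers_iff.1 hk
    exact ((show Commute x y from h).zpow_right i).eq.symm
  have hnz : ∀ x : G, x ∈ normalizer ((zpowers y : Subgroup G) : Set G) →
      x * y * x⁻¹ = y ∨ x * y * x⁻¹ = y * y := fun x hx => by
    have h : x * y * x⁻¹ ∈ zpowers y := (mem_normalizer_iff.1 hx y).1 (mem_zpowers y)
    obtain ⟨k, hk⟩ := (Submonoid.mem_powers_iff _ _).1 (mem_powers_iff_mem_zpowers.2 h)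
    rw [pow_eq_pow_mod k D.cube] at hk
    have hlt := Nat.mod_lt k (show 0 < 3 by norm_num)
    interval_cases (k % 3)
    · rw [pow_zero] at hk
      exact absurd (conj_eq_one_iff.1 hk.symm) D.y_ne
    · exact Or.inl (by rw [← hk, pow_one])
    · exact Or.inr (by rw [← hk, pow_two])
  have hne : y * y ≠ y := fun e => D.y_ne (mul_eq_left.1 e)
  have h4 : y * y * (y * y) = y := by
    calc y * y * (y * y) = y ^ 3 * y := by rw [pow_succ, pow_two]; simp only [mul_assoc]
      _ = y := by rw [D.cube, one_mul]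
  have hpow : ∀ x : G, x * y * x⁻¹ = y * y → x * (y * y) * x⁻¹ = y := fun x hx => by
    rw [show x * (y * y) * x⁻¹ = x * y * x⁻¹ * (x * y * x⁻¹) by group, hx, h4]
  have hmN : m ∈ normalizer ((zpowers y : Subgroup G) : Set G) := by
    refine mem_normalizer_iff.2 fun k => ⟨fun hk => ?_, fun hk => ?_⟩
    · obtain ⟨i, rfl⟩ := mem_zpowers_iff.1 hk
      rw [← conj_zpow, hm]
      exact zpow_mem (mul_mem (mem_zpowers y) (mem_zpowers y)) i
    · obtain ⟨i, hi⟩ := mem_zpowers_iff.1 hk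
      have e : k = (m⁻¹ * y * m⁻¹⁻¹) ^ i := by rw [conj_zpow, hi]; group
      have e2 : m⁻¹ * y * m⁻¹⁻¹ = y * y := by
        calc m⁻¹ * y * m⁻¹⁻¹ = m⁻¹ * (m * (y * y) * m⁻¹) * m := by rw [hpow m hm, inv_inv]
          _ = y * y := by group
      rw [e, e2]
      exact zpow_mem (mul_mem (mem_zpowers y) (mem_zpowers y)) i
  rw [Subgroup.relIndex, Subgroup.index_eq_two_iff]
  refine ⟨⟨m, hmN⟩, fun b => ?_⟩
  simp only [Subgroup.mem_subgroupOf, Subgroup.coe_mul]
  rw [hcz, hcz]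
  have hbm : (b : G) * m * y * ((b : G) * m)⁻¹ = (b : G) * y * (b : G)⁻¹ * ((b : G) * y * (b : G)⁻¹) := by
    calc (b : G) * m * y * ((b : G) * m)⁻¹ = (b : G) * (m * y * m⁻¹) * (b : G)⁻¹ := by group
      _ = _ := by rw [hm]; group
  rw [hbm]
  rcases hnz b b.2 with h | h <;> rw [h]
  · exact Or.inr ⟨rfl, fun e => hne e⟩
  · exact Or.inl ⟨h4, fun e => hne e⟩

end Data

end

end CfsgLib.Spor.SuzType.YCent
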