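import Cfsg.Agent.Lib.Spor.SuzType.YCent.Commutator
import Cfsg.Agent.Lib.Spor.UFourType.Families
import Cfsg.Agent.Lib.Spor.UFourType.Main
import Mathlib.GroupTheory.Nilpotent

/-!
# The elementary abelian group of order 81 in a group of `U₄(3)` type and its normalizer
-/

set_option autoImplicit false
set_option synthInstance.maxSize 4096

namespace CfsgLib.Spor.UFourType

open Subgroup

noncomputable section

/-- The codes normalizing the group of order nine. -/
def normP : List ℕ := (List.range 1152).filter fun c => listP.all fun d => listP.any fun e => mC c d == mC e c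

theorem normP_iff : ∀ c < 1152, (c ∈ normP ↔ ∀ d ∈ listP, ∃ e ∈ listP, mC c d = mC e c) := by
  intro c hc
  simp [normP, hc]

theorem normP_facts : normP.Nodup ∧ normP.length = 72 ∧ (∀ c ∈ normP, c < 1152) ∧
    (normP.filter fun c => mC c aC == mC aC c).length = 18 := by decide +kernel

theorem normP_invol : ∀ c ∈ normP, mC c c = 0 → c = 0 ∨ c = zC ∨
    (c ≠ zC ∧ (normP.filter fun d => mC c d == mC d c).length % 8 ≠ 0 ∧
      ∃ d ∈ [400, 404], d ∈ listP ∧ d ≠ 0 ∧ mC c d = mC d c) := by decide +kernel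

theorem a_moves : (∃ k ∈ normP, mC k aC = mC (mC aC aC) k) ∧ ∃ k ∈ normP, mC k aC = mC 16 k := by decide +kernel

theorem orbit_P : ∀ c ∈ listP, c = 0 ∨ c ∈ [aC, mC aC aC, 16, mC 16 16] ∨ c ∈ [400, 404, 496, 500] := by
  decide +kernel

theorem four_distinct : [aC, mC aC aC, 16, mC 16 16].Nodup ∧
    ∀ c ∈ [aC, mC aC aC, 16, mC 16 16], c ∈ listP ∧ c < 1152 := by decide +kernel

namespace Model

variable {G : Type*} [Group G] [Finite G] {z : G} {Q : Subgroup G} {ψ : ℕ → G} (M : Model z Q ψ)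
include M

omit [Finite G] in
theorem z_sq_conj (x : G) : z * (z * x * z) * z = x := by
  calc z * (z * x * z) * z = z * z * x * (z * z) := by group
    _ = x := by rw [M.zz, one_mul, mul_one]

omit [Finite G] in
theorem z_conj_inv (x : G) : z * x⁻¹ * z = (z * x * z)⁻¹ := by
  rw [mul_inv_rev, mul_inv_rev, M.z_inv, mul_assoc]

omit [Finite G] in
theorem z_conj_mul (x y : G) : z * (x * y) * z = z * x * z * (z * y * z) := by
  calc z * (x * y) * z = z * x * 1 * (y * z) := by group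
    _ = z * x * (z * z) * (y * z) := by rw [M.zz]
    _ = _ := by group

omit [Finite G] in
theorem z_fixed_iff (x : G) : z * x * z = x ↔ z * x = x * z :=
  ⟨fun e => by
    calc z * x = z * x * z * z := by rw [mul_assoc (z * x), M.zz, mul_one]
      _ = x * z := by rw [e], fun e => by rw [e, mul_assoc, M.zz, mul_one]⟩

/-- The order is known, so the order of a three-subgroup divides 729. -/
theorem three_dvd {R : Subgroup G} (hR : IsPGroup 3 R) : Nat.card R ∣ 729 := by
  haveI : Fact (Nat.Prime 3) := ⟨Nat.prime_three⟩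
  obtain ⟨n, hn⟩ := IsPGroup.iff_card.1 hR
  have h : 3 ^ n ∣ 729 * 4480 := by
    have := Subgroup.card_subgroup_dvd_card R
    rw [hn, M.card_eq] at this
    exact (show (729 : ℕ) * 4480 = 3265920 by norm_num) ▸ this
  rw [hn]
  exact (Nat.Coprime.dvd_mul_right (Nat.Coprime.pow_left n (by norm_num))).1 h

theorem isPGroup_grpA : IsPGroup 3 M.grpA := IsPGroup.of_card (n := 4) M.card_grpA

/-- The inverted elements of the elementary group. -/
def invA : Subgroup G where
  carrier := {d | d ∈ M.grpA ∧ z * d * z = d⁻¹}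
  one_mem' := ⟨one_mem _, by rw [mul_one, M.zz, inv_one]⟩
  mul_mem' := by
    rintro d e ⟨hd, hdz⟩ ⟨he, hez⟩
    exact ⟨mul_mem hd he, by rw [M.z_conj_mul, hdz, hez, ← mul_inv_rev, M.grpA_comm he hd]⟩
  inv_mem' := by
    rintro d ⟨hd, hdz⟩
    exact ⟨inv_mem hd, by rw [M.z_conj_inv, hdz]⟩

theorem mem_invA {d : G} : d ∈ M.invA ↔ d ∈ M.grpA ∧ z * d * z = d⁻¹ := Iff.rfl

theorem card_invA : Nat.card M.invA = 9 := M.card_A_inverted

theorem invA_le : M.invA ≤ M.grpA := fun _ h => h.1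

/-- The fixed elements of the elementary group. -/
theorem fixed_A {e : G} (he : e ∈ M.grpA) (hz : z * e = e * z) : e ∈ M.grpP := by
  refine M.fixed_in_P (mem_centralizer_iff.2 fun p hp => (M.grpP_comm_grpA hp he)) ?_ (M.grpA_odd he)
  exact mem_centralizer_singleton_iff.2 hz.symm

/-- An element of odd order outside normalizing the elementary group fixes few of its elements. -/
theorem real_bound {τ : G} (hτ : τ ∈ normalizer (M.grpA : Set G)) (ho : Odd (orderOf τ)) (hτA : τ ∉ M.grpA) :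
    Nat.card (M.grpA ⊓ centralizer ({τ} : Set G) : Subgroup G) ≤ 9 := by
  classical
  set W := M.grpA ⊓ centralizer ({τ} : Set G) with hW
  by_contra hlt
  push Not at hlt
  obtain ⟨d, hdW, hdD, hd1⟩ : ∃ d, d ∈ W ∧ d ∈ M.invA ∧ d ≠ 1 := by
    by_contra hcon
    push Not at hcon
    let f : W × M.invA → M.grpA := fun x => ⟨x.1 * x.2, mul_mem x.1.2.1 x.2.2.1⟩
    have hf : Function.Injective f := fun x y e => by
      have e' : (x.1 : G) * x.2 = y.1 * y.2 := congrArg Subtype.val e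
      have hmem : (y.1 : G)⁻¹ * x.1 ∈ M.invA := by
        rw [show (y.1 : G)⁻¹ * x.1 = (y.2 : G) * (x.2 : G)⁻¹ by
          rw [eq_mul_inv_iff_mul_eq, mul_assoc, e', inv_mul_cancel_left]]
        exact mul_mem y.2.2 (inv_mem x.2.2)
      have h1 : x.1 = y.1 := Subtype.ext
        (inv_mul_eq_one.1 (hcon _ (mul_mem (inv_mem y.1.2) x.1.2) hmem)).symm
      rw [h1] at e'
      exact Prod.ext h1 (Subtype.ext (mul_left_cancel e'))
    have h := Nat.card_le_card_of_injective f hf
    rw [Nat.card_prod, M.card_invA, M.card_grpA] at h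
    omega
  obtain ⟨b, g, hg⟩ := M.A_real hdD.1 hdD.2 hd1
  have hinj : Function.Injective (MulAut.conj g).toMonoidHom := (MulAut.conj g).injective
  have hBH : M.grpA.map (MulAut.conj g).toMonoidHom ≤ M.grpM b := by
    rintro _ ⟨a, ha, rfl⟩
    exact M.grpH_le b ((hg a).1 (M.grpA_comm ha hdD.1))
  have hBA := M.abelian81 _ hBH (by rw [Subgroup.card_map_of_injective hinj, M.card_grpA]) (by
    rintro _ ⟨a, ha, rfl⟩ _ ⟨a', ha', rfl⟩
    rw [← map_mul, ← map_mul, M.grpA_comm ha ha'])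
  have hτH : g * τ * g⁻¹ ∈ M.grpH b := (hg τ).1 (mem_centralizer_singleton_iff.1 hdW.2).symm
  have h9 := M.fix_bound (M.grpH_le b hτH) (show Odd (orderOf (MulAut.conj g τ)) by rw [MulEquiv.orderOf_eq]; exact ho)
    (fun h => hτA (by
      rw [← hBA] at h
      obtain ⟨a, ha, e⟩ := h
      exact hinj e ▸ ha))
    (W.map (MulAut.conj g).toMonoidHom) (fun x hx => hBA ▸ Subgroup.map_mono inf_le_left hx) (by
      rintro _ ⟨x, hx, rfl⟩
      have hc : τ * x = x * τ := (mem_centralizer_singleton_iff.1 hx.2).symm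
      have : g * τ * g⁻¹ * (MulAut.conj g x) * (g * τ * g⁻¹)⁻¹ * (MulAut.conj g x)⁻¹ = 1 := by
        rw [MulAut.conj_apply]
        calc _ = g * (τ * x * τ⁻¹ * x⁻¹) * g⁻¹ := by group
          _ = 1 := by rw [hc, mul_inv_cancel_right, mul_inv_cancel]; group
      exact this ▸ one_mem _)
  rw [Subgroup.card_map_of_injective hinj] at h9
  omega

omit [Finite G] in
/-- The Sylow three-subgroup. -/
def grpS [Finite G] : Subgroup G := M.grpO ⊔ zpowers (ψ 16)

theorem card_grpS : Nat.card M.grpS = 729 := M.card_sup_b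

theorem isPGroup_grpS : IsPGroup 3 M.grpS := IsPGroup.of_card (n := 6) M.card_grpS

theorem grpS_le_X : M.grpS ≤ M.grpX := M.sup_b_le

theorem grpP_le_S : M.grpP ≤ M.grpS := by
  intro p hp
  obtain ⟨i, j, rfl⟩ := M.grpP_gen hp
  exact mul_mem (mem_sup_left (pow_mem M.aO_mem i)) (mem_sup_right (pow_mem (mem_zpowers _) j))

theorem grpA_le_S : M.grpA ≤ M.grpS := by
  intro x hx
  obtain ⟨p, hp, d, hd, e, hdz⟩ := M.split_A hx
  rw [e]
  exact mul_mem (M.grpP_le_S hp) (mem_sup_left (M.A_inverted_memO hd hdz))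

theorem grpS_z {s : G} (hs : s ∈ M.grpS) : z * s * z ∈ M.grpS := by
  have hle : M.grpS ≤ M.grpS.comap (MulAut.conj z).toMonoidHom := by
    refine sup_le (fun o ho => ?_) (zpowers_le.2 ?_)
    · exact mem_sup_left (M.grpO_conj M.aX_mem.2.1 ho)
    · show z * ψ 16 * z⁻¹ ∈ M.grpS
      rw [mul_inv_eq_iff_eq_mul.2 (M.comm_z (show 16 < 1152 by norm_num)).symm]
      exact mem_sup_right (mem_zpowers _)
  have h : z * s * z⁻¹ ∈ M.grpS := hle hs
  rwa [M.z_inv] at h

theorem center_S {x : G} (hx : x ∈ M.grpS) (hc : ∀ s ∈ M.grpS, x * s = s * x) : x ∈ zpowers (ψ aC) := by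
  have h729 : x ^ 729 = 1 := by
    have := congrArg Subtype.val (pow_card_eq_one' (x := (⟨x, hx⟩ : M.grpS)))
    rwa [M.card_grpS] at this
  have hxA : x ∈ M.grpA := M.mem_grpA.2 ⟨mem_centralizer_iff.2 fun p hp => (hc p (M.grpP_le_S hp)).symm,
    Odd.of_dvd_nat (show Odd 729 by decide) (orderOf_dvd_of_pow_eq_one h729)⟩
  obtain ⟨p, hp, d, hd, e, hdz⟩ := M.split_A hxA
  have hpz : z * p * z = p := (M.z_fixed_iff p).2 (mem_centralizer_singleton_iff.1 (M.grpP_le_C hp)).symm
  have hzx : ∀ s ∈ M.grpS, z * x * z * s = s * (z * x * z) := fun s hs => by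
    calc z * x * z * s = z * x * z * (z * (z * s * z) * z) := by rw [M.z_sq_conj]
      _ = z * (x * (z * s * z)) * z := by rw [← M.z_conj_mul]
      _ = z * (z * s * z * x) * z := by rw [hc _ (M.grpS_z hs)]
      _ = s * (z * x * z) := by rw [M.z_conj_mul, M.z_sq_conj]
  have hd2 : x * (z * x * z)⁻¹ = d ^ 2 := by
    rw [e, M.z_conj_mul, hpz, hdz, mul_inv_rev, inv_inv, ← mul_assoc, pow_two,
      mul_inv_eq_iff_eq_mul, M.grpP_comm_grpA hp hd]
    rw [mul_assoc d p d, M.grpP_comm_grpA hp hd, ← mul_assoc]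
  by_cases hd1 : d = 1
  · obtain ⟨i, j, hp'⟩ := M.grpP_gen hp
    rw [hd1, mul_one] at e
    have h3 : ψ 16 ^ 3 = 1 := M.grpP_cube M.b_memX.2
    rw [e, hp', pow_eq_pow_mod j h3]
    rcases Nat.eq_zero_or_pos (j % 3) with h | h
    · rw [h, pow_zero, mul_one]; exact pow_mem (mem_zpowers _) i
    exfalso
    have hbj : ψ 16 ^ j ∈ M.grpK := by
      refine ⟨pow_mem M.b_memX.1 j, fun o ho => ?_⟩
      have ha : ∀ g ∈ M.grpX, g * ψ aC ^ i = ψ aC ^ i * g :=
        fun g hg => ((show Commute g (ψ aC) from M.mem_grpX.1 hg).pow_right i).eq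
      have h1 : Commute (ψ 16 ^ j) o := by
        have e' : ψ 16 ^ j = (ψ aC ^ i)⁻¹ * x := by rw [e, hp', inv_mul_cancel_left]
        rw [e']
        exact (show Commute (ψ aC ^ i) o from (ha o (M.grpO_le ho)).symm).inv_left.mul_left
          (hc o (mem_sup_left ho))
      rw [h1.eq, mul_inv_cancel_right, mul_inv_cancel]
      exact one_mem _
    refine M.b_notMemK ?_
    rw [pow_eq_pow_mod j h3] at hbj
    have hlt := Nat.mod_lt j (show 0 < 3 by norm_num)
    interval_cases (j % 3)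
    · rwa [pow_one] at hbj
    · have : ψ 16 = (ψ 16 ^ 2)⁻¹ := eq_inv_of_mul_eq_one_right (by rw [← pow_succ]; exact h3)
      rw [this]; exact inv_mem hbj
  · exfalso
    obtain ⟨b, g, hg⟩ := M.A_real hd hdz hd1
    have hle : M.grpS ≤ centralizer ({d} : Set G) := fun s hs => by
      have h2 : Commute (d ^ 2) s := by
        rw [← hd2]; exact (show Commute x s from hc s hs).mul_left (show Commute (z * x * z) s from hzx s hs).inv_left
      have h4 : (d ^ 2) ^ 2 = d := by rw [← pow_mul, pow_succ, M.grpA_cube hd, one_mul]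
      exact mem_centralizer_singleton_iff.2 (h4 ▸ h2.pow_left 2).eq.symm
    have h := (Subgroup.card_dvd_of_le hle).trans (M.card_real hg)
    rw [M.card_grpS] at h
    norm_num at h

theorem conj_S {R : Subgroup G} (hR : IsPGroup 3 R) :
    ∃ g : G, R.map (MulAut.conj g).toMonoidHom ≤ M.grpS := by
  haveI : Fact (Nat.Prime 3) := ⟨Nat.prime_three⟩
  obtain ⟨P₁, h₁⟩ := hR.exists_le_sylow
  obtain ⟨P₂, h₂⟩ := M.isPGroup_grpS.exists_le_sylow
  have e : M.grpS = P₂ :=
    eq_of_le_of_card_ge h₂ (by rw [M.card_grpS]; exact Nat.le_of_dvd (by norm_num) (M.three_dvd P₂.isPGroup'))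
  obtain ⟨g, hg⟩ := MulAction.exists_smul_eq G P₁ P₂
  refine ⟨g, fun x hx => ?_⟩
  rw [e, ← hg, Sylow.coe_subgroup_smul]
  obtain ⟨r, hr, rfl⟩ := hx
  exact ⟨r, h₁ hr, rfl⟩

/-- The elementary group is the only abelian subgroup of its order in its normalizer. -/
theorem abelian_unique {B : Subgroup G} (hB : B ≤ normalizer (M.grpA : Set G)) (hc : Nat.card B = 81)
    (hab : ∀ x ∈ B, ∀ x' ∈ B, x * x' = x' * x) : B = M.grpA := by
  haveI : Fact (Nat.Prime 3) := ⟨Nat.prime_three⟩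
  by_contra hne
  obtain ⟨τ, hτ, hτA⟩ := SetLike.not_le_iff_exists.1 fun h : B ≤ M.grpA =>
    hne (eq_of_le_of_card_ge h (by rw [hc, M.card_grpA]))
  have hBp : IsPGroup 3 B := IsPGroup.of_card (n := 4) hc
  have hbound := M.real_bound (hB hτ) (Odd.of_dvd_nat (show Odd 81 by decide)
    (hc ▸ Subgroup.orderOf_dvd_natCard B hτ)) hτA
  have h9 : Nat.card (M.grpA ⊓ B : Subgroup G) ≤ 9 := by
    refine le_trans (Subgroup.card_le_of_le fun a ha => ?_) hbound
    exact ⟨ha.1, mem_centralizer_singleton_iff.2 (hab a ha.2 τ hτ)⟩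
  set R := B ⊔ M.grpA with hR
  have hRp : IsPGroup 3 R := hBp.to_sup_of_normal_right' M.isPGroup_grpA hB
  have hR729 := Nat.le_of_dvd (by norm_num) (M.three_dvd hRp)
  have e1 : Nat.card (M.grpA ⊓ B : Subgroup G) * M.grpA.relIndex B = 81 := by
    rw [← hc, ← Subgroup.inf_relIndex_right M.grpA B, ← Nat.card_congr (subgroupOfEquivOfLe (inf_le_right : M.grpA ⊓ B ≤ B)).toEquiv]
    exact Subgroup.card_mul_index _
  have e2 : 81 * M.grpA.relIndex R = Nat.card R := by
    rw [← M.card_grpA, ← Nat.card_congr (subgroupOfEquivOfLe (le_sup_right : M.grpA ≤ R)).toEquiv]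
    exact Subgroup.card_mul_index _
  have e3 : M.grpA.relIndex B ≤ M.grpA.relIndex R :=
    Subgroup.relIndex_le_of_le_right le_sup_left (fun h => by rw [h, mul_zero] at e2; exact absurd e2.symm Nat.card_pos.ne')
  have hr : M.grpA.relIndex B ≤ 9 := by omega
  have hI : Nat.card (M.grpA ⊓ B : Subgroup G) = 9 := by nlinarith
  have hr9 : M.grpA.relIndex B = 9 := by rw [hI] at e1; omega
  have hRc : Nat.card R = 729 := by omega
  obtain ⟨g, hg⟩ := M.conj_S hRp
  have hinj : Function.Injective (MulAut.conj g).toMonoidHom := (MulAut.conj g).injective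
  have hgS : R.map (MulAut.conj g).toMonoidHom = M.grpS :=
    eq_of_le_of_card_ge hg (by rw [Subgroup.card_map_of_injective hinj, hRc, M.card_grpS])
  have hle : (M.grpA ⊓ B).map (MulAut.conj g).toMonoidHom ≤ zpowers (ψ aC) := by
    rintro _ ⟨x, hx, rfl⟩
    refine M.center_S (hg (mem_map_of_mem _ (mem_sup_right hx.1))) fun s hs => ?_
    rw [← hgS] at hs
    obtain ⟨r, hr, rfl⟩ := hs
    rw [← map_mul, ← map_mul]
    congr 1
    have hle : R ≤ centralizer ({x} : Set G) := sup_le (fun y hy => mem_centralizer_singleton_iff.2 (hab y hy x hx.2))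
      fun y hy => mem_centralizer_singleton_iff.2 (M.grpA_comm hy hx.1)
    exact (mem_centralizer_singleton_iff.1 (hle hr)).symm
  have h := Subgroup.card_le_of_le hle
  rw [Subgroup.card_map_of_injective hinj, hI, Nat.card_zpowers, M.a_order] at h
  omega

theorem grpS_norm : M.grpS ≤ normalizer (M.grpA : Set G) := by
  haveI : Fact (Nat.Prime 3) := ⟨Nat.prime_three⟩
  haveI : Group.IsNilpotent M.grpS := M.isPGroup_grpS.isNilpotent
  by_contra hn
  set R := (M.grpS ⊓ normalizer (M.grpA : Set G)).subgroupOf M.grpS with hR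
  have hlt : R < ⊤ := lt_top_iff_ne_top.2 fun e => hn fun s hs => (show (⟨s, hs⟩ : M.grpS) ∈ R from e ▸ mem_top _).2
  obtain ⟨g, hg, hgR⟩ := SetLike.exists_of_lt (normalizerCondition_of_isNilpotent R hlt)
  refine hgR ⟨g.2, ?_⟩
  have hinj : Function.Injective (MulAut.conj (g : G)).toMonoidHom := (MulAut.conj (g : G)).injective
  have hle : M.grpA.map (MulAut.conj (g : G)).toMonoidHom ≤ normalizer (M.grpA : Set G) := by
    rintro _ ⟨a, ha, rfl⟩
    have : g * (⟨a, M.grpA_le_S ha⟩ : M.grpS) * g⁻¹ ∈ R :=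
      (mem_normalizer_iff.1 hg _).1 ⟨M.grpA_le_S ha, le_normalizer ha⟩
    exact this.2
  have e := M.abelian_unique hle (by rw [Subgroup.card_map_of_injective hinj, M.card_grpA]) (by
    rintro _ ⟨a, ha, rfl⟩ _ ⟨a', ha', rfl⟩
    rw [← map_mul, ← map_mul, M.grpA_comm ha ha'])
  exact M.mem_normA fun a ha => e ▸ mem_map_of_mem _ ha

/-- Every abelian subgroup of order 81 is conjugate to the elementary group. -/
theorem abelian_conj {B : Subgroup G} (hc : Nat.card B = 81)
    (hab : ∀ x ∈ B, ∀ x' ∈ B, x * x' = x' * x) :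
    ∃ g : G, B.map (MulAut.conj g).toMonoidHom = M.grpA := by
  haveI : Fact (Nat.Prime 3) := ⟨Nat.prime_three⟩
  obtain ⟨g, hg⟩ := M.conj_S (IsPGroup.of_card (n := 4) hc)
  refine ⟨g, M.abelian_unique (hg.trans M.grpS_norm)
    (by rw [Subgroup.card_map_of_injective (show Function.Injective (MulAut.conj g).toMonoidHom from (MulAut.conj g).injective), hc]) ?_⟩
  rintro _ ⟨a, ha, rfl⟩ _ ⟨a', ha', rfl⟩
  rw [← map_mul, ← map_mul, hab a ha a' ha']

theorem code_norm {g : G} : g ∈ normalizer (M.grpA : Set G) ⊓ centralizer ({z} : Set G) ↔ ∃ c ∈ normP, ψ c = g := by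
  constructor
  · rintro ⟨hg, hgz⟩
    obtain ⟨c, hc, rfl⟩ := M.surj g hgz
    refine ⟨c, (normP_iff c hc).2 fun d hd => ?_, rfl⟩
    have hp : ψ d ∈ M.grpP := ⟨d, hd, rfl⟩
    have h1 : ψ c * ψ d * (ψ c)⁻¹ ∈ M.grpA := M.normA hg (M.grpP_le_grpA hp)
    have h2 : ψ c * ψ d * (ψ c)⁻¹ ∈ centralizer ({z} : Set G) :=
      mul_mem (mul_mem hgz (M.grpP_le_C hp)) (inv_mem hgz)
    obtain ⟨e, he, e'⟩ := M.fixed_A h1 (mem_centralizer_singleton_iff.1 h2).symm
    refine ⟨e, he, M.inj _ (mC_lt hc (lists_lt.2.2 d hd)) _ (mC_lt (lists_lt.2.2 e he) hc) ?_⟩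
    rw [← M.mul c hc d (lists_lt.2.2 d hd), ← M.mul e (lists_lt.2.2 e he) c hc, e', inv_mul_cancel_right]
  · rintro ⟨c, hc, rfl⟩
    have lc := normP_facts.2.2.1 c hc
    refine ⟨?_, M.mem c lc⟩
    have hP : M.grpP.map (MulAut.conj (ψ c)).toMonoidHom = M.grpP := by
      refine eq_of_le_of_card_ge ?_ (le_of_eq (Subgroup.card_map_of_injective
        (show Function.Injective (MulAut.conj (ψ c)).toMonoidHom from (MulAut.conj (ψ c)).injective)).symm)
      rintro _ ⟨p, ⟨d, hd, rfl⟩, rfl⟩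
      obtain ⟨e, he, e'⟩ := (normP_iff c lc).1 hc d hd
      exact ⟨e, he, (M.conj_eq lc (lists_lt.2.2 d hd) (lists_lt.2.2 e he) e').symm⟩
    refine M.mem_normA fun a ha => M.grpA_conj (fun p hp => ?_) ha
    rw [← hP] at hp
    obtain ⟨q, hq, rfl⟩ := hp
    show (ψ c)⁻¹ * (ψ c * q * (ψ c)⁻¹) * ψ c ∈ M.grpP
    rwa [show (ψ c)⁻¹ * (ψ c * q * (ψ c)⁻¹) * ψ c = q by group]

theorem card_codes {L : List ℕ} (hlt : ∀ c ∈ L, c < 1152) (hnd : L.Nodup) :
    Nat.card {g : G // ∃ c ∈ L, ψ c = g} = L.length := M.card_list hlt hnd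

theorem card_local : Nat.card (normalizer (M.grpA : Set G) ⊓ centralizer ({z} : Set G) : Subgroup G) = 72 := by
  rw [← normP_facts.2.1, ← M.card_codes normP_facts.2.2.1 normP_facts.1]
  exact Nat.card_congr (Equiv.subtypeEquivRight fun g => M.code_norm)

theorem z_norm : z ∈ normalizer (M.grpA : Set G) :=
  M.mem_normA fun a ha => by rw [M.z_inv]; exact M.grpA_conj_z ha

theorem no_sixteen : ¬ 16 ∣ Nat.card (normalizer (M.grpA : Set G)) := by
  intro h16
  haveI : Fact (Nat.Prime 2) := ⟨Nat.prime_two⟩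
  set N := normalizer (M.grpA : Set G) with hN
  set L := (centralizer ({z} : Set G)).subgroupOf N with hL
  have hLc : Nat.card L = 72 := by
    rw [← M.card_local, inf_comm, ← hN]
    exact Nat.card_congr
      { toFun := fun l => ⟨l.1.1, l.2, l.1.2⟩
        invFun := fun l => ⟨⟨l.1, l.2.2⟩, l.2.1⟩
        left_inv := fun l => rfl
        right_inv := fun l => rfl }
  obtain ⟨W₀, hW₀⟩ := Sylow.exists_subgroup_card_pow_prime (G := L) 2 (n := 3) (by rw [hLc]; norm_num)
  set W := W₀.map L.subtype with hW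
  have hWc : Nat.card W = 2 ^ 3 := by rw [hW, Subgroup.card_map_of_injective L.subtype_injective, hW₀]
  obtain ⟨K, hKc, hWK⟩ := Sylow.exists_subgroup_card_pow_succ (p := 2) (n := 3) (by norm_num; exact h16) hWc
  have hWle : W ≤ L := map_subtype_le W₀
  haveI : (W.subgroupOf K).Normal := Subgroup.normal_of_index_eq_two (by
    have e := (W.subgroupOf K).card_mul_index
    rw [Nat.card_congr (subgroupOfEquivOfLe hWK).toEquiv, hWc, hKc] at e
    norm_num at e
    omega)
  let zN : N := ⟨z, M.z_norm⟩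
  have hzW : zN ∈ W := by
    -- the centre lies in every Sylow subgroup of the local group
    by_contra hz
    have hzL : zN ∈ L := mem_centralizer_singleton_iff.2 rfl
    have hz2 : zN * zN = 1 := Subtype.ext M.zz
    have hzc : ∀ w ∈ W, w * zN = zN * w := fun w hw => Subtype.ext (mem_centralizer_singleton_iff.1 (hWle hw))
    have hsub : W ⊔ zpowers zN ≤ L := sup_le hWle (zpowers_le.2 hzL)
    have hp : IsPGroup 2 (W ⊔ zpowers zN : Subgroup N) := by
      refine IsPGroup.to_sup_of_normal_right' (IsPGroup.of_card (n := 3) hWc) (IsPGroup.of_card (n := 1) (by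
        rw [Nat.card_zpowers, pow_one]; exact orderOf_eq_prime (by rw [pow_two]; exact hz2) fun e => hz (e ▸ one_mem _))) ?_
      intro w hw
      refine Subgroup.mem_normalizer_iff.2 fun x => ?_
      have hcw : ∀ x ∈ zpowers zN, w * x * w⁻¹ = x := fun x hx => by
        obtain ⟨i, rfl⟩ := mem_zpowers_iff.1 hx
        exact mul_inv_eq_iff_eq_mul.2 ((show Commute w zN from hzc w hw).zpow_right i).eq
      refine ⟨fun hx => by rw [hcw x hx]; exact hx, fun hx => ?_⟩
      have hcw' := hcw _ hx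
      have : w * x * w⁻¹ = x := by
        calc w * x * w⁻¹ = w⁻¹ * (w * (w * x * w⁻¹) * w⁻¹) * w := by group
          _ = w⁻¹ * (w * x * w⁻¹) * w := by rw [hcw']
          _ = x := by group
      rwa [this] at hx
    obtain ⟨n, hn⟩ := IsPGroup.iff_card.1 hp
    have h72 := Subgroup.card_dvd_of_le hsub
    rw [hLc, hn] at h72
    have h8 : 2 ^ n ≤ 2 ^ 3 := by
      refine Nat.pow_le_pow_right (by norm_num) ?_
      by_contra h4
      exact absurd ((pow_dvd_pow 2 (show 4 ≤ n by omega)).trans h72) (by norm_num)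
    exact hz ((eq_of_le_of_card_ge (le_sup_left : W ≤ W ⊔ zpowers zN) (by rw [hn, hWc]; exact h8)).symm ▸
      mem_sup_right (mem_zpowers zN))
  obtain ⟨g, hgK, hgW⟩ : ∃ g ∈ K, g ∉ W := by
    by_contra h
    push Not at h
    have := Subgroup.card_le_of_le (H := K) (K := W) h
    rw [hKc, hWc] at this
    norm_num at this
  have hconj : ∀ w ∈ W, g * w * g⁻¹ ∈ W := fun w hw =>
    (inferInstance : (W.subgroupOf K).Normal).conj_mem ⟨w, hWK hw⟩ hw ⟨g, hgK⟩
  set v := g * zN * g⁻¹ with hv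
  have hvW : v ∈ W := hconj _ hzW
  have hvc : ∀ w ∈ W, (v : G) * w = (w : G) * v := fun w hw => by
    have hw' : g⁻¹ * w * g ∈ W := by
      have h := (inferInstance : (W.subgroupOf K).Normal).conj_mem ⟨w, hWK hw⟩ hw ⟨g, hgK⟩⁻¹
      simp only [inv_inv] at h
      exact h
    have h : (g⁻¹ * w * g) * zN = zN * (g⁻¹ * w * g) := Subtype.ext (mem_centralizer_singleton_iff.1 (hWle hw'))
    exact congrArg Subtype.val (show v * w = w * v by
      calc v * w = g * (zN * (g⁻¹ * w * g)) * g⁻¹ := by rw [hv]; group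
        _ = g * (g⁻¹ * w * g * zN) * g⁻¹ := by rw [h]
        _ = w * v := by rw [hv]; group)
  have hvG : (v : G) ∈ N ⊓ centralizer ({z} : Set G) := ⟨v.2, hWle hvW⟩
  obtain ⟨c, hc, hcv⟩ := M.code_norm.1 hvG
  have lc := normP_facts.2.2.1 c hc
  have hcc : mC c c = 0 := (M.eq_one_iff (mC_lt lc lc)).1 (by
    rw [← M.mul c lc c lc, hcv, hv]
    show (g : G) * z * (g : G)⁻¹ * ((g : G) * z * (g : G)⁻¹) = 1
    rw [show (g : G) * z * (g : G)⁻¹ * ((g : G) * z * (g : G)⁻¹) = (g : G) * (z * z) * (g : G)⁻¹ by group, M.zz]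
    group)
  rcases normP_invol c hc hcc with rfl | rfl | ⟨-, hmod, -⟩
  · rw [M.one] at hcv
    exact M.z_ne (conj_eq_one_iff.1 hcv.symm)
  · rw [M.at_z] at hcv
    have hgL : g ∈ L := mem_centralizer_singleton_iff.2 (mul_inv_eq_iff_eq_mul.1 hcv.symm)
    have hKL : W ⊔ zpowers g ≤ L := sup_le hWle (zpowers_le.2 hgL)
    have hlt : W < W ⊔ zpowers g := lt_of_le_of_ne le_sup_left fun e => hgW (e ▸ mem_sup_right (mem_zpowers g))
    have hleK : W ⊔ zpowers g ≤ K := sup_le hWK (zpowers_le.2 hgK)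
    have h1 := (Subgroup.card_dvd_of_le hKL)
    have h2 := Subgroup.card_dvd_of_le hleK
    have h3 := Subgroup.card_dvd_of_le hlt.le
    have h4 : Nat.card (W ⊔ zpowers g : Subgroup N) ≠ 8 := fun e =>
      hlt.ne (eq_of_le_of_card_ge hlt.le (by rw [e, hWc]; norm_num))
    rw [hLc] at h1
    rw [hKc] at h2
    rw [hWc] at h3
    have h5 := Nat.dvd_gcd h1 h2
    norm_num at h5 h3
    exact h4 (Nat.dvd_antisymm h5 h3)
  · let f : W → {x : G // ∃ d ∈ normP.filter (fun d => mC c d == mC d c), ψ d = x} := fun w => ⟨(w.1 : G), by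
      obtain ⟨d, hd, hdw⟩ := M.code_norm.1 (show ((w.1 : G)) ∈ N ⊓ centralizer ({z} : Set G) from ⟨w.1.2, hWle w.2⟩)
      refine ⟨d, List.mem_filter.2 ⟨hd, ?_⟩, hdw⟩
      rw [beq_iff_eq]
      exact (M.comm_iff lc (normP_facts.2.2.1 d hd)).1 (by rw [hcv, hdw]; exact hvc _ w.2)⟩
    let S' : Subgroup G := N ⊓ centralizer ({z} : Set G) ⊓ centralizer ({(v : G)} : Set G)
    have hS' : Nat.card S' = (normP.filter fun d => mC c d == mC d c).length := by
      rw [← M.card_codes (fun d hd => normP_facts.2.2.1 d (List.mem_filter.1 hd).1) (normP_facts.1.filter _)]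
      refine Nat.card_congr (Equiv.subtypeEquivRight fun x => ?_)
      constructor
      · rintro ⟨hx, hxv⟩
        obtain ⟨d, hd, rfl⟩ := M.code_norm.1 hx
        refine ⟨d, List.mem_filter.2 ⟨hd, ?_⟩, rfl⟩
        rw [beq_iff_eq]
        exact (M.comm_iff lc (normP_facts.2.2.1 d hd)).1 (by rw [hcv]; exact (mem_centralizer_singleton_iff.1 hxv).symm)
      · rintro ⟨d, hd, rfl⟩
        obtain ⟨hd, hdc⟩ := List.mem_filter.1 hd
        rw [beq_iff_eq] at hdc
        refine ⟨M.code_norm.2 ⟨d, hd, rfl⟩, mem_centralizer_singleton_iff.2 ?_⟩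
        rw [← hcv]
        exact ((M.comm_iff lc (normP_facts.2.2.1 d hd)).2 hdc).symm
    have hWS : W.map N.subtype ≤ S' := by
      rintro _ ⟨w, hw, rfl⟩
      exact ⟨⟨w.2, hWle hw⟩, mem_centralizer_singleton_iff.2 (hvc w hw).symm⟩
    have h := Subgroup.card_dvd_of_le hWS
    rw [Subgroup.card_map_of_injective N.subtype_injective, hWc, hS'] at h
    norm_num at h
    omega

/-- Every involution of the normalizer is conjugate in it to the centre. -/
theorem invol_conj {v : G} (hv : v ∈ normalizer (M.grpA : Set G)) (h2 : v * v = 1) (h1 : v ≠ 1) :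
    ∃ g ∈ normalizer (M.grpA : Set G), g * v * g⁻¹ = z := by
  haveI : Fact (Nat.Prime 2) := ⟨Nat.prime_two⟩
  haveI : Fact (Nat.Prime 3) := ⟨Nat.prime_three⟩
  set N := normalizer (M.grpA : Set G) with hN
  obtain ⟨g₀, hg₀, hv0⟩ : ∃ g ∈ N, g * v * g⁻¹ ∈ centralizer ({z} : Set G) := by
    set L := (centralizer ({z} : Set G)).subgroupOf N with hL
    obtain ⟨P⟩ : Nonempty (Sylow 2 L) := inferInstance
    have hLc : Nat.card L = 72 := by
      rw [← M.card_local, inf_comm, ← hN]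
      exact Nat.card_congr
        { toFun := fun l => ⟨l.1.1, l.2, l.1.2⟩
          invFun := fun l => ⟨⟨l.1, l.2.2⟩, l.2.1⟩
          left_inv := fun l => rfl
          right_inv := fun l => rfl }
    have hPc : Nat.card P = 8 := by
      rw [P.card_eq_multiplicity, hLc, show (72 : ℕ).factorization 2 = 3 by
        rw [show (72 : ℕ) = 2 ^ 3 * 9 by norm_num, Nat.factorization_mul (by norm_num) (by norm_num),
          Nat.prime_two.factorization_pow, Finsupp.add_apply, Finsupp.single_eq_same,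
          Nat.factorization_eq_zero_of_not_dvd (show ¬ 2 ∣ 9 by norm_num)]]
      norm_num
    set W := (P : Subgroup L).map L.subtype with hW
    have hWc : Nat.card W = 8 := by rw [hW, Subgroup.card_map_of_injective L.subtype_injective]; exact hPc
    have hWp : IsPGroup 2 W := IsPGroup.of_card (n := 3) hWc
    obtain ⟨P₁, h₁⟩ := hWp.exists_le_sylow
    have hP₁ : W = P₁ := eq_of_le_of_card_ge h₁ (by
      obtain ⟨n, hn⟩ := IsPGroup.iff_card.1 P₁.isPGroup'
      rw [hWc, hn, show 8 = 2 ^ 3 by norm_num]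
      refine Nat.pow_le_pow_right (by norm_num) ?_
      by_contra h4
      have := (pow_dvd_pow 2 (show 4 ≤ n by omega)).trans (hn ▸ Subgroup.card_subgroup_dvd_card (P₁ : Subgroup N))
      exact M.no_sixteen this)
    have hvp : IsPGroup 2 (zpowers (⟨v, hv⟩ : N)) := IsPGroup.of_card (n := 1) (by
      rw [Nat.card_zpowers, pow_one]
      exact orderOf_eq_prime (Subtype.ext (by rw [SubgroupClass.coe_pow, pow_two]; exact h2))
        fun e => h1 (congrArg Subtype.val e))
    obtain ⟨P₂, h₂⟩ := hvp.exists_le_sylow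
    obtain ⟨g, hg⟩ := MulAction.exists_smul_eq N P₂ P₁
    refine ⟨g, g.2, ?_⟩
    have hm : g * ⟨v, hv⟩ * g⁻¹ ∈ W := by
      rw [hP₁, ← hg, Sylow.coe_subgroup_smul]
      exact ⟨_, h₂ (mem_zpowers _), rfl⟩
    exact map_subtype_le (P : Subgroup L) hm
  set v₁ := g₀ * v * g₀⁻¹ with hv₁
  have hv₁2 : v₁ * v₁ = 1 := by
    rw [hv₁, show g₀ * v * g₀⁻¹ * (g₀ * v * g₀⁻¹) = g₀ * (v * v) * g₀⁻¹ by group, h2]; group
  have hv₁N : v₁ ∈ N := mul_mem (mul_mem hg₀ hv) (inv_mem hg₀)
  obtain ⟨c, hc, hcv⟩ := M.code_norm.1 ⟨hv₁N, hv0⟩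
  have lc := normP_facts.2.2.1 c hc
  rcases normP_invol c hc ((M.eq_one_iff (mC_lt lc lc)).1 (by rw [← M.mul c lc c lc, hcv, hv₁2])) with
    rfl | rfl | ⟨hci, -, d, -, hd, hd0, hdc⟩
  · rw [M.one] at hcv
    exact absurd (conj_eq_one_iff.1 hcv.symm) h1
  · exact ⟨g₀, hg₀, by rw [M.at_z] at hcv; exact hcv.symm⟩
  have ld := lists_lt.2.2 d hd
  have he : ψ d ∈ M.grpP := ⟨d, hd, rfl⟩
  have hev : ψ d * v₁ = v₁ * ψ d := by rw [← hcv]; exact ((M.comm_iff lc ld).2 hdc).symm
  have he1 : ψ d ≠ 1 := fun e => hd0 ((M.eq_one_iff ld).1 e)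
  have hez : ψ d * z = z * ψ d := mem_centralizer_singleton_iff.1 (M.grpP_le_C he)
  have hv₁z : v₁ * z = z * v₁ := mem_centralizer_singleton_iff.1 hv0
  have card_le : ∀ u : G, u * u = 1 → u ≠ 1 → Nat.card (M.grpA ⊓ centralizer ({u} : Set G) : Subgroup G) ∣ 9 := by
    intro u hu2 hu1
    obtain ⟨m, hm⟩ := M.exists_conj hu2 hu1
    have hle : (M.grpA ⊓ centralizer ({u} : Set G)).map (MulAut.conj m).toMonoidHom ≤ centralizer ({z} : Set G) := by
      rintro _ ⟨x, hx, rfl⟩
      refine mem_centralizer_singleton_iff.2 ?_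
      rw [← hm]
      show m * x * m⁻¹ * (m * u * m⁻¹) = m * u * m⁻¹ * (m * x * m⁻¹)
      calc m * x * m⁻¹ * (m * u * m⁻¹) = m * (x * u) * m⁻¹ := by group
        _ = m * (u * x) * m⁻¹ := by rw [mem_centralizer_singleton_iff.1 hx.2]
        _ = _ := by group
    have h := Subgroup.card_dvd_of_le hle
    rw [Subgroup.card_map_of_injective (show Function.Injective (MulAut.conj m).toMonoidHom from
      (MulAut.conj m).injective), M.card] at h
    have h81 := Subgroup.card_dvd_of_le (inf_le_left : M.grpA ⊓ centralizer ({u} : Set G) ≤ M.grpA)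
    rw [M.card_grpA] at h81
    have := Nat.dvd_gcd h h81
    norm_num at this
    exact this
  obtain ⟨f, hfD, hfv, hf1⟩ : ∃ f, f ∈ M.invA ∧ f * v₁ = v₁ * f ∧ f ≠ 1 := by
    by_contra hcon
    push Not at hcon
    have hv₁i : v₁⁻¹ = v₁ := inv_eq_of_mul_eq_one_right hv₁2
    have hinv : ∀ f ∈ M.invA, v₁ * f * v₁ = f⁻¹ := by
      intro f hf
      have hc1 : v₁ * f * v₁ ∈ M.invA := by
        refine ⟨by have h := M.normA hv₁N hf.1; rwa [hv₁i] at h, ?_⟩
        calc z * (v₁ * f * v₁) * z = z * v₁ * f * (v₁ * z) := by group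
          _ = v₁ * z * f * (z * v₁) := by rw [← hv₁z]
          _ = v₁ * (z * f * z) * v₁ := by group
          _ = _ := by
            rw [hf.2]
            refine (inv_eq_of_mul_eq_one_right ?_).symm
            calc v₁ * f * v₁ * (v₁ * f⁻¹ * v₁) = v₁ * f * (v₁ * v₁) * f⁻¹ * v₁ := by group
              _ = v₁ * v₁ := by nth_rw 1 [hv₁2]; rw [mul_one, mul_inv_cancel_right]
              _ = 1 := hv₁2
      have hfix : f * (v₁ * f * v₁) * v₁ = v₁ * (f * (v₁ * f * v₁)) := by
        calc f * (v₁ * f * v₁) * v₁ = f * v₁ * f * (v₁ * v₁) := by group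
          _ = f * v₁ * f := by rw [hv₁2, mul_one]
          _ = v₁ * (v₁ * f * v₁ * f) := by
              calc f * v₁ * f = v₁ * v₁ * (f * v₁ * f) := by rw [hv₁2, one_mul]
                _ = _ := by group
          _ = _ := by rw [M.grpA_comm hc1.1 hf.1]
      exact eq_inv_of_mul_eq_one_right ((em (f * (v₁ * f * v₁) = 1)).resolve_right fun h =>
        h (hcon _ (mul_mem hf hc1) hfix))
    have hzv2 : z * v₁ * (z * v₁) = 1 := by
      calc z * v₁ * (z * v₁) = z * (v₁ * z) * v₁ := by group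
        _ = (z * z) * (v₁ * v₁) := by rw [hv₁z]; group
        _ = 1 := by rw [M.zz, hv₁2, one_mul]
    have hzv1 : z * v₁ ≠ 1 := fun e => by
      have hvz : v₁ = z := (eq_inv_of_mul_eq_one_right e).trans M.z_inv
      have hcz : c = zC := M.inj c lc zC (by norm_num) (by rw [hcv, hvz, M.at_z])
      exact hci hcz
    have h9 := card_le _ hzv2 hzv1
    have hD : M.invA ≤ M.grpA ⊓ centralizer ({z * v₁} : Set G) := fun f hf => by
      refine ⟨hf.1, mem_centralizer_singleton_iff.2 ?_⟩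
      have e : z * v₁ * f * (z * v₁) = f := by
        calc z * v₁ * f * (z * v₁) = z * v₁ * f * (v₁ * z) := by rw [hv₁z]
          _ = z * (v₁ * f * v₁) * z := by group
          _ = f := by rw [hinv f hf, M.z_conj_inv, hf.2, inv_inv]
      calc f * (z * v₁) = z * v₁ * f * (z * v₁) * (z * v₁) := by rw [e]
        _ = z * v₁ * f := by rw [mul_assoc (z * v₁ * f), hzv2, mul_one]
    have heC : ψ d ∈ M.grpA ⊓ centralizer ({z * v₁} : Set G) :=
      ⟨M.grpP_le_grpA he, mem_centralizer_singleton_iff.2 (by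
        rw [← mul_assoc, hez, mul_assoc, hev, ← mul_assoc])⟩
    have hlt : M.invA < M.grpA ⊓ centralizer ({z * v₁} : Set G) := lt_of_le_of_ne hD fun e => by
      have hdD := e ▸ heC
      have h3 : (z * ψ d * z) = (ψ d)⁻¹ := hdD.2
      rw [← hez, mul_assoc, M.zz, mul_one] at h3
      exact he1 (eq_one_of_sq (M.grpA_odd (M.grpP_le_grpA he)) (mul_eq_one_iff_eq_inv.2 h3))
    have h10 := Nat.le_of_dvd (by norm_num) h9
    refine hlt.ne (eq_of_le_of_card_ge hlt.le ?_)
    rw [M.card_invA]; exact h10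
  obtain ⟨m, hm⟩ := M.exists_conj hv₁2 (fun e => h1 (conj_eq_one_iff.1 e))
  set B := M.grpA.map (MulAut.conj m).toMonoidHom with hB
  set U := (M.grpA ⊓ centralizer ({v₁} : Set G)).map (MulAut.conj m).toMonoidHom with hU
  have hinj : Function.Injective (MulAut.conj m).toMonoidHom := (MulAut.conj m).injective
  have hv₁1 : v₁ ≠ 1 := fun e => h1 (conj_eq_one_iff.1 e)
  have hU9 : Nat.card U = 9 := by
    rw [hU, Subgroup.card_map_of_injective hinj]
    set Y := M.grpA ⊓ centralizer ({v₁} : Set G)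
    have hd := card_le v₁ hv₁2 hv₁1
    have hlt : zpowers (ψ d) < Y := by
      refine lt_of_le_of_ne (zpowers_le.2 ⟨M.grpP_le_grpA he, mem_centralizer_singleton_iff.2 hev⟩) fun e => ?_
      have hfY : f ∈ Y := ⟨hfD.1, mem_centralizer_singleton_iff.2 hfv⟩
      rw [← e] at hfY
      have hfP : f ∈ M.grpP := zpowers_le.2 he hfY
      have h3 := hfD.2
      rw [(M.z_fixed_iff f).2 (mem_centralizer_singleton_iff.1 (M.grpP_le_C hfP)).symm] at h3
      exact hf1 (eq_one_of_sq (M.grpA_odd hfD.1) (mul_eq_one_iff_eq_inv.2 h3))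
    have h3 : Nat.card (zpowers (ψ d)) = 3 := by
      rw [Nat.card_zpowers]; exact orderOf_eq_prime (M.grpP_cube he) he1
    have hne : Nat.card Y ≠ 3 := fun e => hlt.ne (eq_of_le_of_card_ge hlt.le (by rw [e, h3]))
    have hdv := Subgroup.card_dvd_of_le hlt.le
    rw [h3] at hdv
    have hcases : Nat.card Y ∈ Nat.divisors 9 := Nat.mem_divisors.2 ⟨hd, by norm_num⟩
    exact (by decide +kernel : ∀ k ∈ Nat.divisors 9, 3 ∣ k → k ≠ 3 → k = 9) _ hcases hdv hne
  have hUC : U ≤ centralizer ({z} : Set G) := by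
    rintro _ ⟨x, hx, rfl⟩
    refine mem_centralizer_singleton_iff.2 ?_
    rw [← hm]
    show m * x * m⁻¹ * (m * v₁ * m⁻¹) = m * v₁ * m⁻¹ * (m * x * m⁻¹)
    calc m * x * m⁻¹ * (m * v₁ * m⁻¹) = m * (x * v₁) * m⁻¹ := by group
      _ = m * (v₁ * x) * m⁻¹ := by rw [mem_centralizer_singleton_iff.1 hx.2]
      _ = _ := by group
  obtain ⟨k, hk, hkU⟩ : ∃ k ∈ centralizer ({z} : Set G), U.map (MulAut.conj k).toMonoidHom = M.grpP := by
    set C := centralizer ({z} : Set G)
    have hpc : ∀ H : Subgroup G, H ≤ C → Nat.card H = 9 → ∃ P : Sylow 3 C, H.subgroupOf C = P := by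
      intro H hH h9
      have hp : IsPGroup 3 (H.subgroupOf C) := IsPGroup.of_card (n := 2) (by
        rw [Nat.card_congr (subgroupOfEquivOfLe hH).toEquiv, h9]; norm_num)
      obtain ⟨P, hP⟩ := hp.exists_le_sylow
      refine ⟨P, eq_of_le_of_card_ge hP ?_⟩
      obtain ⟨n, hn⟩ := IsPGroup.iff_card.1 P.isPGroup'
      rw [Nat.card_congr (subgroupOfEquivOfLe hH).toEquiv, h9, hn, show 9 = 3 ^ 2 by norm_num]
      refine Nat.pow_le_pow_right (by norm_num) ?_
      by_contra h3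
      have := (pow_dvd_pow 3 (show 3 ≤ n by omega)).trans (hn ▸ Subgroup.card_subgroup_dvd_card (P : Subgroup C))
      rw [M.card] at this
      norm_num at this
    obtain ⟨P₁, h₁⟩ := hpc U hUC hU9
    obtain ⟨P₂, h₂⟩ := hpc M.grpP M.grpP_le_C M.card_grpP
    obtain ⟨g, hg⟩ := MulAction.exists_smul_eq C P₁ P₂
    have hinjk : Function.Injective (MulAut.conj (g : G)).toMonoidHom := (MulAut.conj (g : G)).injective
    refine ⟨g, g.2, eq_of_le_of_card_ge ?_ (by rw [Subgroup.card_map_of_injective hinjk, hU9, M.card_grpP])⟩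
    rintro _ ⟨x, hx, rfl⟩
    have hmem : g * ⟨x, hUC hx⟩ * g⁻¹ ∈ (P₂ : Subgroup C) := by
      rw [← hg, Sylow.coe_subgroup_smul]
      exact ⟨_, h₁ ▸ (show (⟨x, hUC hx⟩ : C) ∈ U.subgroupOf C from hx), rfl⟩
    rw [← h₂] at hmem
    exact hmem
  have hkm : k * m ∈ N := by
    refine M.mem_normA fun a ha => ?_
    refine M.mem_grpA.2 ⟨mem_centralizer_iff.2 fun p hp => ?_, ?_⟩
    · rw [← hkU] at hp
      obtain ⟨_, ⟨x, hx, rfl⟩, rfl⟩ := hp
      show k * (m * x * m⁻¹) * k⁻¹ * (k * m * a * (k * m)⁻¹) = k * m * a * (k * m)⁻¹ * (k * (m * x * m⁻¹) * k⁻¹)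
      calc k * (m * x * m⁻¹) * k⁻¹ * (k * m * a * (k * m)⁻¹) = k * m * (x * a) * (k * m)⁻¹ := by group
        _ = k * m * (a * x) * (k * m)⁻¹ := by rw [M.grpA_comm hx.1 ha]
        _ = _ := by group
    · show Odd (orderOf (MulAut.conj (k * m) a))
      rw [MulEquiv.orderOf_eq]; exact M.grpA_odd ha
  refine ⟨k * m * g₀, mul_mem hkm hg₀, ?_⟩
  calc k * m * g₀ * v * (k * m * g₀)⁻¹ = k * (m * v₁ * m⁻¹) * k⁻¹ := by rw [hv₁]; group
    _ = z := by rw [hm]; exact mul_inv_eq_iff_eq_mul.2 (mem_centralizer_singleton_iff.1 hk)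

end Model

end

end CfsgLib.Spor.UFourType
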