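import Cfsg.Agent.Lib.Spor.SuzType.YCent.ModelA
import Cfsg.Agent.Lib.Spor.SuzType.Local

/-!
# The normalizer of the elementary group of order 81 has order 29160
-/

set_option autoImplicit false
set_option synthInstance.maxSize 4096

namespace CfsgLib.Spor.UFourType

open Subgroup

noncomputable section

theorem orbit_arith : ∀ m ≤ 80, m ∣ 2240 → m % 4 = 0 → m % 8 ≠ 0 → m % 7 ≠ 0 → m ≠ 4 → m = 20 := by decide +kernel

theorem cent_small : ∀ k ∈ Nat.divisors 360, k % 2 ≠ 0 → k % 5 ≠ 0 → k = 1 ∨ k = 3 ∨ k = 9 := by decide +kernel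

theorem fix_mod : ∀ k ∈ Nat.divisors 81, (k % 7 = 81 % 7 → k = 81) ∧ (k % 5 = 81 % 5 → k = 1 ∨ k = 81) := by decide +kernel

theorem invariant_mod : ∀ k ∈ Nat.divisors 81, k ≠ 81 → 27 ≤ k → k % 5 ≠ 1 := by decide +kernel

namespace Model

variable {G : Type*} [Group G] [Finite G] {z : G} {Q : Subgroup G} {ψ : ℕ → G} (M : Model z Q ψ)
include M

/-- Elements of prime order normalizing a subgroup of the elementary group fix a number of its elements congruent
to its order. -/
theorem fix_congr {p : ℕ} [Fact p.Prime] {g : G} (hg : orderOf g = p) {V : Subgroup G}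
    (hV : ∀ a ∈ V, g * a * g⁻¹ ∈ V) :
    Nat.card V % p = Nat.card (V ⊓ centralizer ({g} : Set G) : Subgroup G) % p := by
  have hpow : ∀ (n : ℕ), ∀ a ∈ V, g ^ n * a * (g ^ n)⁻¹ ∈ V := by
    intro n
    induction n with
    | zero => intro a ha; simpa using ha
    | succ n ih =>
      intro a ha
      rw [pow_succ', show g * g ^ n * a * (g * g ^ n)⁻¹ = g * (g ^ n * a * (g ^ n)⁻¹) * g⁻¹ by group]
      exact hV _ (ih a ha)
  have hmem : ∀ (x : zpowers g) (a : V), (x : G) * a * (x : G)⁻¹ ∈ V := by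
    rintro ⟨x, hx⟩ a
    obtain ⟨n, rfl⟩ := (Submonoid.mem_powers_iff _ _).1 (mem_powers_iff_mem_zpowers.2 hx)
    exact hpow n a a.2
  letI : MulAction (zpowers g) V :=
    { smul := fun x a => ⟨(x : G) * a * (x : G)⁻¹, hmem x a⟩
      one_smul := fun a => Subtype.ext (by show (1 : G) * a * (1 : G)⁻¹ = a; group)
      mul_smul := fun x w a => Subtype.ext (by
        show (x : G) * w * a * ((x : G) * w)⁻¹ = x * ((w : G) * a * (w : G)⁻¹) * (x : G)⁻¹
        group) }
  have hp : IsPGroup p (zpowers g) := IsPGroup.of_card (n := 1) (by rw [Nat.card_zpowers, hg, pow_one])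
  have h := hp.card_modEq_card_fixedPoints V
  refine h.trans (congrArg (· % p) (Nat.card_congr
    { toFun := fun a => ⟨(a.1 : G), a.1.2, mem_centralizer_singleton_iff.2 (by
        have e : g * (a.1 : G) * g⁻¹ = a.1 := congrArg Subtype.val (a.2 ⟨g, mem_zpowers g⟩)
        exact (mul_inv_eq_iff_eq_mul.1 e).symm)⟩
      invFun := fun a => ⟨⟨a.1, a.2.1⟩, fun x => Subtype.ext (by
        obtain ⟨x, hx⟩ := x
        obtain ⟨i, rfl⟩ := mem_zpowers_iff.1 hx
        show g ^ i * (a : G) * (g ^ i)⁻¹ = a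
        exact mul_inv_eq_iff_eq_mul.2
          ((show Commute g (a : G) from (mem_centralizer_singleton_iff.1 a.2.2).symm).zpow_left i).eq)⟩
      left_inv := fun a => rfl
      right_inv := fun a => rfl }))

theorem no_seven : ¬ 7 ∣ Nat.card (normalizer (M.grpA : Set G)) := by
  intro h
  haveI : Fact (Nat.Prime 7) := ⟨by norm_num⟩
  obtain ⟨g, hg⟩ := exists_prime_orderOf_dvd_card' 7 h
  have hgo : orderOf (g : G) = 7 := by rw [Subgroup.orderOf_coe]; exact hg
  have e := M.fix_congr hgo fun a ha => M.normA g.2 ha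
  have hd := Subgroup.card_dvd_of_le (inf_le_left : M.grpA ⊓ centralizer ({(g : G)} : Set G) ≤ M.grpA)
  rw [M.card_grpA] at e hd
  have h81 := (fix_mod _ (Nat.mem_divisors.2 ⟨hd, by norm_num⟩)).1 e.symm
  have hA : M.grpA ⊓ centralizer ({(g : G)} : Set G) = M.grpA :=
    eq_of_le_of_card_ge inf_le_left (by rw [M.card_grpA, h81])
  have hgA := M.cent_grpA (g := (g : G)) fun a ha => by
    rw [← hA] at ha
    exact (mem_centralizer_singleton_iff.1 ha.2).symm
  have h3 := orderOf_dvd_of_pow_eq_one (M.grpA_cube hgA)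
  rw [hgo] at h3
  norm_num at h3

theorem five_free {g : G} (hg : g ∈ normalizer (M.grpA : Set G)) (ho : orderOf g = 5) {p : G} (hp : p ∈ M.grpA)
    (hc : g * p = p * g) : p = 1 := by
  haveI : Fact (Nat.Prime 5) := ⟨by norm_num⟩
  have e := M.fix_congr ho fun a ha => M.normA hg ha
  set F := M.grpA ⊓ centralizer ({g} : Set G) with hF
  have hd := Subgroup.card_dvd_of_le (inf_le_left : F ≤ M.grpA)
  rw [M.card_grpA] at e hd
  rcases (fix_mod _ (Nat.mem_divisors.2 ⟨hd, by norm_num⟩)).2 e.symm with h | h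
  · have hpF : p ∈ F := ⟨hp, mem_centralizer_singleton_iff.2 hc.symm⟩
    rw [show F = ⊥ from Subgroup.card_eq_one.1 h] at hpF
    exact hpF
  · exfalso
    have hFA : F = M.grpA := eq_of_le_of_card_ge inf_le_left (by rw [M.card_grpA, h])
    have hgA := M.cent_grpA (g := g) fun a ha => by
      rw [← hFA] at ha
      exact (mem_centralizer_singleton_iff.1 ha.2).symm
    have h3 := orderOf_dvd_of_pow_eq_one (M.grpA_cube hgA)
    rw [ho] at h3
    norm_num at h3

/-- The elements of the centralizer are products with elements commuting with the centre. -/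
theorem X_split {g : G} (hg : g ∈ M.grpX) :
    ∃ d c : G, d ∈ M.grpO ∧ z * d * z = d⁻¹ ∧ c ∈ M.grpX ∧ c * z = z * c ∧ g = d * c := by
  set w := z * g * z * g⁻¹ with hw
  have hwO : w ∈ M.grpO := M.z_centralX hg
  have hwz : z * w * z = w⁻¹ := by
    rw [hw, mul_inv_rev, inv_inv, mul_inv_rev, mul_inv_rev, M.z_inv]
    calc z * (z * g * z * g⁻¹) * z = z * z * g * z * g⁻¹ * z := by group
      _ = g * (z * (g⁻¹ * z)) := by rw [M.zz, one_mul]; group
  obtain ⟨k, hk⟩ := M.grpO_odd' hwO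
  have hw1 : w ^ (2 * k + 1) = 1 := hk ▸ pow_orderOf_eq_one w
  refine ⟨w ^ k, (w ^ k)⁻¹ * g, pow_mem hwO k, ?_, mul_mem (inv_mem (M.grpO_le (pow_mem hwO k))) hg, ?_, by group⟩
  · induction k with
    | zero => simp [M.zz]
    | succ j _ =>
      clear hw1 hk
      induction j + 1 with
      | zero => simp [M.zz]
      | succ j ih => rw [pow_succ, M.z_conj_mul, ih, hwz, ← mul_inv_rev, ← pow_succ', pow_succ]
  · have hpow : ∀ j : ℕ, z * w ^ j * z = (w ^ j)⁻¹ := fun j => by
      induction j with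
      | zero => simp [M.zz]
      | succ j ih => rw [pow_succ, M.z_conj_mul, ih, hwz, ← mul_inv_rev, ← pow_succ', pow_succ]
    have key : z * ((w ^ k)⁻¹ * g) * z = (w ^ k)⁻¹ * g := by
      rw [M.z_conj_mul, M.z_conj_inv, hpow, inv_inv, show z * g * z = w * g by rw [hw]; group, ← mul_assoc,
        ← pow_succ]
      congr 1
      refine eq_inv_of_mul_eq_one_left ?_
      rw [← pow_add, show k + 1 + k = 2 * k + 1 by ring, hw1]
    exact ((M.z_fixed_iff _).1 key).symm

theorem card_stab : Nat.card (normalizer (M.grpA : Set G) ⊓ M.grpX : Subgroup G) = 1458 := by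
  classical
  set L := normP.filter fun c => mC c aC == mC aC c with hL
  have hLlt : ∀ c ∈ L, c < 1152 := fun c hc => normP_facts.2.2.1 c (List.mem_filter.1 hc).1
  have hiff : ∀ g, (∃ c ∈ L, ψ c = g) ↔ g ∈ normalizer (M.grpA : Set G) ∧ g * z = z * g ∧ g ∈ M.grpX := by
    intro g
    constructor
    · rintro ⟨c, hc, rfl⟩
      obtain ⟨h1, h2⟩ := List.mem_filter.1 hc
      rw [beq_iff_eq] at h2
      obtain ⟨h3, h4⟩ := M.code_norm.2 ⟨c, h1, rfl⟩
      exact ⟨h3, mem_centralizer_singleton_iff.1 h4, M.mem_grpX.2 ((M.comm_iff (hLlt c hc) (by norm_num)).2 h2)⟩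
    · rintro ⟨h1, h2, h3⟩
      obtain ⟨c, hc, rfl⟩ := M.code_norm.1 ⟨h1, mem_centralizer_singleton_iff.2 h2⟩
      refine ⟨c, List.mem_filter.2 ⟨hc, ?_⟩, rfl⟩
      rw [beq_iff_eq]
      exact (M.comm_iff (normP_facts.2.2.1 c hc) (by norm_num)).1 (M.mem_grpX.1 h3)
  let f : {d : G // d ∈ M.grpO ∧ z * d * z = d⁻¹} × {g : G // ∃ c ∈ L, ψ c = g} →
      (normalizer (M.grpA : Set G) ⊓ M.grpX : Subgroup G) := fun x => ⟨x.1 * x.2,
    mul_mem (M.grpS_norm (mem_sup_left x.1.2.1)) ((hiff _).1 x.2.2).1,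
    mul_mem (M.grpO_le x.1.2.1) ((hiff _).1 x.2.2).2.2⟩
  have hf : Function.Bijective f := by
    refine ⟨fun x w e => ?_, fun g => ?_⟩
    · have e' : (x.1 : G) * x.2 = w.1 * w.2 := congrArg Subtype.val e
      obtain ⟨-, hxz, hxX⟩ := (hiff _).1 x.2.2
      obtain ⟨-, hwz, hwX⟩ := (hiff _).1 w.2.2
      set r := (w.2 : G) * (x.2 : G)⁻¹ with hr
      have hd : (x.1 : G) = w.1 * r := by rw [hr, ← mul_assoc, ← e', mul_inv_cancel_right]
      have hrO : r ∈ M.grpO := by
        rw [show r = (w.1 : G)⁻¹ * x.1 by rw [hd, inv_mul_cancel_left]]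
        exact mul_mem (inv_mem w.1.2.1) x.1.2.1
      have hrz : z * r = r * z := by
        rw [hr]
        exact ((show Commute z (w.2 : G) from hwz.symm).mul_right (show Commute z (x.2 : G) from hxz.symm).inv_right).eq
      have hra := M.O_fixed hrO hrz
      obtain ⟨h1, h2⟩ := M.O_unique (e := (x.1 : G)) hra w.1.2.1 w.1.2.2 x.1.2.2
        (hd.trans ((M.a_power hra).2.2 _ (M.grpO_le w.1.2.1)))
      have he : (x.1 : G) = w.1 := h2
      refine Prod.ext (Subtype.ext he) (Subtype.ext ?_)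
      rw [he] at e'
      exact mul_left_cancel e'
    · obtain ⟨d, c, hd, hdz, hc, hcz, e⟩ := M.X_split g.2.2
      have hcN : c ∈ normalizer (M.grpA : Set G) := by
        rw [show c = d⁻¹ * g by rw [e, inv_mul_cancel_left]]
        exact mul_mem (inv_mem (M.grpS_norm (mem_sup_left hd))) g.2.1
      exact ⟨(⟨d, hd, hdz⟩, ⟨c, (hiff c).2 ⟨hcN, hcz, hc⟩⟩), Subtype.ext e.symm⟩
  rw [← Nat.card_eq_of_bijective f hf, Nat.card_prod, M.card_O_inverted,
    M.card_codes hLlt (normP_facts.1.filter _), hL, normP_facts.2.2.2]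

/-- The conjugates of the element under the normalizer. -/
def Orb (_M : Model z Q ψ) (e : G) : Prop := ∃ g ∈ normalizer (_M.grpA : Set G), g * ψ aC * g⁻¹ = e

theorem orb_grpA {e : G} (h : M.Orb e) : e ∈ M.grpA := by
  obtain ⟨g, hg, rfl⟩ := h
  exact M.normA hg (M.grpP_le_grpA M.aX_mem.1)

theorem orb_conj {e g : G} (h : M.Orb e) (hg : g ∈ normalizer (M.grpA : Set G)) : M.Orb (g * e * g⁻¹) := by
  obtain ⟨k, hk, rfl⟩ := h
  exact ⟨g * k, mul_mem hg hk, by group⟩

theorem orb_self : M.Orb (ψ aC) := ⟨1, one_mem _, by group⟩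

theorem orb_code {k c : ℕ} (hk : k ∈ normP) (hc : c < 1152) (e : mC k aC = mC c k) : M.Orb (ψ c) :=
  ⟨ψ k, (M.code_norm.2 ⟨k, hk, rfl⟩).1, M.conj_eq (normP_facts.2.2.1 k hk) (by norm_num) hc e⟩

theorem orb_inv {e : G} (h : M.Orb e) : M.Orb e⁻¹ := by
  obtain ⟨g, hg, rfl⟩ := h
  have h1 : M.Orb (ψ aC)⁻¹ := by
    obtain ⟨⟨k, hk, e⟩, -⟩ := a_moves
    have h2 := M.orb_code hk (mC_lt (by norm_num) (by norm_num)) e
    rw [← M.mul aC (by norm_num) aC (by norm_num)] at h2
    have h3 : ψ aC ^ 3 = 1 := M.a_order ▸ pow_orderOf_eq_one _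
    rwa [show (ψ aC)⁻¹ = ψ aC * ψ aC from inv_eq_of_mul_eq_one_right (by
      rw [← pow_two, ← pow_succ']; exact h3)]
  rw [show (g * ψ aC * g⁻¹)⁻¹ = g * (ψ aC)⁻¹ * g⁻¹ by group]
  exact M.orb_conj h1 hg

theorem orb_b : M.Orb (ψ 16) := by
  obtain ⟨-, k, hk, e⟩ := a_moves
  exact M.orb_code hk (by norm_num) e

theorem orb_z {e : G} (h : M.Orb e) : M.Orb (z * e * z) := by
  have := M.orb_conj h M.z_norm
  rwa [M.z_inv] at this

theorem orb_nonreal {e : G} (h : M.Orb e) : z * e * z ≠ e⁻¹ := by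
  obtain ⟨g, -, rfl⟩ := h
  intro hr
  refine M.a_nonreal (t := g⁻¹ * z * g) (by
    rw [show g⁻¹ * z * g * (g⁻¹ * z * g) = g⁻¹ * (z * z) * g by group, M.zz]; group) ?_
  calc g⁻¹ * z * g * ψ aC * (g⁻¹ * z * g) = g⁻¹ * (z * (g * ψ aC * g⁻¹) * z) * g := by group
    _ = _ := by rw [hr]; group

theorem orb_fixed {e : G} (h : M.Orb e) (hz : z * e = e * z) : ∃ c ∈ [aC, mC aC aC, 16, mC 16 16], ψ c = e := by
  obtain ⟨c, hc, rfl⟩ := M.fixed_A (M.orb_grpA h) hz
  rcases orbit_P c hc with rfl | h' | h'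
  · exfalso
    obtain ⟨g, -, e⟩ := h
    rw [M.one] at e
    exact M.a_ne (conj_eq_one_iff.1 e)
  · exact ⟨c, h', rfl⟩
  · exfalso
    obtain ⟨b, hb⟩ := four_codes c h'
    obtain ⟨g, -, e⟩ := h
    have hlt : yC b < 1152 := by cases b <;> decide
    have hy : ∀ x : G, x * (g * ψ aC * g⁻¹) = g * ψ aC * g⁻¹ * x ↔ x * ψ (yC b) = ψ (yC b) * x := by
      intro x
      rcases hb with rfl | rfl
      · rw [e]
      · rw [e, ← M.mul _ hlt _ hlt]
        have h3 : ψ (yC b) ^ 3 = 1 := M.grpA_cube (M.yC_memA b).2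
        have hy4 : ψ (yC b) * ψ (yC b) * (ψ (yC b) * ψ (yC b)) = ψ (yC b) := by
          calc _ = ψ (yC b) ^ 3 * ψ (yC b) := by rw [pow_succ, pow_two]; group
            _ = _ := by rw [h3, one_mul]
        refine ⟨fun hx => ?_, fun hx => ((show Commute x (ψ (yC b)) from hx).mul_right hx).eq⟩
        have := (show Commute x (ψ (yC b) * ψ (yC b)) from hx).mul_right hx
        rw [hy4] at this
        exact this.eq
    refine M.a_not_side (c := g) (b := b) fun x => ?_
    show x * ψ aC = ψ aC * x ↔ g * x * g⁻¹ ∈ centralizer ({ψ (yC b)} : Set G)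
    rw [mem_centralizer_singleton_iff, ← hy]
    constructor
    · intro hx
      calc g * x * g⁻¹ * (g * ψ aC * g⁻¹) = g * (x * ψ aC) * g⁻¹ := by group
        _ = g * (ψ aC * x) * g⁻¹ := by rw [hx]
        _ = _ := by group
    · intro hx
      calc x * ψ aC = g⁻¹ * (g * x * g⁻¹ * (g * ψ aC * g⁻¹)) * g := by group
        _ = g⁻¹ * (g * ψ aC * g⁻¹ * (g * x * g⁻¹)) * g := by rw [hx]
        _ = _ := by group

theorem card_orb_mod : Nat.card {e : G // M.Orb e} % 4 = 0 := by
  classical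
  set F := {e : G // M.Orb e ∧ z * e ≠ e * z}
  have hfix : Nat.card {e : G // M.Orb e ∧ z * e = e * z} = 4 := by
    have hmem : ∀ c ∈ [aC, mC aC aC, 16, mC 16 16], M.Orb (ψ c) ∧ z * ψ c = ψ c * z := by
      intro c hc
      refine ⟨?_, M.comm_z (four_distinct.2 c hc).2 |>.symm⟩
      simp only [List.mem_cons, List.not_mem_nil, or_false] at hc
      have hsq : ∀ d < 1152, ψ d ^ 3 = 1 → ψ (mC d d) = (ψ d)⁻¹ := fun d hd h3 => by
        rw [← M.mul d hd d hd]
        exact (inv_eq_of_mul_eq_one_right (by rw [← pow_two, ← pow_succ']; exact h3)).symm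
      rcases hc with rfl | rfl | rfl | rfl
      · exact M.orb_self
      · rw [hsq _ (by norm_num) (M.a_order ▸ pow_orderOf_eq_one _)]; exact M.orb_inv M.orb_self
      · exact M.orb_b
      · rw [hsq _ (by norm_num) (M.grpP_cube M.b_memX.2)]; exact M.orb_inv M.orb_b
    have e := M.card_codes (fun c hc => (four_distinct.2 c hc).2) four_distinct.1
    refine Eq.trans (Nat.card_congr (Equiv.subtypeEquivRight fun g => ?_)) e
    exact ⟨fun h => M.orb_fixed h.1 h.2, fun ⟨c, hc, hcg⟩ => hcg ▸ hmem c hc⟩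
  have hzi : ∀ {e : G}, z * e⁻¹ = e⁻¹ * z → z * e = e * z := fun {e} h => by
    have := (show Commute z e⁻¹ from h).inv_right
    rw [inv_inv] at this
    exact this.eq
  have hzc : ∀ {e : G}, z * (z * e * z) = z * e * z * z → z * e = e * z := fun {e} h => by
    calc z * e = z * e * z * z := by rw [mul_assoc (z * e), M.zz, mul_one]
      _ = z * (z * e * z) := h.symm
      _ = e * z := by rw [← mul_assoc, ← mul_assoc, M.zz, one_mul]
  let op : Bool × Bool → G → G := fun s e =>
    (fun x => if s.1 then z * x * z else x) (if s.2 then e⁻¹ else e)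
  have hopmem : ∀ s (e : F), M.Orb (op s e.1) ∧ z * op s e.1 ≠ op s e.1 * z := by
    rintro ⟨a, b⟩ ⟨e, he, hne⟩
    cases a <;> cases b <;> simp only [op, if_true, Bool.false_eq_true, if_false]
    · exact ⟨he, hne⟩
    · exact ⟨M.orb_inv he, fun h => hne (hzi h)⟩
    · exact ⟨M.orb_z he, fun h => hne (hzc h)⟩
    · exact ⟨M.orb_z (M.orb_inv he), fun h => hne (hzi (hzc h))⟩
  let f : Bool × Bool → F → F := fun s e => ⟨op s e.1, hopmem s e⟩
  have hopop : ∀ s s' (e : G), op s (op s' e) = op (xor s.1 s'.1, xor s.2 s'.2) e := by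
    rintro ⟨a, b⟩ ⟨a', b'⟩ e
    cases a <;> cases b <;> cases a' <;> cases b' <;>
      simp only [op, Bool.false_eq_true, if_true, if_false, Bool.xor_false, Bool.false_xor, Bool.xor_true,
        Bool.not_true, Bool.not_false, Bool.true_xor, M.z_sq_conj, M.z_conj_inv, inv_inv]
  have hfree : ∀ s, ∀ e : F, f s e = e → s = (false, false) := by
    rintro ⟨a, b⟩ ⟨e, he, hne⟩ h
    have h' : op (a, b) e = e := congrArg Subtype.val h
    cases a <;> cases b <;> simp only [op, if_true, Bool.false_eq_true, if_false] at h'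
    · rfl
    · exfalso
      refine hne ?_
      have h1 : e = 1 := eq_one_of_sq (M.grpA_odd (M.orb_grpA he)) (mul_eq_one_iff_eq_inv.2 h'.symm)
      rw [h1, mul_one, one_mul]
    · exfalso; exact hne ((M.z_fixed_iff e).1 h')
    · exfalso
      refine M.orb_nonreal he ?_
      rw [M.z_conj_inv] at h'
      exact inv_eq_iff_eq_inv.1 h'
  let r : Setoid F :=
    { r := fun e e' => ∃ s, f s e = e'
      iseqv := ⟨fun e => ⟨(false, false), Subtype.ext (by simp [f, op])⟩,
        fun {e e'} ⟨s, hs⟩ => ⟨s, by rw [← hs]; exact Subtype.ext (by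
          show op s (op s e.1) = e.1
          rw [hopop]; simp [op])⟩,
        fun {e e' e''} ⟨s, hs⟩ ⟨s', hs'⟩ => ⟨(xor s'.1 s.1, xor s'.2 s.2), by
          rw [← hs', ← hs]; exact Subtype.ext (hopop s' s e.1).symm⟩⟩ }
  let φ : Quotient r × (Bool × Bool) → F := fun x => f x.2 x.1.out
  have hφ : Function.Bijective φ := by
    refine ⟨fun x w e => ?_, fun e => ?_⟩
    · have hq : x.1 = w.1 := by
        rw [← Quotient.out_eq x.1, ← Quotient.out_eq w.1]
        refine Quotient.sound ⟨(xor w.2.1 x.2.1, xor w.2.2 x.2.2), Subtype.ext ?_⟩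
        show op _ _ = _
        rw [← hopop w.2 x.2]
        have e' : op x.2 x.1.out.1 = op w.2 w.1.out.1 := congrArg Subtype.val e
        rw [e', hopop]; simp [op]
      refine Prod.ext hq ?_
      have e' : f x.2 w.1.out = f w.2 w.1.out := by
        have h : f x.2 x.1.out = f w.2 w.1.out := e
        rwa [hq] at h
      have h := hfree (xor w.2.1 x.2.1, xor w.2.2 x.2.2) w.1.out (Subtype.ext (by
        show op _ _ = _
        rw [← hopop w.2 x.2, show op x.2 w.1.out.1 = op w.2 w.1.out.1 from congrArg Subtype.val e', hopop]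
        simp [op]))
      revert h
      rcases x.2 with ⟨a, b⟩
      rcases w.2 with ⟨a', b'⟩
      cases a <;> cases b <;> cases a' <;> cases b' <;> simp
    · obtain ⟨s, hs⟩ := Quotient.exact (Quotient.out_eq (Quotient.mk r e))
      exact ⟨(Quotient.mk r e, s), hs⟩
  have hF : Nat.card F = Nat.card (Quotient r) * 4 := by
    rw [← Nat.card_eq_of_bijective φ hφ, Nat.card_prod]
    simp
  have htot : Nat.card {e : G // M.Orb e} = Nat.card {e : G // M.Orb e ∧ z * e = e * z} + Nat.card F := by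
    rw [← Nat.card_sum]
    refine Nat.card_congr
      { toFun := fun e => if h : z * e.1 = e.1 * z then Sum.inl ⟨e.1, e.2, h⟩ else Sum.inr ⟨e.1, e.2, h⟩
        invFun := fun s => s.elim (fun e => ⟨e.1, e.2.1⟩) fun e => ⟨e.1, e.2.1⟩
        left_inv := fun e => by by_cases h : z * e.1 = e.1 * z <;> simp [h]
        right_inv := fun s => by rcases s with e | e <;> simp [e.2.2] }
  omega

/-- Some conjugate lies outside the fixed elements. -/
theorem orb_outside : ∃ e, M.Orb e ∧ e ∉ M.grpP := by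
  by_contra hcon
  push Not at hcon
  refine M.b_notMemK ⟨M.b_memX.1, fun o ho => ?_⟩
  have h1 : o * ψ 16 * o⁻¹ ∈ M.grpP := hcon _ (M.orb_conj M.orb_b (M.grpS_norm (mem_sup_left ho)))
  set w := o * ψ 16 * o⁻¹ * (ψ 16)⁻¹ with hw
  have hwP : w ∈ M.grpP := mul_mem h1 (inv_mem M.b_memX.2)
  have hwO : w ∈ M.grpO := by
    rw [hw, show o * ψ 16 * o⁻¹ * (ψ 16)⁻¹ = o * (ψ 16 * o⁻¹ * (ψ 16)⁻¹) by group]
    exact mul_mem ho (M.grpO_conj M.b_memX.1 (inv_mem ho))
  have h := inv_mem (M.O_fixed hwO (mem_centralizer_singleton_iff.1 (M.grpP_le_C hwP)).symm)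
  rwa [show w⁻¹ = ψ 16 * o * (ψ 16)⁻¹ * o⁻¹ by rw [hw]; group] at h

theorem card_orbit_prod : Nat.card {e : G // M.Orb e} * 1458 = Nat.card (normalizer (M.grpA : Set G)) := by
  rw [← M.card_stab]
  exact CfsgLib.Spor.SuzType.card_orbit_mul (normalizer (M.grpA : Set G)) (ψ aC)

theorem card_orb : Nat.card {e : G // M.Orb e} = 20 := by
  set m := Nat.card {e : G // M.Orb e} with hm
  have hN := M.card_orbit_prod
  rw [← hm] at hN
  refine orbit_arith m ?_ ?_ M.card_orb_mod (fun h8 => M.no_sixteen (hN ▸ ?_)) (fun h7 => M.no_seven (hN ▸ ?_)) ?_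
  · have h : m + 1 ≤ 81 := by
      rw [← M.card_grpA, hm, ← Finite.card_option]
      refine Nat.card_le_card_of_injective (fun o => o.elim 1 fun e => (⟨e.1, M.orb_grpA e.2⟩ : M.grpA)) ?_
      have h1 : ∀ e : {e : G // M.Orb e}, (e : G) ≠ 1 := fun e h => by
        obtain ⟨g, -, hg⟩ := e.2
        exact M.a_ne (conj_eq_one_iff.1 (hg.trans h))
      rintro (_ | e) (_ | e') h
      · rfl
      · exact absurd (congrArg Subtype.val h).symm (h1 e')
      · exact absurd (congrArg Subtype.val h) (h1 e)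
      · exact congrArg some (Subtype.ext (congrArg Subtype.val h :))
    omega
  · have h := Subgroup.card_subgroup_dvd_card (normalizer (M.grpA : Set G))
    rw [← hN, M.card_eq] at h
    obtain ⟨k, hk⟩ := h
    exact ⟨k, by linarith⟩
  · obtain ⟨k, hk⟩ := Nat.dvd_of_mod_eq_zero h8
    exact ⟨k * 729, by rw [hk]; ring⟩
  · exact Dvd.dvd.mul_right (Nat.dvd_of_mod_eq_zero h7) _
  · intro h4
    obtain ⟨e, he, heP⟩ := M.orb_outside
    have hge : 4 + 1 ≤ m := by
      let L := [aC, mC aC aC, 16, mC 16 16]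
      have hc := M.card_codes (L := L) (fun c hc => (four_distinct.2 c hc).2) four_distinct.1
      have hzero : ∀ c ∈ L, M.Orb (ψ c) := fun c hc => by
        have : ∀ d < 1152, ψ d ^ 3 = 1 → ψ (mC d d) = (ψ d)⁻¹ := fun d hd h3 => by
          rw [← M.mul d hd d hd]
          exact (inv_eq_of_mul_eq_one_right (by rw [← pow_two, ← pow_succ']; exact h3)).symm
        simp only [L, List.mem_cons, List.not_mem_nil, or_false] at hc
        rcases hc with rfl | rfl | rfl | rfl
        · exact M.orb_self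
        · rw [this _ (by norm_num) (M.a_order ▸ pow_orderOf_eq_one _)]; exact M.orb_inv M.orb_self
        · exact M.orb_b
        · rw [this _ (by norm_num) (M.grpP_cube M.b_memX.2)]; exact M.orb_inv M.orb_b
      rw [show 4 + 1 = Nat.card (Option {g : G // ∃ c ∈ L, ψ c = g}) by rw [Finite.card_option, hc]; rfl, hm]
      refine Nat.card_le_card_of_injective (fun o => o.elim (⟨e, he⟩ : {e : G // M.Orb e}) fun g => ⟨g.1, by
        obtain ⟨c, hc, h⟩ := g.2; exact h ▸ hzero c hc⟩) ?_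
      have hP : ∀ g : {g : G // ∃ c ∈ L, ψ c = g}, (g : G) ≠ e := fun g h => by
        obtain ⟨c, hc, h'⟩ := g.2
        exact heP ⟨c, (four_distinct.2 c hc).1, h'.trans h⟩
      rintro (_ | g) (_ | g') h
      · rfl
      · exact absurd (congrArg Subtype.val h).symm (hP g')
      · exact absurd (congrArg Subtype.val h) (hP g)
      · exact congrArg some (Subtype.ext (congrArg Subtype.val h :))
    omega

theorem card_normA : Nat.card (normalizer (M.grpA : Set G)) = 29160 := by
  rw [← M.card_orbit_prod, M.card_orb]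

/-- Every element of the elementary group commutes with a conjugate of the centre normalizing it. -/
theorem fixed_by_invol {p : G} (hp : p ∈ M.grpA) :
    ∃ g ∈ normalizer (M.grpA : Set G), z * (g * p * g⁻¹) = g * p * g⁻¹ * z := by
  classical
  set N := normalizer (M.grpA : Set G) with hN
  by_cases hp1 : p = 1
  · exact ⟨1, one_mem _, by simp [hp1]⟩
  by_cases ho : M.Orb p
  · obtain ⟨g, hg, rfl⟩ := ho
    refine ⟨g⁻¹, inv_mem hg, ?_⟩
    rw [show g⁻¹ * (g * ψ aC * g⁻¹) * g⁻¹⁻¹ = ψ aC by group]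
    exact (M.comm_z (by norm_num)).symm
  set C := N ⊓ centralizer ({p} : Set G) with hC
  have hsum : Nat.card {e : G // ∃ g ∈ N, g * p * g⁻¹ = e} + 20 + 1 ≤ 81 := by
    rw [← M.card_orb, ← M.card_grpA, ← Nat.card_sum, ← Finite.card_option]
    have h0 : ∀ e : G, (∃ g ∈ N, g * p * g⁻¹ = e) → e ∈ M.grpA ∧ e ≠ 1 ∧ ¬ M.Orb e := by
      rintro _ ⟨g, hg, rfl⟩
      refine ⟨M.normA hg hp, fun e => hp1 (conj_eq_one_iff.1 e), fun h => ho ?_⟩
      have h' := M.orb_conj h (inv_mem hg)
      rwa [show g⁻¹ * (g * p * g⁻¹) * g⁻¹⁻¹ = p by group] at h'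
    have h1 : ∀ e : G, M.Orb e → e ≠ 1 := fun e he h => by
      obtain ⟨g, -, hg⟩ := he
      exact M.a_ne (conj_eq_one_iff.1 (hg.trans h))
    refine Nat.card_le_card_of_injective (fun o => o.elim (1 : M.grpA) fun s => s.elim
      (fun e => ⟨e.1, (h0 _ e.2).1⟩) fun e => ⟨e.1, M.orb_grpA e.2⟩) ?_
    rintro (_ | e | e) (_ | e' | e') h <;> have h' := congrArg Subtype.val h
    · rfl
    · exact absurd h'.symm (h0 _ e'.2).2.1
    · exact absurd h'.symm (h1 _ e'.2)
    · exact absurd h' (h0 _ e.2).2.1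
    · exact congrArg (some ∘ Sum.inl) (Subtype.ext h')
    · exact absurd ((show (e' : G) = e from h'.symm) ▸ e'.2) (h0 _ e.2).2.2
    · exact absurd h' (h1 _ e.2)
    · exact absurd ((show (e : G) = e' from h') ▸ e.2) (h0 _ e'.2).2.2
    · exact congrArg (some ∘ Sum.inr) (Subtype.ext h')
  have hprod := CfsgLib.Spor.SuzType.card_orbit_mul N p
  rw [← hC, M.card_normA] at hprod
  have hAC : M.grpA ≤ C := fun a ha =>
    ⟨le_normalizer ha, mem_centralizer_singleton_iff.2 (M.grpA_comm ha hp)⟩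
  obtain ⟨k, hk⟩ := Subgroup.card_dvd_of_le hAC
  rw [M.card_grpA] at hk
  rw [hk] at hprod
  have hk360 : k ∣ 360 := ⟨Nat.card {e : G // ∃ g ∈ N, g * p * g⁻¹ = e}, by nlinarith⟩
  by_cases heven : k % 2 = 0
  · haveI : Fact (Nat.Prime 2) := ⟨Nat.prime_two⟩
    obtain ⟨v, hv⟩ := exists_prime_orderOf_dvd_card' (G := C) 2 (by rw [hk]; exact dvd_mul_of_dvd_right (Nat.dvd_of_mod_eq_zero heven) _)
    have hv2 : (v : G) * v = 1 := by
      have h := pow_orderOf_eq_one v
      rw [hv, pow_two] at h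
      exact congrArg Subtype.val h
    have hv1 : (v : G) ≠ 1 := fun e => by
      rw [Subtype.ext (show (v : G) = ((1 : C) : G) from e), orderOf_one] at hv; norm_num at hv
    obtain ⟨g, hg, hgv⟩ := M.invol_conj v.2.1 hv2 hv1
    refine ⟨g, hg, ?_⟩
    rw [← hgv]
    calc g * v * g⁻¹ * (g * p * g⁻¹) = g * (v * p) * g⁻¹ := by group
      _ = g * (p * v) * g⁻¹ := by rw [mem_centralizer_singleton_iff.1 v.2.2]
      _ = _ := by group
  · exfalso
    by_cases h5 : k % 5 = 0
    · haveI : Fact (Nat.Prime 5) := ⟨by norm_num⟩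
      obtain ⟨v, hv⟩ := exists_prime_orderOf_dvd_card' (G := C) 5 (by rw [hk]; exact dvd_mul_of_dvd_right (Nat.dvd_of_mod_eq_zero h5) _)
      exact hp1 (M.five_free v.2.1 (by rw [Subgroup.orderOf_coe]; exact hv) hp (mem_centralizer_singleton_iff.1 v.2.2))
    rcases cent_small k (Nat.mem_divisors.2 ⟨hk360, by norm_num⟩) heven h5 with rfl | rfl | rfl
    · omega
    · omega
    · haveI : Fact (Nat.Prime 3) := ⟨Nat.prime_three⟩
      obtain ⟨g, hg⟩ := M.conj_S (IsPGroup.of_card (n := 6) (show Nat.card C = 3 ^ 6 by rw [hk]; norm_num))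
      have hinj : Function.Injective (MulAut.conj g).toMonoidHom := (MulAut.conj g).injective
      have hgS : C.map (MulAut.conj g).toMonoidHom = M.grpS :=
        eq_of_le_of_card_ge hg (by rw [Subgroup.card_map_of_injective hinj, hk, M.card_grpS])
      have hgN : g ∈ N := by
        have e := M.abelian_unique ((Subgroup.map_mono hAC).trans (hg.trans M.grpS_norm))
          (by rw [Subgroup.card_map_of_injective hinj, M.card_grpA]) (by
            rintro _ ⟨a, ha, rfl⟩ _ ⟨a', ha', rfl⟩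
            rw [← map_mul, ← map_mul, M.grpA_comm ha ha'])
        exact M.mem_normA fun a ha => e ▸ mem_map_of_mem _ ha
      have hz : g * p * g⁻¹ ∈ zpowers (ψ aC) := by
        refine M.center_S (hg (mem_map_of_mem _ (hAC hp))) fun s hs => ?_
        rw [← hgS] at hs
        obtain ⟨r, hr, rfl⟩ := hs
        show MulAut.conj g p * MulAut.conj g r = MulAut.conj g r * MulAut.conj g p
        rw [← map_mul, ← map_mul, mem_centralizer_singleton_iff.1 hr.2]
      obtain ⟨n, hn⟩ := (Submonoid.mem_powers_iff _ _).1 (mem_powers_iff_mem_zpowers.2 hz)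
      have h3 : ψ aC ^ 3 = 1 := M.a_order ▸ pow_orderOf_eq_one _
      rw [pow_eq_pow_mod n h3] at hn
      have hlt := Nat.mod_lt n (show 0 < 3 by norm_num)
      have hback : ∀ x, M.Orb x → x = g * p * g⁻¹ → False := fun x hx e => ho (by
        have h' := M.orb_conj hx (inv_mem hgN)
        rwa [e, show g⁻¹ * (g * p * g⁻¹) * g⁻¹⁻¹ = p by group] at h')
      interval_cases (n % 3)
      · rw [pow_zero] at hn
        exact hp1 (conj_eq_one_iff.1 hn.symm)
      · exact hback _ M.orb_self (by rw [← hn, pow_one])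
      · exact hback _ (M.orb_inv M.orb_self) (by
          rw [← hn]; exact inv_eq_of_mul_eq_one_right (by rw [← pow_succ']; exact h3))

/-- The conjugates generate the elementary group. -/
theorem orb_span {W : Subgroup G} (hW : ∀ e, M.Orb e → e ∈ W) : M.grpA ≤ W := by
  haveI : Fact (Nat.Prime 5) := ⟨by norm_num⟩
  set V := closure {e : G | M.Orb e} with hV
  have hVA : V ≤ M.grpA := (closure_le _).2 fun e he => M.orb_grpA he
  suffices hVe : V = M.grpA from hVe ▸ (closure_le _).2 hW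
  by_contra hne
  obtain ⟨g, hg⟩ := exists_prime_orderOf_dvd_card' (G := normalizer (M.grpA : Set G)) 5 (by
    rw [M.card_normA]; norm_num)
  have hgo : orderOf (g : G) = 5 := by rw [Subgroup.orderOf_coe]; exact hg
  have hnorm : ∀ a ∈ V, (g : G) * a * (g : G)⁻¹ ∈ V := by
    intro a ha
    have hle : V ≤ V.comap (MulAut.conj (g : G)).toMonoidHom :=
      (closure_le _).2 fun e he => Subgroup.subset_closure (M.orb_conj he g.2)
    exact hle ha
  have e := M.fix_congr hgo hnorm
  have h1 : Nat.card (V ⊓ centralizer ({(g : G)} : Set G) : Subgroup G) = 1 :=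
    Subgroup.card_eq_one.2 ((Subgroup.eq_bot_iff_forall _).2 fun x hx =>
      M.five_free g.2 hgo (hVA hx.1) (mem_centralizer_singleton_iff.1 hx.2).symm)
  rw [h1] at e
  obtain ⟨x, hx, hxP⟩ := M.orb_outside
  have hPV : M.grpP ≤ V := by
    intro p hp
    obtain ⟨i, j, rfl⟩ := M.grpP_gen hp
    exact mul_mem (pow_mem (Subgroup.subset_closure (show ψ aC ∈ {e : G | M.Orb e} from M.orb_self)) i)
      (pow_mem (Subgroup.subset_closure (show ψ 16 ∈ {e : G | M.Orb e} from M.orb_b)) j)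
  have hlt : M.grpP < V := lt_of_le_of_ne hPV fun e => hxP (e ▸ Subgroup.subset_closure hx)
  have hd := Subgroup.card_dvd_of_le hVA
  rw [M.card_grpA] at hd
  have hd9 := Subgroup.card_dvd_of_le hPV
  rw [M.card_grpP] at hd9
  have h27 : 27 ≤ Nat.card V := by
    have hne9 : Nat.card V ≠ 9 := fun e9 => hlt.ne (eq_of_le_of_card_ge hPV (by rw [M.card_grpP, e9]))
    exact (by decide +kernel : ∀ k ∈ Nat.divisors 81, 9 ∣ k → k ≠ 9 → 27 ≤ k) _
      (Nat.mem_divisors.2 ⟨hd, by norm_num⟩) hd9 hne9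
  exact invariant_mod _ (Nat.mem_divisors.2 ⟨hd, by norm_num⟩)
    (fun e81 => hne (eq_of_le_of_card_ge hVA (by rw [M.card_grpA, e81]))) h27 e

end Model

end

end CfsgLib.Spor.UFourType
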