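import Cfsg.Agent.Lib.Spor.SuzType.YCent.Plane
import Mathlib.GroupTheory.GroupAction.Quotient
import Mathlib.GroupTheory.PGroup

/-!
# The centralizer of a plane rotation in the orthogonal group
-/

set_option autoImplicit false
set_option synthInstance.maxSize 4096

namespace CfsgLib.Spor.SuzType.YCent

open Subgroup CfsgLib.Spor.CoOneType

noncomputable section

/-- The rotation of a plane orthogonal to the reference plane. -/
def pr3 (i : Fin 2) : Iso6 := Classical.choose (exists_plane_elt i)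

theorem pr3_mem (i : Fin 2) : pr3 i ∈ Om := (Classical.choose_spec (exists_plane_elt i)).1

theorem act_pr3 (i : Fin 2) (x : Vec) : act (pr3 i) x = rot (vD i) (vE i) x :=
  (Classical.choose_spec (exists_plane_elt i)).2.1 x

theorem pr3_conj (i : Fin 2) : ∃ g ∈ Om, g * g0 * g⁻¹ = pr3 i := (Classical.choose_spec (exists_plane_elt i)).2.2

theorem pr3_pow (i : Fin 2) : pr3 i ^ 3 = 1 := iso_ext fun x => by
  rw [pow_succ, pow_two, act_mul, act_mul, act_pr3, act_pr3, act_pr3, (rot_plane i).2.1, act_one]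

theorem iso_ext6 {g h : Iso6} (hA : act g vA = act h vA) (hB : act g vB = act h vB) (hw : act g w0 = act h w0)
    (hf : act g f0 = act h f0) (hm : ∀ i, act g (vM i) = act h (vM i)) : g = h :=
  iso_ext fun x => by
    rw [decomp6 x]
    simp only [act_add, act_smul, hA, hB, hw, hf, hm]

theorem g0_fix {x : Vec} : act g0 x = x ↔ plf x vA = 0 ∧ plf x vB = 0 := by rw [act_g0]; exact perp_basis x

theorem comm_g0_iff {h : Iso6} : h * g0 = g0 * h ↔ ∀ x, rot (act h vA) (act h vB) x = rot vA vB x := by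
  rw [← mul_inv_eq_iff_eq_mul]
  refine ⟨fun e x => ?_, fun e => iso_ext fun x => ?_⟩
  · rw [← rot_conj act_g0, e, act_g0]
  · rw [rot_conj act_g0, e, act_g0]

theorem comm_of_fix {h : Iso6} (hA : act h vA = vA) (hB : act h vB = vB) : h * g0 = g0 * h :=
  comm_g0_iff.2 fun x => by rw [hA, hB]

theorem g0_pr3 (i : Fin 2) : pr3 i * g0 = g0 * pr3 i :=
  comm_of_fix (by rw [act_pr3, (rot_plane i).2.2.1]) (by rw [act_pr3, (rot_plane i).2.2.2.1])

theorem pr3_comm (i j : Fin 2) : pr3 i * pr3 j = pr3 j * pr3 i := by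
  rcases eq_or_ne i j with rfl | hij
  · rfl
  rw [← mul_inv_eq_iff_eq_mul]
  refine iso_ext fun x => ?_
  rw [rot_conj (act_pr3 j), act_pr3, act_pr3, (rot_other i j hij).1, (rot_other i j hij).2, act_pr3]

/-- Products of the three rotations. -/
def el3 (a b c : ℕ) : Iso6 := g0 ^ a * (pr3 0 ^ b * pr3 1 ^ c)

theorem comm3 : Commute g0 (pr3 0) ∧ Commute g0 (pr3 1) ∧ Commute (pr3 0) (pr3 1) :=
  ⟨(g0_pr3 0).symm, (g0_pr3 1).symm, pr3_comm 0 1⟩

theorem el3_mul (a b c a' b' c' : ℕ) : el3 a b c * el3 a' b' c' = el3 (a + a') (b + b') (c + c') := by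
  obtain ⟨h₁, h₂, h₃⟩ := comm3
  have e : Commute (pr3 0 ^ b * pr3 1 ^ c) (g0 ^ a') :=
    ((h₁.symm.pow_pow b a').mul_left (h₂.symm.pow_pow c a'))
  calc el3 a b c * el3 a' b' c' = g0 ^ a * ((pr3 0 ^ b * pr3 1 ^ c) * g0 ^ a') * (pr3 0 ^ b' * pr3 1 ^ c') := by
        simp only [el3, mul_assoc]
    _ = g0 ^ (a + a') * (pr3 0 ^ b * (pr3 1 ^ c * pr3 0 ^ b') * pr3 1 ^ c') := by
        rw [e.eq, pow_add]; simp only [mul_assoc]
    _ = _ := by
        rw [(h₃.symm.pow_pow c b').eq, el3, pow_add (pr3 0), pow_add (pr3 1)]; simp only [mul_assoc]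

theorem el3_cube (a b c : ℕ) : el3 a b c ^ 3 = 1 := by
  rw [pow_succ, pow_two, el3_mul, el3_mul, el3, show a + a + a = 3 * a by ring, show b + b + b = 3 * b by ring,
    show c + c + c = 3 * c by ring, pow_mul, pow_mul, pow_mul, g0_pow, pr3_pow, pr3_pow, one_pow, one_pow, one_pow, one_mul, one_mul]

/-- The elementary abelian group of the three rotations. -/
def rot3 : Subgroup Iso6 where
  carrier := {g | ∃ a b c, g = el3 a b c}
  one_mem' := ⟨0, 0, 0, by simp [el3]⟩
  mul_mem' := by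
    rintro _ _ ⟨a, b, c, rfl⟩ ⟨a', b', c', rfl⟩
    exact ⟨_, _, _, el3_mul a b c a' b' c'⟩
  inv_mem' := by
    rintro _ ⟨a, b, c, rfl⟩
    refine ⟨a + a, b + b, c + c, inv_eq_of_mul_eq_one_right ?_⟩
    rw [← el3_mul, ← mul_assoc, ← pow_two, ← pow_succ]
    exact el3_cube a b c

theorem el3_mem (a b c : ℕ) : el3 a b c ∈ rot3 := ⟨a, b, c, rfl⟩

theorem g0_rot3 : g0 ∈ rot3 := ⟨1, 0, 0, by simp [el3]⟩

theorem pr3_rot3 : ∀ i, pr3 i ∈ rot3
  | 0 => ⟨0, 1, 0, by simp [el3]⟩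
  | 1 => ⟨0, 0, 1, by simp [el3]⟩

/-- The centralizer of the reference rotation in the simple group. -/
def cent0 : Subgroup Iso6 := Om ⊓ centralizer ({g0} : Set Iso6)

theorem mem_cent0 {h : Iso6} : h ∈ cent0 ↔ h ∈ Om ∧ h * g0 = g0 * h :=
  and_congr_right fun _ => mem_centralizer_singleton_iff

theorem rot3_le : rot3 ≤ cent0 := by
  rintro _ ⟨a, b, c, rfl⟩
  have h : ∀ {x : Iso6}, x ∈ Om → x * g0 = g0 * x → ∀ n : ℕ, x ^ n ∈ cent0 := fun hx hc n =>
    pow_mem (mem_cent0.2 ⟨hx, hc⟩) n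
  exact mul_mem (h g0_mem rfl a) (mul_mem (h (pr3_mem 0) (g0_pr3 0) b) (h (pr3_mem 1) (g0_pr3 1) c))

theorem cent0_plane {h : Iso6} (hh : h ∈ cent0) :
    act h vA = vA ∨ act h vA = vB ∨ act h vA = vA + vB := by
  have hc := (mem_cent0.1 hh).2
  have e : act h vA = rot vA vB (act h vB) + act h vB := by
    conv_lhs => rw [← image_witness]
    rw [act_add, ← act_g0, ← act_mul, hc, act_mul, act_g0]
  rcases SuzType.YCent.image_ref (act h vB) with e' | e' | e' | e' <;> rw [← e] at e'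
  · exfalso
    have := (aniso_act h ref_aniso).1
    rw [e'] at this
    exact absurd this (by decide +kernel)
  · exact Or.inl e'
  · exact Or.inr (Or.inl e')
  · exact Or.inr (Or.inr e')

theorem g0_powers : act (g0 ^ 0) vA = vA ∧ act (g0 ^ 1) vA = vB ∧ act (g0 ^ 2) vA = vA + vB := by
  refine ⟨by rw [pow_zero, act_one], by rw [pow_one, act_g0, rot_ref.1], ?_⟩
  rw [pow_two, act_mul, act_g0, act_g0, rot_ref.1, rot_ref.2.1]

theorem exists_power {h : Iso6} (hh : h ∈ cent0) :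
    ∃ n : Fin 3, ∃ k ∈ cent0, act k vA = vA ∧ act k vB = vB ∧ h = g0 ^ (n : ℕ) * k := by
  obtain ⟨n, hn⟩ : ∃ n : Fin 3, act h vA = act (g0 ^ (n : ℕ)) vA := by
    obtain ⟨e0, e1, e2⟩ := g0_powers
    rcases cent0_plane hh with e | e | e
    · exact ⟨0, e.trans e0.symm⟩
    · exact ⟨1, e.trans e1.symm⟩
    · exact ⟨2, e.trans e2.symm⟩
  set k := (g0 ^ (n : ℕ))⁻¹ * h with hk
  have hkm : k ∈ cent0 := mul_mem (inv_mem (pow_mem (rot3_le g0_rot3) _)) hh
  have hkA : act k vA = vA := by rw [hk, act_mul, hn, ← act_mul, inv_mul_cancel, act_one]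
  refine ⟨n, k, hkm, hkA, ?_, by rw [hk, mul_inv_cancel_left]⟩
  calc act k vB = act k (act g0 vA) := by rw [act_g0, rot_ref.1]
    _ = act g0 (act k vA) := by rw [← act_mul, (mem_cent0.1 hkm).2, act_mul]
    _ = vB := by rw [hkA, act_g0, rot_ref.1]

/-- The action on pairs of vectors. -/
@[reducible] def pairAct : MulAction Om (Vec × Vec) where
  smul g p := (act (g : Iso6) p.1, act (g : Iso6) p.2)
  one_smul p := Prod.ext (act_one _) (act_one _)
  mul_smul g h p := Prod.ext (act_mul (g : Iso6) h _) (act_mul (g : Iso6) h _)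


set_option maxRecDepth 20000 in
theorem card_fix_pair :
    Nat.card {h : Iso6 // h ∈ Om ∧ act h vA = vA ∧ act h vB = vB} = 36 := by
  letI := pairAct
  have h := Nat.card_congr (MulAction.orbitProdStabilizerEquivGroup Om (vA, vB))
  rw [Nat.card_prod, card_om] at h
  have ho : Nat.card (MulAction.orbit Om (vA, vB)) = 720 := by
    rw [← aniso_count, ← Fintype.card_coe, ← Nat.card_eq_fintype_card]
    refine Nat.card_congr (Equiv.subtypeEquivRight fun p => ?_)
    rw [Finset.mem_filter]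
    constructor
    · rintro ⟨g, hg⟩
      have h1 : act (g : Iso6) vA = p.1 := congrArg Prod.fst hg
      have h2 : act (g : Iso6) vB = p.2 := congrArg Prod.snd hg
      refine ⟨Finset.mem_univ _, ?_⟩
      have h3 := aniso_act (g : Iso6) ref_aniso
      rwa [h1, h2] at h3
    · rintro ⟨-, hp⟩
      obtain ⟨g, hg, hA, hB⟩ := pair_move hp
      exact ⟨⟨g, hg⟩, Prod.ext hA hB⟩
  erw [ho] at h
  have e : Nat.card (MulAction.stabilizer Om (vA, vB)) =
      Nat.card {h : Iso6 // h ∈ Om ∧ act h vA = vA ∧ act h vB = vB} :=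
    Nat.card_congr
      { toFun := fun g => ⟨(g.1 : Iso6), g.1.2, congrArg Prod.fst g.2, congrArg Prod.snd g.2⟩
        invFun := fun g => ⟨⟨g.1, g.2.1⟩, Prod.ext g.2.2.1 g.2.2.2⟩
        left_inv := fun g => rfl
        right_inv := fun g => rfl }
  omega

/-- The centralizer of the reference rotation has order 108. -/
theorem card_cent0 : Nat.card cent0 = 108 := by
  have hmem : ∀ k : {h : Iso6 // h ∈ Om ∧ act h vA = vA ∧ act h vB = vB}, (k : Iso6) ∈ cent0 := fun k =>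
    mem_cent0.2 ⟨k.2.1, comm_of_fix k.2.2.1 k.2.2.2⟩
  let f : Fin 3 × {h : Iso6 // h ∈ Om ∧ act h vA = vA ∧ act h vB = vB} → cent0 := fun x =>
    ⟨g0 ^ (x.1 : ℕ) * x.2, mul_mem (pow_mem (rot3_le g0_rot3) _) (hmem x.2)⟩
  have hf : Function.Bijective f := by
    refine ⟨fun x y e => ?_, fun h => ?_⟩
    · have e' : g0 ^ (x.1 : ℕ) * (x.2 : Iso6) = g0 ^ (y.1 : ℕ) * y.2 := congrArg Subtype.val e
      have hA := congrArg (fun t => act t vA) e'
      simp only [act_mul, x.2.2.2.1, y.2.2.2.1] at hA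
      have hn : x.1 = y.1 := by
        obtain ⟨e0, e1, e2⟩ := g0_powers
        obtain ⟨n1, n2, n3⟩ := vA_ne
        revert hA
        generalize x.1 = n
        generalize y.1 = m
        intro hA
        fin_cases n <;> fin_cases m <;> simp only [Fin.isValue] at hA ⊢ <;>
          first
          | rfl
          | (exfalso; rw [e0, e1] at hA; first | exact n1 hA | exact n1 hA.symm)
          | (exfalso; rw [e0, e2] at hA; first | exact n2 hA | exact n2 hA.symm)
          | (exfalso; rw [e1, e2] at hA; first | exact n3 hA | exact n3 hA.symm)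
      refine Prod.ext hn (Subtype.ext ?_)
      rw [hn] at e'
      exact mul_left_cancel e'
    · obtain ⟨n, k, hk, hA, hB, e⟩ := exists_power h.2
      exact ⟨(n, ⟨k, (mem_cent0.1 hk).1, hA, hB⟩), Subtype.ext e.symm⟩
  rw [← Nat.card_eq_of_bijective f hf, Nat.card_prod, card_fix_pair, Nat.card_fin]

theorem el3_inj {a b c : ℕ} (ha : a < 3) (hb : b < 3) (hc : c < 3) (h : el3 a b c = 1) : a = 0 ∧ b = 0 ∧ c = 0 := by
  obtain ⟨h₁, h₂, h₃⟩ := comm3
  have fix : ∀ (x : Iso6) (n : ℕ) (v : Vec), act x v = v → act (x ^ n) v = v := fun x n v hv => by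
    induction n with
    | zero => rw [pow_zero, act_one]
    | succ n ih => rw [pow_succ, act_mul, hv, ih]
  have hgen : ∀ (x : Iso6) (d e : Vec), (∀ y, act x y = rot d e y) → rot d e d = e → d ≠ e →
      x ^ 3 = 1 → ∀ n < 3, act (x ^ n) d = d → n = 0 := by
    intro x d e hx hde hne hx3 n hn hfix
    have h1 : act x d ≠ d := fun e' => hne (by rw [← hde, ← hx, e'])
    interval_cases n
    · rfl
    · exact absurd (by rwa [pow_one] at hfix) h1
    · refine absurd ?_ h1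
      calc act x d = act x (act (x ^ 2) d) := by rw [hfix]
        _ = d := by rw [← act_mul, ← pow_succ', hx3, act_one]
  have hv : ∀ v, act (el3 a b c) v = v := fun v => by rw [h, act_one]
  refine ⟨hgen g0 vA vB act_g0 rot_ref.1 vA_ne.1 g0_pow a ha ?_, ?_⟩
  · have := hv vA
    rwa [el3, act_mul, act_mul, fix _ c _ (by rw [act_pr3, (rot_plane 1).2.2.1]),
      fix _ b _ (by rw [act_pr3, (rot_plane 0).2.2.1])] at this
  · have hne : ∀ i, vD i ≠ vE i := by decide +kernel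
    refine ⟨hgen _ _ _ (act_pr3 0) (rot_plane 0).1 (hne 0) (pr3_pow 0) b hb ?_,
      hgen _ _ _ (act_pr3 1) (rot_plane 1).1 (hne 1) (pr3_pow 1) c hc ?_⟩
    · have := hv (vD 0)
      rwa [show el3 a b c = pr3 0 ^ b * (g0 ^ a * pr3 1 ^ c) by
        rw [el3, ← mul_assoc, (h₁.pow_pow a b).eq, mul_assoc], act_mul, act_mul,
        fix _ c _ (by rw [act_pr3, (rot_other 1 0 (by decide)).1]),
        fix _ a _ (by rw [act_g0, (rot_plane 0).2.2.2.2.1])] at this
    · have := hv (vD 1)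
      rwa [show el3 a b c = pr3 1 ^ c * (g0 ^ a * pr3 0 ^ b) by
        rw [el3, ← mul_assoc, ← ((h₂.pow_pow a c).mul_left (h₃.pow_pow b c)).eq], act_mul, act_mul,
        fix _ b _ (by rw [act_pr3, (rot_other 0 1 (by decide)).1]),
        fix _ a _ (by rw [act_g0, (rot_plane 1).2.2.2.2.1])] at this

theorem el3_reduce (a b c : ℕ) : el3 a b c = el3 (a % 3) (b % 3) (c % 3) := by
  rw [el3, el3, ← pow_eq_pow_mod a g0_pow, ← pow_eq_pow_mod b (pr3_pow 0), ← pow_eq_pow_mod c (pr3_pow 1)]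

theorem card_rot3 : Nat.card rot3 = 27 := by
  let f : Fin 3 × Fin 3 × Fin 3 → rot3 := fun x => ⟨el3 x.1 x.2.1 x.2.2, el3_mem _ _ _⟩
  have hf : Function.Bijective f := by
    refine ⟨fun x y e => ?_, fun g => ?_⟩
    · have e' : el3 x.1 x.2.1 x.2.2 = el3 y.1 y.2.1 y.2.2 := congrArg Subtype.val e
      have h1 : el3 (x.1 + 2 * y.1) (x.2.1 + 2 * y.2.1) (x.2.2 + 2 * y.2.2) = 1 := by
        rw [two_mul, two_mul, two_mul, ← el3_mul, ← el3_mul, e', ← mul_assoc, ← pow_two, ← pow_succ]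
        exact el3_cube _ _ _
      rw [el3_reduce] at h1
      obtain ⟨ea, eb, ec⟩ := el3_inj (Nat.mod_lt _ (by norm_num)) (Nat.mod_lt _ (by norm_num))
        (Nat.mod_lt _ (by norm_num)) h1
      refine Prod.ext (Fin.ext ?_) (Prod.ext (Fin.ext ?_) (Fin.ext ?_)) <;> omega
    · obtain ⟨g, a, b, c, rfl⟩ := g
      exact ⟨(⟨a % 3, Nat.mod_lt _ (by norm_num)⟩, ⟨b % 3, Nat.mod_lt _ (by norm_num)⟩,
        ⟨c % 3, Nat.mod_lt _ (by norm_num)⟩), Subtype.ext (el3_reduce a b c).symm⟩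
  rw [← Nat.card_eq_of_bijective f hf]
  simp

theorem perp_image {h : Iso6} (hh : h ∈ cent0) {x : Vec} (hA : plf x vA = 0) (hB : plf x vB = 0) :
    plf (act h x) vA = 0 ∧ plf (act h x) vB = 0 :=
  g0_fix.1 (by rw [← act_mul, ← (mem_cent0.1 hh).2, act_mul, g0_fix.2 ⟨hA, hB⟩])

/-- The rotations form a normal subgroup of the centralizer. -/
theorem rot3_normal {h x : Iso6} (hh : h ∈ cent0) (hx : x ∈ rot3) : h * x * h⁻¹ ∈ rot3 := by
  have hg : h * g0 * h⁻¹ = g0 := by rw [mul_inv_eq_iff_eq_mul]; exact (mem_cent0.1 hh).2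
  have hp : ∀ i, h * pr3 i * h⁻¹ ∈ rot3 := by
    intro i
    obtain ⟨p1, p2, p3, p4⟩ := perp_plane i
    obtain ⟨a1, a2, a3⟩ := plane_aniso i
    obtain ⟨q1, q2⟩ := perp_image hh p1 p2
    obtain ⟨q3, q4⟩ := perp_image hh p3 p4
    obtain ⟨j, hj | hj⟩ := six_rot _ (six_spec _ q1 q2 ((qf_act h _).trans a1)) _
      (six_spec _ q3 q4 ((qf_act h _).trans a2)) ((plf_act h _ _).trans a3)
    · rw [show h * pr3 i * h⁻¹ = pr3 j from iso_ext fun x => by rw [rot_conj (act_pr3 i), hj, act_pr3]]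
      exact pr3_rot3 j
    · rw [show h * pr3 i * h⁻¹ = pr3 j * pr3 j from iso_ext fun x => by
        rw [rot_conj (act_pr3 i), hj, act_mul, act_pr3, act_pr3]]
      exact mul_mem (pr3_rot3 j) (pr3_rot3 j)
  obtain ⟨a, b, c, rfl⟩ := hx
  rw [show h * el3 a b c * h⁻¹ = (h * g0 * h⁻¹) ^ a * ((h * pr3 0 * h⁻¹) ^ b * (h * pr3 1 * h⁻¹) ^ c) by
    simp only [el3, conj_pow]; group, hg]
  exact mul_mem (pow_mem g0_rot3 a) (mul_mem (pow_mem (hp 0) b) (pow_mem (hp 1) c))

/-- Elements of odd order of the centralizer are products of rotations. -/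
theorem odd_rot3 {h : Iso6} (hh : h ∈ cent0) (ho : Odd (orderOf h)) : h ∈ rot3 := by
  haveI : (rot3.subgroupOf cent0).Normal := ⟨fun x hx g => rot3_normal g.2 hx⟩
  have hidx : (rot3.subgroupOf cent0).index = 4 := by
    have e := (rot3.subgroupOf cent0).card_mul_index
    rw [Nat.card_congr (Subgroup.subgroupOfEquivOfLe rot3_le).toEquiv, card_rot3, card_cent0] at e
    omega
  have h4 := (rot3.subgroupOf cent0).pow_index_mem ⟨h, hh⟩
  rw [hidx, Subgroup.mem_subgroupOf] at h4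
  replace h4 : h ^ 4 ∈ rot3 := h4
  obtain ⟨k, hk⟩ := ho
  have h3 : h ^ 3 ∈ rot3 := by
    have := pow_mem h4 ((orderOf h * orderOf h + 3) / 4)
    rw [← pow_mul, Nat.mul_div_cancel' (show 4 ∣ orderOf h * orderOf h + 3 by rw [hk]; exact ⟨k * k + k + 1, by ring⟩),
      pow_add, pow_mul, pow_orderOf_eq_one, one_pow, one_mul] at this
    exact this
  have := mul_mem (inv_mem h3) h4
  rwa [pow_succ h 3, inv_mul_cancel_left] at this

/-- An element of the centralizer fixing the orthogonal space is a power of the rotation. -/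
theorem cent0_fix_perp {h : Iso6} (hh : h ∈ cent0)
    (hfix : ∀ x, plf x vA = 0 → plf x vB = 0 → act h x = x) : ∃ n : ℕ, h = g0 ^ n := by
  obtain ⟨n, k, -, hA, hB, rfl⟩ := exists_power hh
  have hk : ∀ x, plf x vA = 0 → plf x vB = 0 → act k x = x := fun x h1 h2 => by
    have e := hfix x h1 h2
    rw [act_mul] at e
    refine act_injective (g0 ^ (n : ℕ)) (e.trans ?_)
    clear e
    induction (n : ℕ) with
    | zero => rw [pow_zero, act_one]
    | succ m ih => rw [pow_succ, act_mul, g0_fix.2 ⟨h1, h2⟩, ← ih]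
  have hp : plf w0 vA = 0 ∧ plf w0 vB = 0 ∧ plf f0 vA = 0 ∧ plf f0 vB = 0 ∧
      ∀ i, plf (vM i) vA = 0 ∧ plf (vM i) vB = 0 := by decide +kernel
  obtain ⟨p1, p2, p3, p4, p5⟩ := hp
  refine ⟨n, ?_⟩
  rw [show k = 1 from iso_ext6 (by rw [hA, act_one]) (by rw [hB, act_one]) (by rw [hk _ p1 p2, act_one])
    (by rw [hk _ p3 p4, act_one]) (fun i => by rw [hk _ (p5 i).1 (p5 i).2, act_one]), mul_one]

/-- An element inverting the reference rotation. -/
theorem exists_g0_inverter : ∃ g ∈ Om, g * g0 * g⁻¹ = g0 * g0 := by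
  obtain ⟨g, hg, hA, hB⟩ := exists_flip
  refine ⟨g, hg, iso_ext fun x => ?_⟩
  rw [rot_conj act_g0, hA, hB, act_mul, act_g0, act_g0]
  revert x
  decide +kernel

/-- An element commuting with the reference rotation and inverting the first plane rotation. -/
theorem exists_pr3_inverter : ∃ g ∈ cent0, g * pr3 0 * g⁻¹ = pr3 0 * pr3 0 := by
  obtain ⟨r, hr, hra⟩ := exists_refl (plane_aniso 0).1
  obtain ⟨s, hs, hsa⟩ := exists_refl (plane_aniso 1).1
  have hd : pl vA (vD 1) = 0 ∧ pl vB (vD 1) = 0 ∧ pl vA (vD 0) = 0 ∧ pl vB (vD 0) = 0 ∧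
      pl (vD 0) (vD 1) = 0 ∧ pl (vE 0) (vD 1) = 0 ∧ pl (vD 0) (vD 0) = 0 ∧ pl (vE 0) (vD 0) = 1 := by decide +kernel
  obtain ⟨d1, d2, d3, d4, d5, d6, d7, d8⟩ := hd
  refine ⟨r * s, mem_cent0.2 ⟨mul_mem_om hr hs, comm_of_fix ?_ ?_⟩, iso_ext fun x => ?_⟩
  · rw [act_mul, hsa, d1, zero_smul, add_zero, hra, d3, zero_smul, add_zero]
  · rw [act_mul, hsa, d2, zero_smul, add_zero, hra, d4, zero_smul, add_zero]
  · rw [rot_conj (act_pr3 0), act_mul, act_mul, hsa, d5, zero_smul, add_zero, hra, d7, zero_smul, add_zero, hsa, d6,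
      zero_smul, add_zero, hra, d8, one_smul, act_mul, act_pr3, act_pr3]
    revert x
    decide +kernel

/-- The stabilizer of the fixed singular vector. -/
def stab0 : Subgroup Iso6 where
  carrier := {h | h ∈ Om ∧ act h w0 = w0}
  one_mem' := ⟨one_mem _, act_one _⟩
  mul_mem' := fun ⟨h1, h2⟩ ⟨h3, h4⟩ => ⟨mul_mem h1 h3, by rw [act_mul, h4, h2]⟩
  inv_mem' := fun {g} ⟨h1, h2⟩ => ⟨inv_mem h1, act_injective g (by rw [← act_mul, mul_inv_cancel, act_one, h2])⟩

theorem g0_stab0 : g0 ∈ stab0 := ⟨g0_mem, g0_fix.2 (by decide +kernel)⟩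

theorem card_stab0 : Nat.card stab0 = 960 := by
  letI : MulAction Om Vec :=
    { smul := fun g x => act (g : Iso6) x
      one_smul := act_one
      mul_smul := fun g h x => act_mul (g : Iso6) h x }
  have h := Nat.card_congr (MulAction.orbitProdStabilizerEquivGroup Om w0)
  rw [Nat.card_prod, card_om] at h
  have ho : Nat.card (MulAction.orbit Om w0) = 27 := by
    rw [show 27 = (Finset.univ.filter fun x : Vec => qf x = 0 ∧ x ≠ 0).card by decide +kernel, ← Fintype.card_coe,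
      ← Nat.card_eq_fintype_card]
    refine Nat.card_congr (Equiv.subtypeEquivRight fun p => ?_)
    rw [Finset.mem_filter]
    constructor
    · rintro ⟨g, rfl⟩
      exact ⟨Finset.mem_univ _, (qf_act (g : Iso6) w0).trans qf_w0,
        fun e => w0_ne (act_injective (g : Iso6) (e.trans (act_zero _).symm))⟩
    · rintro ⟨-, hp, hp0⟩
      obtain ⟨g, hg, e⟩ := move_singular w0_ne hp0 qf_w0 hp
      exact ⟨⟨g, hg⟩, e⟩
  erw [ho] at h
  have e : Nat.card (MulAction.stabilizer Om w0) = Nat.card stab0 :=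
    Nat.card_congr
      { toFun := fun g => ⟨(g.1 : Iso6), g.1.2, g.2⟩
        invFun := fun g => ⟨⟨g.1, g.2.1⟩, g.2.2⟩
        left_inv := fun g => rfl
        right_inv := fun g => rfl }
  omega

end

end CfsgLib.Spor.SuzType.YCent
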