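import Cfsg.Agent.Lib.Spor.SuzType.Involution

/-!
# Rotations on anisotropic planes of the orthogonal space
-/

set_option autoImplicit false
set_option synthInstance.maxSize 4096

namespace CfsgLib.Spor.SuzType.YCent

open Matrix CfsgLib.Spor.CoOneType

noncomputable section

/-- The rotation of the plane spanned by two vectors, with the identity on the orthogonal space. -/
def rot (d e x : Vec) : Vec := x + (plf x d + plf x e) • d + plf x e • e

/-- An admissible ordered pair: the plane spanned is anisotropic. -/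
def Aniso (d e : Vec) : Prop := qf d = 1 ∧ qf e = 1 ∧ plf d e = 1

instance (d e : Vec) : Decidable (Aniso d e) := by unfold Aniso; infer_instance

/-- First vector of the reference plane. -/
def vA : Vec := vmk 0 0 a₀

/-- Second vector of the reference plane. -/
def vB : Vec := vmk 0 0 c₀

/-- A basis vector of the orthogonal space. -/
def vM : Fin 2 → Vec := ![vmk 0 0 m₁, vmk 0 0 m₂]

/-- First vectors of the two planes orthogonal to the reference plane. -/
def vD : Fin 2 → Vec := ![w0 + f0, w0 + f0 + vM 0]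

/-- Second vectors of the two planes. -/
def vE : Fin 2 → Vec := ![w0 + vM 0 + vM 1, w0 + f0 + vM 1]

theorem plf_act (g : Iso6) (x y : Vec) : plf (act g x) (act g y) = plf x y := by
  rw [plf_eq, plf_eq]; exact pol_act g x y

theorem aniso_act (g : Iso6) {d e : Vec} (h : Aniso d e) : Aniso (act g d) (act g e) :=
  ⟨(qf_act g d).trans h.1, (qf_act g e).trans h.2.1, (plf_act g d e).trans h.2.2⟩

theorem ref_aniso : Aniso vA vB := by decide +kernel

theorem plane_aniso : ∀ i, Aniso (vD i) (vE i) := by decide +kernel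

theorem decomp6 : ∀ x : Vec, x = plf x vB • vA + plf x vA • vB + plf x f0 • w0 + plf x w0 • f0 +
    plf x (vM 1) • vM 0 + plf x (vM 0) • vM 1 := by decide +kernel

theorem image_ref : ∀ x : Vec, rot vA vB x + x = 0 ∨ rot vA vB x + x = vA ∨ rot vA vB x + x = vB ∨
    rot vA vB x + x = vA + vB := by decide +kernel

theorem image_witness : rot vA vB vB + vB = vA := by decide +kernel

theorem rot_ref : rot vA vB vA = vB ∧ rot vA vB vB = vA + vB ∧ ∀ x, rot vA vB (rot vA vB (rot vA vB x)) = x := by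
  decide +kernel

theorem rot_plane : ∀ i, rot (vD i) (vE i) (vD i) = vE i ∧
    (∀ x, rot (vD i) (vE i) (rot (vD i) (vE i) (rot (vD i) (vE i) x)) = x) ∧
    rot (vD i) (vE i) vA = vA ∧ rot (vD i) (vE i) vB = vB ∧ rot vA vB (vD i) = vD i ∧ rot vA vB (vE i) = vE i := by
  decide +kernel

theorem rot_other : ∀ i j, i ≠ j → rot (vD i) (vE i) (vD j) = vD j ∧ rot (vD i) (vE i) (vE j) = vE j := by
  decide +kernel

theorem perp_basis : ∀ x : Vec, rot vA vB x = x ↔ plf x vA = 0 ∧ plf x vB = 0 := by decide +kernel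

theorem perp_plane : ∀ i, plf (vD i) vA = 0 ∧ plf (vD i) vB = 0 ∧ plf (vE i) vA = 0 ∧ plf (vE i) vB = 0 := by
  decide +kernel

/-- The vectors of value one orthogonal to the reference plane. -/
def sixList : List Vec := [vD 0, vE 0, vD 0 + vE 0, vD 1, vE 1, vD 1 + vE 1]

theorem six_spec : ∀ x : Vec, plf x vA = 0 → plf x vB = 0 → qf x = 1 → x ∈ sixList := by decide +kernel

theorem six_rot : ∀ d ∈ sixList, ∀ e ∈ sixList, plf d e = 1 → ∃ i,
    (∀ x, rot d e x = rot (vD i) (vE i) x) ∨ (∀ x, rot d e x = rot (vD i) (vE i) (rot (vD i) (vE i) x)) := by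
  decide +kernel

/-- The three vectors of a plane together with zero and the orthogonal space split. -/
theorem perp_split : ∀ x : Vec, plf x vA = 0 → plf x vB = 0 →
    ∃ s t s' t' : ZMod 2, x = (s • vD 0 + t • vE 0) + (s' • vD 1 + t' • vE 1) := by decide +kernel

theorem fixed_count : (Finset.univ.filter fun x : Vec => plf x vA = 0 ∧ plf x vB = 0).card = 16 := by decide +kernel

theorem aniso_count : (Finset.univ.filter fun p : Vec × Vec => Aniso p.1 p.2).card = 720 := by decide +kernel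

theorem vA_ne : vA ≠ vB ∧ vA ≠ vA + vB ∧ vB ≠ vA + vB := by decide +kernel

theorem act_rot (g : Iso6) (d e x : Vec) : act g (rot d e x) = rot (act g d) (act g e) (act g x) := by
  simp only [rot, act_add, act_smul, plf_act]

/-- Conjugates of a rotation. -/
theorem rot_conj {r : Iso6} {d e : Vec} (hr : ∀ x, act r x = rot d e x) (g : Iso6) (x : Vec) :
    act (g * r * g⁻¹) x = rot (act g d) (act g e) x := by
  rw [act_mul, act_mul, hr, act_rot, ← act_mul, mul_inv_cancel, act_one]

/-- The reference rotation. -/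
def g0 : Iso6 := E (σ 0)

theorem g0_fun : ∀ x : Vec, vmk (xc x) (yc x) (σf 0 (pr x)) = rot vA vB x := by decide +kernel

theorem act_g0 (x : Vec) : act g0 x = rot vA vB x := by rw [g0, act_E, act4_σ, g0_fun]

theorem g0_pow : g0 ^ 3 = 1 := by
  rw [g0, ← map_pow, show (σ 0) ^ 3 = 1 from σ_pow 0, map_one]

theorem g0_mem : g0 ∈ Om := mem_om_of_odd (by decide) g0_pow

theorem g0_ne : g0 ≠ 1 := fun h => by
  have := act_g0 vA
  rw [h, act_one, rot_ref.1] at this
  exact vA_ne.1 this

theorem mul_mem_om {a b : Iso6} (ha : a ∉ Om) (hb : b ∉ Om) : a * b ∈ Om := by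
  rw [Subgroup.mul_mem_iff_of_index_two om_index]
  exact ⟨fun h => absurd h ha, fun h => absurd h hb⟩

theorem exists_refl {e : Vec} (he : qf e = 1) : ∃ r : Iso6, r ∉ Om ∧ IsReflAct e r := by
  obtain ⟨g, hg, hge⟩ := SuzType.move_value (show qf (vmk 0 0 c₀) = 1 by decide +kernel) he
  refine ⟨g * E r₄ * g⁻¹, fun h => r₄_notMem ?_, hge ▸ isReflAct_of_conj E_r₄_refl⟩
  rw [show E r₄ = g⁻¹ * (g * E r₄ * g⁻¹) * g by group]
  exact mul_mem (mul_mem (inv_mem hg) h) hg

theorem qf_w0f0' : qf (w0 + f0) = 1 := by decide +kernel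

/-- A fixed reflection commuting with the reference plane. -/
def rf0 : Iso6 := Classical.choose (exists_refl qf_w0f0')

theorem rf0_notMem : rf0 ∉ Om := (Classical.choose_spec (exists_refl qf_w0f0')).1

theorem rf0_refl : IsReflAct (w0 + f0) rf0 := (Classical.choose_spec (exists_refl qf_w0f0')).2

theorem refl_swap {d : Vec} (h : Aniso vA d) : plf vB d = 1 ∨ plf (vA + vB) d = 1 := by
  revert h
  revert d
  decide +kernel

theorem refl_data : ∀ d : Vec, Aniso vA d →
    (plf vB d = 1 → qf (vB + d) = 1 ∧ pl vA (vB + d) = 0 ∧ pl vB (vB + d) = 1 ∧ vB + (vB + d) = d) ∧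
    (plf (vA + vB) d = 1 → qf (vA + vB + d) = 1 ∧ pl vA (vA + vB + d) = 0 ∧ pl (vA + vB) (vA + vB + d) = 1 ∧
      vA + vB + (vA + vB + d) = d) := by decide +kernel

theorem refl_fixes : pl vA (w0 + f0) = 0 ∧ pl vB (w0 + f0) = 0 ∧ pl (vA + vB) (w0 + f0) = 0 := by decide +kernel

theorem refA_data : qf vA = 1 ∧ pl vA vA = 0 ∧ pl vB vA = 1 ∧ vB + vA = vA + vB := by decide +kernel

/-- The second and third vectors of the reference plane are exchanged fixing the first. -/
theorem exists_flip : ∃ g ∈ Om, act g vA = vA ∧ act g vB = vA + vB := by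
  obtain ⟨r, hr, hra⟩ := exists_refl refA_data.1
  refine ⟨r * rf0, mul_mem_om hr rf0_notMem, ?_, ?_⟩
  · rw [act_mul, rf0_refl vA, refl_fixes.1, zero_smul, add_zero, hra, refA_data.2.1, zero_smul, add_zero]
  · rw [act_mul, rf0_refl vB, refl_fixes.2.1, zero_smul, add_zero, hra, refA_data.2.2.1, one_smul, refA_data.2.2.2]

/-- The simple group is transitive on the admissible pairs. -/
theorem pair_move {d e : Vec} (h : Aniso d e) : ∃ g ∈ Om, act g vA = d ∧ act g vB = e := by
  obtain ⟨g, hg, hgA⟩ := SuzType.move_value ref_aniso.1 h.1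
  set b := act g⁻¹ e with hb
  have hbA : Aniso vA b := by
    have := aniso_act g⁻¹ h
    rwa [← hgA, ← act_mul, inv_mul_cancel, act_one] at this
  have hgb : act g b = e := by rw [hb, ← act_mul, mul_inv_cancel, act_one]
  obtain ⟨h₁, h₂⟩ := refl_data b hbA
  rcases refl_swap hbA with hp | hp
  · obtain ⟨hq, hA, hB, hs⟩ := h₁ hp
    obtain ⟨r, hr, hra⟩ := exists_refl hq
    refine ⟨g * (r * rf0), mul_mem hg (mul_mem_om hr rf0_notMem), ?_, ?_⟩
    · rw [act_mul, act_mul, rf0_refl vA, refl_fixes.1, zero_smul, add_zero, hra, hA, zero_smul, add_zero, hgA]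
    · rw [act_mul, act_mul, rf0_refl vB, refl_fixes.2.1, zero_smul, add_zero, hra, hB, one_smul, hs, hgb]
  · obtain ⟨hq, hA, hB, hs⟩ := h₂ hp
    obtain ⟨r, hr, hra⟩ := exists_refl hq
    obtain ⟨f, hf, hfA, hfB⟩ := exists_flip
    refine ⟨g * (r * rf0) * f, mul_mem (mul_mem hg (mul_mem_om hr rf0_notMem)) hf, ?_, ?_⟩
    · rw [act_mul, hfA, act_mul, act_mul, rf0_refl vA, refl_fixes.1, zero_smul, add_zero, hra, hA, zero_smul,
        add_zero, hgA]
    · rw [act_mul, hfB, act_mul, act_mul, rf0_refl (vA + vB), refl_fixes.2.2, zero_smul, add_zero, hra, hB,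
        one_smul, hs, hgb]

theorem exists_plane_elt (i : Fin 2) : ∃ r ∈ Om, (∀ x, act r x = rot (vD i) (vE i) x) ∧
    ∃ g ∈ Om, g * g0 * g⁻¹ = r := by
  obtain ⟨g, hg, hA, hB⟩ := pair_move (plane_aniso i)
  refine ⟨g * g0 * g⁻¹, (inferInstance : Om.Normal).conj_mem _ g0_mem g, fun x => ?_, g, hg, rfl⟩
  rw [rot_conj act_g0, hA, hB]

end

end CfsgLib.Spor.SuzType.YCent
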