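import Cfsg.Agent.Lib.Spor.SuzType.YCent.Local
import Cfsg.Agent.Lib.Spor.SuzType.Classes
import Cfsg.Agent.Lib.Spor.UFourType.Basic

/-!
# The quotient of the centralizer satisfies the hypotheses of `U₄(3)` type
-/

set_option autoImplicit false
set_option synthInstance.maxSize 4096

namespace CfsgLib.Spor.SuzType.YCent

open Subgroup CfsgLib.Spor.CoOneType

noncomputable section

variable {G : Type*} [Group G] [Finite G] {z : G} {Q : Subgroup G} {v : G → Vec} {ρ : G → Iso6} {y : G}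

theorem sing_vec : plf w0 vA = 0 ∧ plf w0 vB = 0 := by decide +kernel

namespace Data

variable (D : Data z Q v ρ y)
include D

/-- An element moving the central involution to a given fixed one, commuting with the element of order three. -/
theorem exists_move (hnwc : ∃ g : G, g * z * g⁻¹ ∈ Q ∧ g * z * g⁻¹ ≠ z) {a : G} (ha : a ∈ Q)
    (hay : a * y = y * a) (ha2 : a * a = 1) (hv : v a ≠ 0) : ∃ m : G, m * y = y * m ∧ m * z * m⁻¹ = a := by
  haveI : Fact (Nat.Prime 3) := ⟨Nat.prime_three⟩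
  have S := D.setup
  obtain ⟨g, hgQ, hgne⟩ := hnwc
  obtain ⟨k, rfl⟩ := S.all_conj hgQ hgne ha ha2 hv
  have hkne : k * z * k⁻¹ ≠ z := fun e => hv (by rw [e, S.v_z])
  set b := k⁻¹ * z * k with hb
  have hbQ : b ∈ Q := by
    obtain ⟨c, hc, e⟩ := mutual_mem S ha hkne
    replace e : k * c * k⁻¹ = z := e
    rw [hb, ← e, show k⁻¹ * (k * c * k⁻¹) * k = c by group]
    exact hc
  have hb2 : b * b = 1 := by
    rw [hb, show k⁻¹ * z * k * (k⁻¹ * z * k) = k⁻¹ * (z * z) * k by group, S.zz]; group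
  have hbv : v b ≠ 0 := S.v_ne hbQ (fun e => S.z_ne (by
    calc z = k * b * k⁻¹ := by rw [hb]; group
      _ = 1 := by rw [e]; group)) (fun e => hkne (by
    calc k * z * k⁻¹ = k * b * k⁻¹ := by rw [e]
      _ = z := by rw [hb]; group))
  set x := k⁻¹ * y * k with hx
  have hxC : x ∈ centralizer ({z} : Set G) := mem_cz.2 (by
    calc x * z = k⁻¹ * (y * (k * z * k⁻¹)) * k := by rw [hx]; group
      _ = k⁻¹ * (k * z * k⁻¹ * y) * k := by rw [hay]
      _ = z * x := by rw [hx]; group)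
  have hx3 : x ^ 3 = 1 := by
    rw [hx, show k⁻¹ * y * k = k⁻¹ * y * k⁻¹⁻¹ by group, conj_pow, D.cube]; group
  have hx1 : ρ x ≠ 1 := fun e => D.y_ne (by
    have := S.not_three_Q hx3 ((S.ρ_ker x hxC).1 e)
    calc y = k * x * k⁻¹ := by rw [hx]; group
      _ = 1 := by rw [this]; group)
  have hfix : act (ρ x) (v b) = v b := by
    rw [← S.ρ_act x hxC b hbQ]
    congr 1
    rw [conj_eq_iff_comm]
    calc x * b = k⁻¹ * (y * z) * k := by rw [hx, hb]; group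
      _ = k⁻¹ * (z * y) * k := by rw [D.y_comm]
      _ = b * x := by rw [hx, hb]; group
  obtain ⟨l, hl, hlw⟩ := move_singular hbv w0_ne ((S.v_sq b hbQ).2 hb2) qf_w0
  have hxs : l * ρ x * l⁻¹ ∈ stab0 := ⟨(inferInstance : Om.Normal).conj_mem _ (S.ρ_mem x hxC) l, by
    rw [← hlw, act_mul, act_mul, ← act_mul l⁻¹ l, inv_mul_cancel, act_one, hfix]⟩
  have hsq : ¬ 3 ^ 2 ∣ Nat.card stab0 := by rw [card_stab0]; norm_num
  have hxo : orderOf (l * ρ x * l⁻¹) = 3 := by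
    rw [← MulAut.conj_apply, MulEquiv.orderOf_eq]
    exact orderOf_eq_prime (S.rho_cube hxC hx3) hx1
  obtain ⟨h, hh, hc⟩ := conj_zpowers_of_not_sq hsq g0_stab0 hxs (orderOf_eq_prime g0_pow g0_ne) hxo
  obtain ⟨f, hf, hfe⟩ : ∃ f ∈ Om, f * ρ x * f⁻¹ = g0 := by
    obtain ⟨n, hn⟩ := (Submonoid.mem_powers_iff _ _).1 (mem_powers_iff_mem_zpowers.2 hc)
    rw [pow_eq_pow_mod n g0_pow] at hn
    have hlt := Nat.mod_lt n (show 0 < 3 by norm_num)
    interval_cases (n % 3)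
    · exfalso
      rw [pow_zero] at hn
      exact hx1 (conj_eq_one_iff.1 (conj_eq_one_iff.1 hn.symm))
    · exact ⟨h * l, mul_mem hh.1 hl, by rw [pow_one] at hn; rw [hn]; group⟩
    · obtain ⟨i, hi, hie⟩ := exists_g0_inverter
      refine ⟨i * (h * l), mul_mem hi (mul_mem hh.1 hl), ?_⟩
      calc i * (h * l) * ρ x * (i * (h * l))⁻¹ = i * (h * (l * ρ x * l⁻¹) * h⁻¹) * i⁻¹ := by group
        _ = i * g0 * i⁻¹ * (i * g0 * i⁻¹) := by rw [← hn, pow_two]; group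
        _ = g0 ^ 3 * g0 := by rw [hie, pow_succ g0, pow_two]; simp only [mul_assoc]
        _ = g0 := by rw [g0_pow, one_mul]
  obtain ⟨c, hc', rfl⟩ := S.ρ_surj f hf
  obtain ⟨q, hq, -, e⟩ := S.conj_of_rho_eq ⊤ (x := c * x * c⁻¹) (x' := y) (mul_mem (mul_mem hc' hxC) (inv_mem hc'))
    D.mem (mem_top _) (mem_top _) (by rw [conj_pow, hx3]; group) D.cube
    (by rw [S.ρ_mul _ (mul_mem hc' hxC) _ (inv_mem hc'), S.ρ_mul _ hc' _ hxC, S.ρ_inv hc', D.img, hfe])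
  refine ⟨k * (q * c)⁻¹, ?_, ?_⟩
  · calc k * (q * c)⁻¹ * y = k * (q * c)⁻¹ * (q * (c * x * c⁻¹) * q⁻¹) := by rw [e]
      _ = y * (k * (q * c)⁻¹) := by rw [hx]; group
  · have hqc : q * c * z * (q * c)⁻¹ = z := conj_eq_iff_comm.2 (mem_cz.1 (mul_mem (S.le hq) hc'))
    calc k * (q * c)⁻¹ * z * (k * (q * c)⁻¹)⁻¹ = k * (q * c)⁻¹ * (q * c * z * (q * c)⁻¹) * (k * (q * c)⁻¹)⁻¹ := by
          rw [hqc]
      _ = k * z * k⁻¹ := by group

end Data

/-- A quotient of the centralizer of the element by the subgroup it generates. -/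
structure Quo {T : Type*} [Group T] (z : G) (Q : Subgroup G) (v : G → Vec) (ρ : G → Iso6) (y : G) (t : Fin 2 → G)
    (N : Subgroup G) (π : N →* T) : Prop extends Gens z Q v ρ y t where
  memN : ∀ n, n ∈ N ↔ n * y = y * n
  surj : Function.Surjective π
  ker : ∀ n : N, π n = 1 ↔ (n : G) ∈ zpowers y

namespace Quo

variable {t : Fin 2 → G} {T : Type*} [Group T] {N : Subgroup G} {π : N →* T} (U : Quo z Q v ρ y t N π)
include U

theorem CY_le : CY z y ≤ N := fun _ h => (U.memN _).2 (mem_cz.1 h.2)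

theorem z_N : z ∈ N := (U.memN z).2 U.toData.y_comm.symm

omit [Finite G] in
/-- The image of the involution. -/
def zb (U : Quo z Q v ρ y t N π) : T := π ⟨z, (U.memN z).2 (mem_cz.1 U.mem).symm⟩

omit [Finite G] in
/-- The image of the fixed part of the extraspecial group. -/
def qb (_U : Quo z Q v ρ y t N π) : Subgroup T := ((Q ⊓ centralizer ({y} : Set G)).subgroupOf N).map π

omit [Finite G] in
/-- The image of a side. -/
def hb (U : Quo z Q v ρ y t N π) (i : Fin 2) : Subgroup T := ((U.toGens.side i).subgroupOf N).map π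

theorem pi_eq {m n : N} (h : π m = π n) : ∃ k : ℕ, (m : G) = n * y ^ k := by
  have h1 : π (n⁻¹ * m) = 1 := by rw [map_mul, map_inv, h, inv_mul_cancel]
  obtain ⟨k, hk⟩ := (Submonoid.mem_powers_iff _ _).1 (mem_powers_iff_mem_zpowers.2 ((U.ker _).1 h1))
  exact ⟨k, by rw [hk, Subgroup.coe_mul, Subgroup.coe_inv, mul_inv_cancel_left]⟩

theorem pi_y {n : N} (k : ℕ) (h : (n : G) = y ^ k) : π n = 1 := (U.ker n).2 (h ▸ pow_mem (mem_zpowers y) k)

theorem eq_of_pi {m n : N} (h : π m = π n) (hm : (m : G) ^ 4 = 1) (hn : (n : G) ^ 4 = 1) : (m : G) = n := by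
  obtain ⟨k, e⟩ := U.pi_eq h
  have hc : Commute (n : G) (y ^ k) := (show Commute (n : G) y from (U.memN n).1 n.2).pow_right k
  rw [e, hc.mul_pow, hn, one_mul, ← pow_mul, show k * 4 = k + 3 * k by ring, pow_add, pow_mul, U.cube, one_pow,
    mul_one] at hm
  rw [e, hm, mul_one]

theorem z_four : z ^ 4 = 1 := U.setup.exp_four U.setup.core.mem

theorem zb_ord : orderOf U.zb = 2 := by
  refine orderOf_eq_prime (by rw [pow_two, zb, ← map_mul]; exact U.pi_y 0 (by simp [U.setup.zz])) fun e => ?_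
  have h := U.eq_of_pi (m := ⟨z, U.z_N⟩) (n := 1) (by rw [map_one]; exact e) U.z_four (one_pow _)
  exact U.setup.z_ne h

theorem cz_lift {τ : T} : τ ∈ centralizer ({U.zb} : Set T) ↔ ∃ n : N, (n : G) ∈ CY z y ∧ π n = τ := by
  rw [mem_cz]
  constructor
  · intro h
    obtain ⟨n, rfl⟩ := U.surj τ
    have hy : (n : G) * y = y * n := (U.memN n).1 n.2
    have hp : π (n * ⟨z, U.z_N⟩ * n⁻¹) = π ⟨z, U.z_N⟩ := by
      rw [map_mul, map_mul, map_inv]; exact mul_inv_eq_iff_eq_mul.2 h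
    have e := U.eq_of_pi hp (by
      show ((n : G) * z * (n : G)⁻¹) ^ 4 = 1
      rw [conj_pow, U.z_four]; group) U.z_four
    exact ⟨n, ⟨mem_cz.2 (conj_eq_iff_comm.1 e), mem_cz.2 hy⟩, rfl⟩
  · rintro ⟨n, hn, rfl⟩
    rw [zb, ← map_mul, ← map_mul]
    congr 1
    exact Subtype.ext (mem_cz.1 hn.1)

theorem card_cz : Nat.card (centralizer ({U.zb} : Set T)) = 1152 := by
  let f : CY z y →* centralizer ({U.zb} : Set T) :=
    MonoidHom.codRestrict (π.comp (Subgroup.inclusion U.CY_le)) _ fun c =>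
      U.cz_lift.2 ⟨Subgroup.inclusion U.CY_le c, c.2, rfl⟩
  have hs : Function.Surjective f := fun τ => by
    obtain ⟨n, hn, e⟩ := U.cz_lift.1 τ.2
    exact ⟨⟨n, hn⟩, Subtype.ext e⟩
  have hk : Nat.card f.ker = 3 := by
    rw [← U.toData.y_ord, ← Nat.card_zpowers]
    refine Nat.card_congr
      { toFun := fun c => ⟨c.1.1, (U.ker _).1 (congrArg Subtype.val (MonoidHom.mem_ker.1 c.2) :)⟩
        invFun := fun c => ⟨⟨c.1, zpowers_le.2 (show y ∈ CY z y from ⟨U.mem, mem_cz.2 rfl⟩) c.2⟩,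
          MonoidHom.mem_ker.2 (Subtype.ext ((U.ker _).2 c.2))⟩
        left_inv := fun c => rfl
        right_inv := fun c => rfl }
  have e := f.ker.card_mul_index
  rw [Subgroup.index_ker, MonoidHom.range_eq_top.2 hs, Subgroup.card_top, hk, U.toData.card_CY] at e
  omega

theorem hb_mem {i : Fin 2} {τ : T} : τ ∈ U.hb i ↔ ∃ n : N, (n : G) ∈ U.toGens.side i ∧ π n = τ :=
  Subgroup.mem_map

theorem hb_le (i : Fin 2) : U.hb i ≤ centralizer ({U.zb} : Set T) := by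
  intro τ hτ
  obtain ⟨n, hn, rfl⟩ := U.hb_mem.1 hτ
  exact U.cz_lift.2 ⟨n, U.toGens.side_CY i hn, rfl⟩

theorem hb_inj (i : Fin 2) (a : N) (ha : (a : G) ∈ U.toGens.side i) (h : π a = 1) : (a : G) = 1 := by
  obtain ⟨j, hij⟩ : ∃ j, i ≠ j := ⟨i + 1, by clear ha h; revert i; decide⟩
  obtain ⟨k, hk⟩ := U.pi_eq (n := 1) (h.trans (map_one π).symm)
  rcases U.toGens.side_inter hij ha (one_mem _) hk with e | e
  · exact e
  · exfalso
    rw [e, Subgroup.coe_one, one_mul] at hk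
    have : (⟨z, U.z_N⟩ : N) ∈ π.ker := U.pi_y k hk
    have hz := U.eq_of_pi (m := ⟨z, U.z_N⟩) (n := 1) ((MonoidHom.mem_ker.1 this).trans (map_one π).symm) U.z_four
      (one_pow _)
    exact U.setup.z_ne hz

theorem hb_iso (i : Fin 2) : Nonempty (U.hb i ≃* CfsgLib.Spor.UFourType.Sl) := by
  obtain ⟨e⟩ := U.toGens.side_sl i
  have hle : U.toGens.side i ≤ N := (U.toGens.side_CY i).trans U.CY_le
  let f : U.toGens.side i →* U.hb i :=
    MonoidHom.codRestrict (π.comp (Subgroup.inclusion hle)) _ fun c => U.hb_mem.2 ⟨_, c.2, rfl⟩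
  have hf : Function.Bijective f := by
    refine ⟨(injective_iff_map_eq_one f).2 fun c hc => Subtype.ext (U.hb_inj i _ c.2 (congrArg Subtype.val hc :)),
      fun τ => ?_⟩
    obtain ⟨n, hn, e'⟩ := U.hb_mem.1 τ.2
    exact ⟨⟨n, hn⟩, Subtype.ext e'⟩
  exact ⟨(MulEquiv.ofBijective f hf).symm.trans e⟩

theorem sup_eq {τ : T} : τ ∈ U.hb 0 ⊔ U.hb 1 ↔ ∃ n : N, (n : G) ∈ CY z y ∧ ρ n ∈ rot3 ∧ π n = τ := by
  constructor
  · intro h
    have hle : U.hb 0 ⊔ U.hb 1 ≤ ((U.setup.pre rot3 ⊓ centralizer ({y} : Set G)).subgroupOf N).map π := by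
      refine sup_le ?_ ?_ <;> rintro _ ⟨n, hn, rfl⟩ <;>
        exact ⟨n, ⟨⟨(U.toGens.side_CY _ hn).1, U.toGens.side_rot3 hn⟩, (U.toGens.side_CY _ hn).2⟩, rfl⟩
    obtain ⟨n, hn, e⟩ := hle h
    exact ⟨n, ⟨hn.1.1, hn.2⟩, hn.1.2, e⟩
  · rintro ⟨n, hn, hρ, rfl⟩
    obtain ⟨a, ha, b, hb, k, e⟩ := U.toGens.rot_split hn hρ
    have haN : a ∈ N := U.CY_le (U.toGens.side_CY 0 ha)
    have hbN : b ∈ N := U.CY_le (U.toGens.side_CY 1 hb)
    have hyN : y ^ k ∈ N := pow_mem ((U.memN y).2 rfl) k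
    rw [show n = ⟨a, haN⟩ * ⟨b, hbN⟩ * ⟨y ^ k, hyN⟩ from Subtype.ext e, map_mul, U.pi_y (n := ⟨y ^ k, hyN⟩) k rfl,
      mul_one, map_mul]
    exact mul_mem (mem_sup_left (U.hb_mem.2 ⟨_, ha, rfl⟩)) (mem_sup_right (U.hb_mem.2 ⟨_, hb, rfl⟩))

theorem qb_mem {τ : T} : τ ∈ U.qb ↔ ∃ n : N, (n : G) ∈ Q ∧ (n : G) * y = y * n ∧ π n = τ := by
  constructor
  · rintro ⟨n, hn, rfl⟩
    exact ⟨n, hn.1, mem_cz.1 hn.2, rfl⟩
  · rintro ⟨n, h1, h2, rfl⟩
    exact ⟨n, ⟨h1, mem_cz.2 h2⟩, rfl⟩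

/-- The hypotheses hold in the quotient. -/
theorem hyp (hnwc : ∃ g : G, g * z * g⁻¹ ∈ Q ∧ g * z * g⁻¹ ≠ z) :
    CfsgLib.Spor.UFourType.Hyp U.zb U.qb (U.hb 0) (U.hb 1) := by
  have S := U.setup
  refine ⟨U.zb_ord, U.hb_le 0, U.hb_le 1, U.hb_iso 0, U.hb_iso 1, ?_, ?_, ?_, ?_, ?_, ?_, U.card_cz, ?_, ?_⟩
  · intro a ha b hb
    obtain ⟨m, hm, rfl⟩ := U.hb_mem.1 ha
    obtain ⟨n, hn, rfl⟩ := U.hb_mem.1 hb
    rw [← map_mul, ← map_mul]
    congr 1
    exact Subtype.ext (U.toGens.side_comm (by decide) hm hn)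
  · refine le_antisymm ?_ (zpowers_le.2 ⟨U.hb_mem.2 ⟨_, U.toGens.quat_side (U.toGens.z_quat 0), rfl⟩,
      U.hb_mem.2 ⟨_, U.toGens.quat_side (U.toGens.z_quat 1), rfl⟩⟩)
    rintro τ ⟨h0, h1⟩
    obtain ⟨m, hm, rfl⟩ := U.hb_mem.1 h0
    obtain ⟨n, hn, e⟩ := U.hb_mem.1 h1
    obtain ⟨k, hk⟩ := U.pi_eq e.symm
    rcases U.toGens.side_inter (by decide) hm hn hk with h | h
    · rw [show m = 1 from Subtype.ext h, map_one]; exact one_mem _
    · rw [show m = (⟨z, U.z_N⟩ : N) from Subtype.ext h]; exact mem_zpowers _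
  · intro τ hτ ho
    obtain ⟨n, hn, rfl⟩ := U.cz_lift.1 hτ
    refine U.sup_eq.2 ⟨n, hn, odd_rot3 (U.toData.rho_cent hn) ?_, rfl⟩
    have h1 : π (n ^ orderOf (π n)) = 1 := by rw [map_pow, pow_orderOf_eq_one]
    obtain ⟨k, hk⟩ := (Submonoid.mem_powers_iff _ _).1 (mem_powers_iff_mem_zpowers.2 ((U.ker _).1 h1))
    have h2 : (n : G) ^ (3 * orderOf (π n)) = 1 := by
      rw [mul_comm, pow_mul, show (n : G) ^ orderOf (π n) = y ^ k from hk.symm, ← pow_mul, mul_comm k, pow_mul, U.cube,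
        one_pow]
    have h3 : orderOf (ρ (n : G)) ∣ 3 * orderOf (π n) :=
      orderOf_dvd_of_pow_eq_one (by rw [← S.ρ_pow hn.1, h2, S.ρ_one])
    exact (Odd.mul (by decide) ho).of_dvd_nat h3
  · intro τ hτ σ' hσ
    obtain ⟨n, hn, rfl⟩ := U.cz_lift.1 hτ
    obtain ⟨m, hm, hρ, rfl⟩ := U.sup_eq.1 hσ
    refine U.sup_eq.2 ⟨n * m * n⁻¹, mul_mem (mul_mem hn hm) (inv_mem hn), ?_, by simp⟩
    rw [show ((n * m * n⁻¹ : N) : G) = (n : G) * m * (n : G)⁻¹ from rfl, S.ρ_mul _ (mul_mem hn.1 hm.1) _ (inv_mem hn.1),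
      S.ρ_mul _ hn.1 _ hm.1, S.ρ_inv hn.1]
    exact rot3_normal (U.toData.rho_cent hn) hρ
  · intro τ
    constructor
    · intro hτ
      obtain ⟨n, hn, hy, rfl⟩ := U.qb_mem.1 hτ
      refine ⟨U.sup_eq.2 ⟨n, ⟨S.le hn, mem_cz.2 hy⟩, by rw [S.ρ_of_mem hn]; exact one_mem _, rfl⟩, ?_⟩
      rw [← map_pow]
      exact U.pi_y 0 (by rw [pow_zero]; exact S.exp_four hn)
    · rintro ⟨hτ, h4⟩
      obtain ⟨n, hn, hρ, rfl⟩ := U.sup_eq.1 hτ
      rw [← map_pow] at h4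
      obtain ⟨k, hk⟩ := (Submonoid.mem_powers_iff _ _).1 (mem_powers_iff_mem_zpowers.2 ((U.ker _).1 h4))
      have hρk : ρ (n : G) = g0 ^ k := by
        obtain ⟨a, b, c, e⟩ := hρ
        calc ρ (n : G) = ρ (n : G) ^ 4 := by rw [e, pow_succ _ 3, el3_cube, one_mul]
          _ = g0 ^ k := by
            rw [← S.ρ_pow hn.1, show (n : G) ^ 4 = y ^ k from hk.symm, S.ρ_pow U.mem, U.img]
      have hyN : y ^ k ∈ N := pow_mem ((U.memN y).2 rfl) k
      have hyC : y ^ k ∈ CY z y := pow_mem (show y ∈ CY z y from ⟨U.mem, mem_cz.2 rfl⟩) k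
      refine U.qb_mem.2 ⟨n * ⟨y ^ k, hyN⟩⁻¹, (S.ρ_ker _ (mul_mem hn.1 (inv_mem hyC.1))).1 ?_,
        mem_cz.1 (mul_mem hn (inv_mem hyC)).2, by rw [map_mul, map_inv, U.pi_y (n := ⟨y ^ k, hyN⟩) k rfl, inv_one, mul_one]⟩
      rw [S.ρ_mul _ hn.1 _ (inv_mem hyC.1), S.ρ_inv hyC.1, S.ρ_pow U.mem, U.img, hρk, mul_inv_cancel]
  · intro τ hτ hcomm
    obtain ⟨n, hn, rfl⟩ := U.cz_lift.1 hτ
    have hfix : ∀ x, plf x vA = 0 → plf x vB = 0 → act (ρ (n : G)) x = x := by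
      intro x h1 h2
      obtain ⟨a, ha, rfl⟩ := S.v_surj x
      have hay := mem_cz.1 ((U.toData.fixed_iff ha).2 ⟨h1, h2⟩)
      have haN : a ∈ N := (U.memN a).2 hay
      have hp : π (n * ⟨a, haN⟩ * n⁻¹) = π ⟨a, haN⟩ := by
        rw [map_mul, map_mul, map_inv]
        exact mul_inv_eq_iff_eq_mul.2 (hcomm _ (U.qb_mem.2 ⟨_, ha, hay, rfl⟩))
      have e := U.eq_of_pi hp (by
        show ((n : G) * a * (n : G)⁻¹) ^ 4 = 1
        rw [conj_pow, S.exp_four ha]; group) (S.exp_four ha)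
      rw [← S.ρ_act _ hn.1 a ha, show (n : G) * a * (n : G)⁻¹ = a from e]
    obtain ⟨k, hk⟩ := cent0_fix_perp (U.toData.rho_cent hn) hfix
    have hyN : y ^ k ∈ N := pow_mem ((U.memN y).2 rfl) k
    have hyC : y ^ k ∈ CY z y := pow_mem (show y ∈ CY z y from ⟨U.mem, mem_cz.2 rfl⟩) k
    refine U.qb_mem.2 ⟨n * ⟨y ^ k, hyN⟩⁻¹, (S.ρ_ker _ (mul_mem hn.1 (inv_mem hyC.1))).1 ?_,
      mem_cz.1 (mul_mem hn (inv_mem hyC)).2, by rw [map_mul, map_inv, U.pi_y (n := ⟨y ^ k, hyN⟩) k rfl, inv_one, mul_one]⟩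
    rw [S.ρ_mul _ hn.1 _ (inv_mem hyC.1), S.ρ_inv hyC.1, S.ρ_pow U.mem, U.img, hk, mul_inv_cancel]
  · obtain ⟨a, ha, hva⟩ := S.v_surj w0
    have hay : a * y = y * a := mem_cz.1 ((U.toData.fixed_iff ha).2 (by rw [hva]; exact sing_vec))
    have ha2 := (S.v_sq a ha).1 (by rw [hva, qf_w0])
    obtain ⟨m, hm, hma⟩ := U.toData.exists_move hnwc ha hay ha2 (by rw [hva]; exact w0_ne)
    have hmN : m ∈ N := (U.memN m).2 hm
    have haN : a ∈ N := (U.memN a).2 hay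
    refine ⟨π ⟨m, hmN⟩, ?_, ?_⟩
    · rw [zb, ← map_inv, ← map_mul, ← map_mul]
      exact U.qb_mem.2 ⟨_, by rw [show ((⟨m, hmN⟩ * ⟨z, U.z_N⟩ * ⟨m, hmN⟩⁻¹ : N) : G) = a from hma]; exact ha,
        by rw [show ((⟨m, hmN⟩ * ⟨z, U.z_N⟩ * ⟨m, hmN⟩⁻¹ : N) : G) = a from hma]; exact hay, rfl⟩
    · intro e
      rw [zb, ← map_inv, ← map_mul, ← map_mul] at e
      have h := U.eq_of_pi e (by
        show (m * z * m⁻¹) ^ 4 = 1
        rw [hma, S.exp_four ha]) U.z_four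
      replace h : a = z := hma.symm.trans h
      exact w0_ne (by rw [← hva, h, S.v_z])
  · intro g hgQ hgne
    obtain ⟨n, rfl⟩ := U.surj g
    set zn : N := ⟨z, U.z_N⟩ with hzn
    rw [show π n * U.zb * (π n)⁻¹ = π (n * zn * n⁻¹) by rw [map_mul, map_mul, map_inv]; rfl] at hgQ hgne
    obtain ⟨q, hq, hqy, e⟩ := U.qb_mem.1 hgQ
    have hn4 : ((n * zn * n⁻¹ : N) : G) ^ 4 = 1 := by
      show ((n : G) * z * (n : G)⁻¹) ^ 4 = 1
      rw [conj_pow, U.z_four]; group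
    have hqn : (q : G) = (n : G) * z * (n : G)⁻¹ := U.eq_of_pi e (S.exp_four hq) hn4
    have haQ : (n : G) * z * (n : G)⁻¹ ∈ Q := hqn ▸ hq
    have hane : (n : G) * z * (n : G)⁻¹ ≠ z := fun h => hgne (by rw [show n * zn * n⁻¹ = zn from Subtype.ext h]; rfl)
    obtain ⟨a, haN⟩ : ∃ a : N, a = n * zn * n⁻¹ := ⟨_, rfl⟩
    have haG : (a : G) = (n : G) * z * (n : G)⁻¹ := by rw [haN]; rfl
    let f : Fin 4 → T := ![1, U.zb, π a, U.zb * π a]
    have hfour : ((U.qb ⊓ U.qb.map (MulAut.conj (π n)).toMonoidHom : Subgroup T) : Set T) = Set.range f := by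
      ext τ
      constructor
      · rintro ⟨h1, σ₁, h2, rfl⟩
        obtain ⟨x, hx, hxy, e1⟩ := U.qb_mem.1 h1
        obtain ⟨w, hw, hwy, rfl⟩ := U.qb_mem.1 h2
        have e2 : π x = π (n * w * n⁻¹) := e1.trans (by rw [map_mul, map_mul, map_inv]; rfl)
        have e3 := U.eq_of_pi e2 (S.exp_four hx) (by
          show ((n : G) * w * (n : G)⁻¹) ^ 4 = 1
          rw [conj_pow, S.exp_four hw]; group)
        rw [← e1]
        rcases S.inter_four haQ hane hx ⟨w, hw, e3.symm⟩ with h | h | h | h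
        · exact ⟨0, by rw [show x = 1 from Subtype.ext h, map_one]; rfl⟩
        · exact ⟨1, by rw [show x = zn from Subtype.ext h]; rfl⟩
        · exact ⟨2, by rw [show x = a from Subtype.ext (h.trans haG.symm)]; rfl⟩
        · exact ⟨3, by
            rw [show x = zn * a from Subtype.ext (h.trans (by rw [Subgroup.coe_mul, haG])), map_mul]; rfl⟩
      · have hz1 : U.zb ∈ U.qb := U.qb_mem.2 ⟨zn, S.core.mem, U.toData.y_comm.symm, rfl⟩
        have ha1 : π a ∈ U.qb := U.qb_mem.2 ⟨a, haG ▸ haQ, (U.memN _).1 a.2, rfl⟩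
        have ha2 : π a ∈ U.qb.map (MulAut.conj (π n)).toMonoidHom := ⟨U.zb, hz1, by rw [haN, map_mul, map_mul, map_inv]; rfl⟩
        have hz2 : U.zb ∈ U.qb.map (MulAut.conj (π n)).toMonoidHom := by
          obtain ⟨w, hw, ew⟩ := mutual_mem S haQ hane
          replace ew : (n : G) * w * (n : G)⁻¹ = z := ew
          have hwy : w * y = y * w := by
            have hwC : w ∈ N := by
              rw [show w = (n : G)⁻¹ * z * n by rw [← ew]; group]
              exact mul_mem (mul_mem (inv_mem n.2) U.z_N) n.2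
            exact (U.memN w).1 hwC
          exact ⟨π ⟨w, (U.memN w).2 hwy⟩, U.qb_mem.2 ⟨_, hw, hwy, rfl⟩, by
            show π n * π _ * (π n)⁻¹ = _
            rw [← map_inv, ← map_mul, ← map_mul, zb]
            congr 1
            exact Subtype.ext ew⟩
        rintro ⟨i, rfl⟩
        fin_cases i
        · exact ⟨one_mem _, one_mem _⟩
        · exact ⟨hz1, hz2⟩
        · exact ⟨ha1, ha2⟩
        · exact ⟨mul_mem hz1 ha1, mul_mem hz2 ha2⟩
    have hz1 : U.zb ≠ 1 := fun h => by have := U.zb_ord; rw [h, orderOf_one] at this; norm_num at this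
    have hza : π a ≠ U.zb := by rw [haN]; exact hgne
    have ha1 : π a ≠ 1 := by
      rw [haN, map_mul, map_mul, map_inv]
      intro h
      exact hz1 (conj_eq_one_iff.1 h)
    have hzz : U.zb * U.zb = 1 := by rw [← pow_two, ← U.zb_ord, pow_orderOf_eq_one]
    have hza1 : U.zb * π a ≠ 1 := fun h => hza ((eq_inv_of_mul_eq_one_right h).trans (inv_eq_of_mul_eq_one_right hzz))
    have hf : Function.Injective f := by
      intro i j h
      fin_cases i <;> fin_cases j <;> simp [f] at h ⊢ <;>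
        first
        | exact hz1 h | exact hz1 h.symm | exact ha1 h | exact ha1 h.symm | exact hza1 h | exact hza1 h.symm
        | exact hza h | exact hza h.symm
    show Nat.card ((U.qb ⊓ U.qb.map (MulAut.conj (π n)).toMonoidHom : Subgroup T) : Set T) = 4
    rw [hfour, Nat.card_range_of_injective hf, Nat.card_fin]

end Quo

end

end CfsgLib.Spor.SuzType.YCent
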