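import Cfsg.Agent.Lib.Spor.SuzType.YCent.Main
import Cfsg.Agent.Lib.Spor.SuzType.YCent.ModelB

/-!
# The elementary abelian group of order 243 and the conjugates of the element in it
-/

set_option autoImplicit false
set_option synthInstance.maxSize 4096

namespace CfsgLib.Spor.SuzType.YCent

open Subgroup CfsgLib.Spor.CoOneType
open CfsgLib.Spor.UFourType (Model aC)

noncomputable section

/-- The action of a product of the rotations, as a function. -/
def el3f (a b c : ℕ) (x : Vec) : Vec :=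
  (rot vA vB)^[a] ((rot (vD 0) (vE 0))^[b] ((rot (vD 1) (vE 1))^[c] x))

theorem act_pow_fun {g : Iso6} {f : Vec → Vec} (h : ∀ x, act g x = f x) : ∀ (n : ℕ) (x : Vec), act (g ^ n) x = f^[n] x
  | 0, x => by rw [pow_zero, act_one]; rfl
  | n + 1, x => by rw [pow_succ, act_mul, act_pow_fun h n, h, Function.iterate_succ_apply]

theorem act_el3 (a b c : ℕ) (x : Vec) : act (el3 a b c) x = el3f a b c x := by
  rw [el3, act_mul, act_mul, act_pow_fun act_g0, act_pow_fun (act_pr3 0), act_pow_fun (act_pr3 1)]; rfl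

theorem single_support : ∀ a b c : Fin 3, ((a : ℕ) = 0 ∧ (b : ℕ) = 0) ∨ ((a : ℕ) = 0 ∧ (c : ℕ) = 0) ∨
    ((b : ℕ) = 0 ∧ (c : ℕ) = 0) ∨ ∃ x x' : Vec, el3f a b c x + x ≠ 0 ∧ el3f a b c x' + x' ≠ 0 ∧
      el3f a b c x + x ≠ el3f a b c x' + x' ∧ plf (el3f a b c x + x) (el3f a b c x' + x') = 0 := by
  decide +kernel

theorem rot_image_mem (d e x : Vec) :
    rot d e x + x = 0 ∨ rot d e x + x = d ∨ rot d e x + x = e ∨ rot d e x + x = d + e := by
  have h : rot d e x + x = (plf x d + plf x e) • d + plf x e • e := by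
    rw [rot, add_comm, ← add_assoc, ← add_assoc, vec_add_self, zero_add]
  rw [h]
  rcases two_cases (plf x e) with h2 | h2 <;> rcases two_cases (plf x d + plf x e) with h1 | h1 <;>
    rw [h1, h2] <;> simp

theorem aniso_pairs : ∀ d e : Vec, Aniso d e → plf d e = 1 ∧ plf e d = 1 ∧ plf d (d + e) = 1 ∧ plf (d + e) d = 1 ∧
    plf e (d + e) = 1 ∧ plf (d + e) e = 1 := by
  intro d e h
  have hs : ∀ u : Vec, plf u u = 0 := by decide +kernel
  have hc : plf e d = 1 := by rw [plf_eq, pl_comm, ← plf_eq]; exact h.2.2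
  refine ⟨h.2.2, hc, ?_, ?_, ?_, ?_⟩ <;>
    simp only [plf_eq, pl_add_right, pl_add_left] <;> simp only [← plf_eq, h.2.2, hc, hs, add_zero, zero_add]

theorem plane_pl {d e x x' : Vec} (h : Aniso d e) (h1 : rot d e x + x ≠ 0) (h2 : rot d e x' + x' ≠ 0)
    (h3 : rot d e x + x ≠ rot d e x' + x') : plf (rot d e x + x) (rot d e x' + x') = 1 := by
  obtain ⟨p1, p2, p3, p4, p5, p6⟩ := aniso_pairs d e h
  have i := rot_image_mem d e x
  have j := rot_image_mem d e x'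
  revert h1 h2 h3 i j
  generalize rot d e x + x = u
  generalize rot d e x' + x' = w
  intro h1 h2 h3 i j
  rcases i with rfl | rfl | rfl | rfl <;> rcases j with rfl | rfl | rfl | rfl <;>
    first | exact absurd rfl h1 | exact absurd rfl h2 | exact absurd rfl h3 | assumption

/-- A conjugate of the reference rotation in the group of rotations turns one plane. -/
theorem support_of_conj {a b c : ℕ} (ha : a < 3) (hb : b < 3) (hc : c < 3) {h : Iso6}
    (e : h * g0 * h⁻¹ = el3 a b c) : (a = 0 ∧ b = 0) ∨ (a = 0 ∧ c = 0) ∨ (b = 0 ∧ c = 0) := by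
  rcases single_support ⟨a, ha⟩ ⟨b, hb⟩ ⟨c, hc⟩ with h' | h' | h' | ⟨x, x', h1, h2, h3, h4⟩
  · exact Or.inl h'
  · exact Or.inr (Or.inl h')
  · exact Or.inr (Or.inr h')
  exfalso
  have hx : ∀ x, el3f a b c x = rot (act h vA) (act h vB) x := fun x => by
    rw [← act_el3, ← e, rot_conj act_g0]
  rw [hx x] at h1 h3 h4
  rw [hx x'] at h2 h3 h4
  exact absurd h4 (by rw [plane_pl (aniso_act h ref_aniso) h1 h2 h3]; exact one_ne_zero)

theorem rot3_comm {r s : Iso6} (hr : r ∈ rot3) (hs : s ∈ rot3) : r * s = s * r := by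
  obtain ⟨a, b, c, rfl⟩ := hr
  obtain ⟨a', b', c', rfl⟩ := hs
  rw [el3_mul, el3_mul, add_comm a, add_comm b, add_comm c]

theorem rot3_cube {r : Iso6} (hr : r ∈ rot3) : r ^ 3 = 1 := by
  obtain ⟨a, b, c, rfl⟩ := hr
  exact el3_cube a b c

variable {G : Type*} [Group G] [Finite G] {z : G} {Q : Subgroup G} {v : G → Vec} {ρ : G → Iso6} {y : G}
  {t : Fin 2 → G} {T : Type*} [Group T] {N : Subgroup G} {π : N →* T}

namespace Data

variable (D : Data z Q v ρ y)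
include D

/-- Three-subgroups commuting with the involution and the element are elementary abelian. -/
theorem three_cz {R : Subgroup G} (hR : R ≤ CY z y) (hp : IsPGroup 3 R) :
    (∀ x ∈ R, ρ x ∈ rot3 ∧ (ρ x = 1 → x = 1) ∧ x ^ 3 = 1) ∧ ∀ x ∈ R, ∀ x' ∈ R, x * x' = x' * x := by
  haveI : Fact (Nat.Prime 3) := ⟨Nat.prime_three⟩
  have S := D.setup
  have hone : ∀ x ∈ R, ρ x = 1 → x = 1 := by
    intro x hx h
    obtain ⟨n, hn⟩ := hp ⟨x, hx⟩
    have h4 := S.exp_four ((S.ρ_ker x (hR hx).1).1 h)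
    have hd := Nat.dvd_gcd (orderOf_dvd_of_pow_eq_one (show x ^ 3 ^ n = 1 from congrArg Subtype.val hn))
      (orderOf_dvd_of_pow_eq_one h4)
    rw [Nat.Coprime.gcd_eq_one (Nat.Coprime.pow_left n (by norm_num))] at hd
    exact orderOf_eq_one_iff.1 (Nat.dvd_one.1 hd)
  have hrot : ∀ x ∈ R, ρ x ∈ rot3 := by
    intro x hx
    obtain ⟨n, hn⟩ := hp ⟨x, hx⟩
    refine odd_rot3 (D.rho_cent (hR hx)) ((show Odd (3 ^ n) from Odd.pow (by decide)).of_dvd_nat
      (orderOf_dvd_of_pow_eq_one ?_))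
    rw [← S.ρ_pow (hR hx).1, show x ^ 3 ^ n = 1 from congrArg Subtype.val hn, S.ρ_one]
  refine ⟨fun x hx => ⟨hrot x hx, hone x hx, hone _ (pow_mem hx 3) (by rw [S.ρ_pow (hR hx).1, rot3_cube (hrot x hx)])⟩,
    fun x hx x' hx' => ?_⟩
  refine mul_inv_eq_iff_eq_mul.1 (mul_inv_eq_one.1 (hone (x * x' * x⁻¹ * x'⁻¹)
    (mul_mem (mul_mem (mul_mem hx hx') (inv_mem hx)) (inv_mem hx')) ?_))
  have hC := fun {w : G} (hw : w ∈ R) => (hR hw).1
  rw [S.ρ_mul _ (mul_mem (mul_mem (hC hx) (hC hx')) (inv_mem (hC hx))) _ (inv_mem (hC hx')),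
    S.ρ_mul _ (mul_mem (hC hx) (hC hx')) _ (inv_mem (hC hx)), S.ρ_mul _ (hC hx) _ (hC hx'), S.ρ_inv (hC hx),
    S.ρ_inv (hC hx'), rot3_comm (hrot x hx) (hrot x' hx'), mul_inv_cancel_right, mul_inv_cancel]

theorem isConj_sq : IsConj y (y * y) := by
  obtain ⟨m, hm⟩ := D.exists_inverter
  exact isConj_iff.2 ⟨m, hm⟩

/-- An element of order three whose image is conjugate to the reference rotation is conjugate to the element. -/
theorem isConj_of_img {x : G} (hx : x ∈ centralizer ({z} : Set G)) (hx3 : x ^ 3 = 1) {h : Iso6} (hh : h ∈ Om)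
    (e : h * g0 * h⁻¹ = ρ x) : IsConj y x := by
  have S := D.setup
  obtain ⟨c, hc, rfl⟩ := S.ρ_surj h hh
  obtain ⟨q, hq, -, e'⟩ := S.conj_of_rho_eq ⊤ (x := c * y * c⁻¹) (x' := x) (mul_mem (mul_mem hc D.mem) (inv_mem hc)) hx
    (mem_top _) (mem_top _) (by rw [conj_pow, D.cube]; group) hx3
    (by rw [S.ρ_mul _ (mul_mem hc D.mem) _ (inv_mem hc), S.ρ_mul _ hc _ D.mem, S.ρ_inv hc, D.img, e])
  exact isConj_iff.2 ⟨q * c, by rw [← e']; group⟩

end Data

namespace Quo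

variable (U : Quo z Q v ρ y t N π) {ψ : ℕ → T} [Finite T] (M : Model U.zb U.qb ψ)

omit [Finite G] in
/-- The preimage of the elementary group of order 81. -/
def a0 (U : Quo z Q v ρ y t N π) (M : Model U.zb U.qb ψ) : Subgroup G := (M.grpA.comap π).map N.subtype

include U M

theorem mem_a0 {g : G} : g ∈ U.a0 M ↔ ∃ h : g ∈ N, π ⟨g, h⟩ ∈ M.grpA := by
  constructor
  · rintro ⟨n, hn, rfl⟩
    exact ⟨n.2, hn⟩
  · rintro ⟨h, hg⟩
    exact ⟨⟨g, h⟩, hg, rfl⟩

theorem a0_le : U.a0 M ≤ N := map_subtype_le _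

theorem y_N : y ∈ N := (U.memN y).2 rfl

omit M [Finite T] in
theorem ker_eq {n : N} (h : π n = 1) : ∃ k : ℕ, (n : G) = y ^ k := by
  obtain ⟨k, hk⟩ := (Submonoid.mem_powers_iff _ _).1 (mem_powers_iff_mem_zpowers.2 ((U.ker n).1 h))
  exact ⟨k, hk.symm⟩

theorem y_a0 : y ∈ U.a0 M :=
  (U.mem_a0 M).2 ⟨(U.memN y).2 rfl, by rw [U.pi_y 1 (pow_one y).symm]; exact one_mem _⟩

theorem y_central {g : G} (hg : g ∈ U.a0 M) : g * y = y * g := (U.memN g).1 (U.a0_le M hg)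

theorem card_a0 : Nat.card (U.a0 M) = 243 := by
  rw [a0, card_map_of_injective N.subtype_injective]
  let f : M.grpA.comap π →* M.grpA :=
    MonoidHom.codRestrict (π.comp (M.grpA.comap π).subtype) _ fun n => n.2
  have hs : Function.Surjective f := fun a => by
    obtain ⟨n, hn⟩ := U.surj (a : T)
    exact ⟨⟨n, Subgroup.mem_comap.2 (hn ▸ a.2)⟩, Subtype.ext hn⟩
  have hk : Nat.card f.ker = 3 := by
    rw [← U.toData.y_ord, ← Nat.card_zpowers]
    refine Nat.card_congr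
      { toFun := fun c => ⟨c.1.1.1, (U.ker _).1 (congrArg Subtype.val (MonoidHom.mem_ker.1 c.2) :)⟩
        invFun := fun c => ⟨⟨⟨c.1, zpowers_le.2 ((U.memN y).2 rfl) c.2⟩,
          Subgroup.mem_comap.2 (by rw [(U.ker _).2 c.2]; exact one_mem _)⟩,
          MonoidHom.mem_ker.2 (Subtype.ext ((U.ker _).2 c.2))⟩
        left_inv := fun c => rfl
        right_inv := fun c => rfl }
  have e := f.ker.card_mul_index
  rw [Subgroup.index_ker, MonoidHom.range_eq_top.2 hs, Subgroup.card_top, hk, M.card_grpA] at e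
  omega

theorem a0_pgroup : IsPGroup 3 (U.a0 M) := IsPGroup.of_card (n := 5) (U.card_a0 M)

omit M [Finite T] in
/-- An element fixed by the involution modulo the subgroup of order three is fixed. -/
theorem fixed_lift {e : N} (h : U.zb * π e = π e * U.zb) : (e : G) * z = z * e := by
  have hzy := U.toData.y_comm
  have h1 : π (⟨z, U.z_N⟩ * e * ⟨z, U.z_N⟩⁻¹) = π e := by
    rw [map_mul, map_mul, map_inv]; exact mul_inv_eq_iff_eq_mul.2 h
  obtain ⟨k, hk⟩ := U.pi_eq h1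
  replace hk : z * (e : G) * z = e * y ^ k := by
    have hh : z * (e : G) * z⁻¹ = e * y ^ k := hk
    rwa [U.setup.z_inv] at hh
  have hzk : z * y ^ k = y ^ k * z := ((show Commute z y from hzy.symm).pow_right k).eq
  have h2 : (e : G) = e * (y ^ k * y ^ k) := by
    calc (e : G) = z * z * e * (z * z) := by rw [U.setup.zz, one_mul, mul_one]
      _ = z * (z * e * z) * z := by group
      _ = z * e * (y ^ k * z) := by rw [hk]; group
      _ = z * e * z * y ^ k := by rw [← hzk]; group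
      _ = _ := by rw [hk, mul_assoc]
  have h3 : y ^ (2 * k) = 1 := by rw [two_mul, pow_add]; exact (mul_eq_left.1 h2.symm)
  have h4 : y ^ k = 1 := by
    calc y ^ k = y ^ k * y ^ (2 * k) := by rw [h3, mul_one]
      _ = (y ^ 3) ^ k := by rw [← pow_add, ← pow_mul]; congr 1; ring
      _ = 1 := by rw [U.cube, one_pow]
  rw [h4, mul_one] at hk
  calc (e : G) * z = z * e * z * z := by rw [hk]
    _ = z * e := by rw [mul_assoc (z * (e : G)), U.setup.zz, mul_one]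

theorem fixed_abelian : (∀ x ∈ U.a0 M ⊓ centralizer ({z} : Set G), ρ x ∈ rot3 ∧ (ρ x = 1 → x = 1) ∧ x ^ 3 = 1) ∧
    ∀ x ∈ U.a0 M ⊓ centralizer ({z} : Set G), ∀ x' ∈ U.a0 M ⊓ centralizer ({z} : Set G), x * x' = x' * x :=
  U.toData.three_cz (fun x hx => ⟨hx.2, mem_cz.2 ((U.memN x).1 (U.a0_le M hx.1))⟩)
    ((U.a0_pgroup M).to_le inf_le_left)

/-- Fixed elements are central. -/
theorem fixed_central {x a : G} (hx : x ∈ U.a0 M ⊓ centralizer ({z} : Set G)) (ha : a ∈ U.a0 M) :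
    x * a = a * x := by
  obtain ⟨haN, haA⟩ := (U.mem_a0 M).1 ha
  obtain ⟨hxN, hxA⟩ := (U.mem_a0 M).1 hx.1
  obtain ⟨p, hp, d, hd, e, hdz⟩ := M.split_A haA
  obtain ⟨p', rfl⟩ := U.surj p
  obtain ⟨d', rfl⟩ := U.surj d
  have hpa : (p' : G) ∈ U.a0 M := (U.mem_a0 M).2 ⟨p'.2, M.grpP_le_grpA hp⟩
  have hpz : (p' : G) ∈ U.a0 M ⊓ centralizer ({z} : Set G) :=
    ⟨hpa, mem_cz.2 (U.fixed_lift (mem_cz.1 (M.grpP_le_C hp)).symm)⟩
  obtain ⟨k, hk⟩ : ∃ k : ℕ, z * (d' : G) * z = (d' : G)⁻¹ * y ^ k := by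
    obtain ⟨k, hk⟩ := U.pi_eq (m := ⟨z, U.z_N⟩ * d' * ⟨z, U.z_N⟩) (n := d'⁻¹) (by rw [map_mul, map_mul, map_inv]; exact hdz)
    exact ⟨k, hk⟩
  set d'' := (d' : G) * y ^ k with hd''
  have hdy : Commute (d' : G) y := (U.memN _).1 d'.2
  have hzy : Commute z y := U.toData.y_comm.symm
  have hinv : z * d'' * z = d''⁻¹ := by
    have hy2 : y ^ k * y ^ k = (y ^ k)⁻¹ := eq_inv_of_mul_eq_one_left (by
      rw [← pow_add, ← pow_add, show k + k + k = 3 * k by ring, pow_mul, U.cube, one_pow])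
    calc z * d'' * z = z * d' * (y ^ k * z) := by rw [hd'']; group
      _ = z * d' * z * y ^ k := by rw [← (hzy.pow_right k).eq]; group
      _ = (d' : G)⁻¹ * (y ^ k)⁻¹ := by rw [hk, mul_assoc, hy2]
      _ = _ := by rw [hd'', ← mul_inv_rev, (hdy.pow_right k).eq]
  set c := x * d'' * x⁻¹ * d''⁻¹ with hc
  have hd''N : d'' ∈ N := mul_mem d'.2 (pow_mem ((U.memN y).2 rfl) k)
  obtain ⟨j, hj⟩ : ∃ j : ℕ, c = y ^ j := by
    refine U.ker_eq (n := ⟨x, hxN⟩ * ⟨d'', hd''N⟩ * (⟨x, hxN⟩ : N)⁻¹ * (⟨d'', hd''N⟩ : N)⁻¹) ?_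
    have e' : π ⟨d'', hd''N⟩ = π d' := by
      rw [show (⟨d'', hd''N⟩ : N) = d' * ⟨y ^ k, pow_mem ((U.memN y).2 rfl) k⟩ from rfl, map_mul,
        U.pi_y (n := ⟨y ^ k, _⟩) k rfl, mul_one]
    rw [map_mul, map_mul, map_mul, map_inv, map_inv, e', M.grpA_comm hxA hd, mul_inv_cancel_right, mul_inv_cancel]
  have hzx : z * x = x * z := (mem_cz.1 hx.2).symm
  have hcz : z * c * z = c := by
    rw [hj, ((show Commute z y from hzy).pow_right j).eq, mul_assoc, U.setup.zz, mul_one]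
  have hcd : c * d'' = d'' * c := by
    rw [hj]; exact ((show Commute y d'' from ((U.memN _).1 hd''N).symm).pow_left j).eq
  have hxd : x * d''⁻¹ * x⁻¹ = d''⁻¹ * c⁻¹ := by rw [hc]; group
  have hzc2 : z * c * z = x * d''⁻¹ * x⁻¹ * d'' := by
    calc z * c * z = (z * x) * d'' * (x⁻¹ * d''⁻¹ * z) := by rw [hc]; group
      _ = x * (z * d'') * (x⁻¹ * d''⁻¹ * z) := by rw [hzx]; group
      _ = x * (d''⁻¹ * z) * (x⁻¹ * d''⁻¹ * z) := by
          rw [← hinv, mul_assoc (z * d'') z z, U.setup.zz, mul_one]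
      _ = x * d''⁻¹ * (z * x⁻¹) * d''⁻¹ * z := by group
      _ = x * d''⁻¹ * x⁻¹ * (z * d''⁻¹ * z) := by
          rw [((show Commute z x from hzx).inv_right).eq]; group
      _ = _ := by
          congr 1
          calc z * d''⁻¹ * z = z * (z * d'' * z) * z := by rw [hinv]
            _ = z * z * d'' * (z * z) := by group
            _ = d'' := by rw [U.setup.zz, one_mul, mul_one]
  have hcinv : c = c⁻¹ := by
    calc c = x * d''⁻¹ * x⁻¹ * d'' := hcz.symm.trans hzc2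
      _ = d''⁻¹ * (c⁻¹ * d'') := by rw [hxd, mul_assoc]
      _ = d''⁻¹ * (d'' * c⁻¹) := by rw [((show Commute c d'' from hcd).inv_left).eq]
      _ = c⁻¹ := by group
  have hc1 : c = 1 := by
    have h2 : c * c = 1 := by nth_rw 2 [hcinv]; exact mul_inv_cancel c
    rw [hj] at h2 ⊢
    calc y ^ j = y ^ j * (y ^ j * y ^ j) := by rw [h2, mul_one]
      _ = (y ^ 3) ^ j := by rw [← pow_add, ← pow_add, ← pow_mul]; congr 1; ring
      _ = 1 := by rw [U.cube, one_pow]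
  have hxd' : x * d'' = d'' * x := mul_inv_eq_iff_eq_mul.1 (mul_inv_eq_one.1 hc1)
  obtain ⟨i, hi⟩ : ∃ i : ℕ, a = (p' : G) * d'' * y ^ i := by
    obtain ⟨i, hi⟩ := U.pi_eq (m := ⟨a, haN⟩) (n := p' * ⟨d'', hd''N⟩) (by
      rw [map_mul, show (⟨d'', hd''N⟩ : N) = d' * ⟨y ^ k, pow_mem ((U.memN y).2 rfl) k⟩ from rfl, map_mul π d',
        U.pi_y (n := ⟨y ^ k, _⟩) k rfl, mul_one]
      exact e)
    exact ⟨i, hi⟩
  rw [hi]
  exact (((show Commute x (p' : G) from (U.fixed_abelian M).2 x hx _ hpz).mul_right hxd').mul_right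
    ((show Commute x y from U.y_central M hx.1).pow_right i)).eq

theorem conj_a0 {n : N} (hn : π n ∈ normalizer (M.grpA : Set T)) {a : G} (ha : a ∈ U.a0 M) :
    (n : G) * a * (n : G)⁻¹ ∈ U.a0 M := by
  obtain ⟨haN, haA⟩ := (U.mem_a0 M).1 ha
  refine (U.mem_a0 M).2 ⟨mul_mem (mul_mem n.2 haN) (inv_mem n.2), ?_⟩
  rw [show (⟨(n : G) * a * (n : G)⁻¹, _⟩ : N) = n * ⟨a, haN⟩ * n⁻¹ from rfl, map_mul, map_mul, map_inv]
  exact M.normA hn haA

/-- The group of order 243 is elementary abelian. -/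
theorem elementary : (∀ a ∈ U.a0 M, ∀ b ∈ U.a0 M, a * b = b * a) ∧ ∀ a ∈ U.a0 M, a ^ 3 = 1 := by
  let Zc : Subgroup G :=
    { carrier := {a | a ∈ U.a0 M ∧ a ^ 3 = 1 ∧ ∀ b ∈ U.a0 M, a * b = b * a}
      one_mem' := ⟨one_mem _, one_pow _, fun b _ => by simp⟩
      mul_mem' := by
        rintro a a' ⟨ha, ha3, hac⟩ ⟨ha', ha3', hac'⟩
        exact ⟨mul_mem ha ha', by rw [(show Commute a a' from hac a' ha').mul_pow, ha3, ha3', one_mul],
          fun b hb => ((show Commute a b from hac b hb).mul_left (show Commute a' b from hac' b hb)).eq⟩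
      inv_mem' := by
        rintro a ⟨ha, ha3, hac⟩
        exact ⟨inv_mem ha, by rw [inv_pow, ha3, inv_one], fun b hb => (show Commute a b from hac b hb).inv_left.eq⟩ }
  have hy : y ∈ Zc := ⟨U.y_a0 M, U.cube, fun b hb => (U.y_central M hb).symm⟩
  have horb : ∀ e, M.Orb e → e ∈ (Zc.subgroupOf N).map π := by
    rintro e ⟨g, hg, rfl⟩
    obtain ⟨n, rfl⟩ := U.surj g
    obtain ⟨w, hw⟩ := U.surj (ψ aC)
    have hwA : (w : G) ∈ U.a0 M := (U.mem_a0 M).2 ⟨w.2, hw ▸ M.grpP_le_grpA M.aX_mem.1⟩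
    have hwz : (w : G) ∈ U.a0 M ⊓ centralizer ({z} : Set G) :=
      ⟨hwA, mem_cz.2 (U.fixed_lift (by rw [hw]; exact (mem_cz.1 (M.grpP_le_C M.aX_mem.1)).symm))⟩
    refine ⟨n * w * n⁻¹, ⟨U.conj_a0 M hg hwA, ?_, fun b hb => ?_⟩, by rw [map_mul, map_mul, map_inv, hw]⟩
    · show ((n : G) * w * (n : G)⁻¹) ^ 3 = 1
      rw [conj_pow, ((U.fixed_abelian M).1 _ hwz).2.2]; group
    · show (n : G) * w * (n : G)⁻¹ * b = b * ((n : G) * w * (n : G)⁻¹)
      have h := U.fixed_central M hwz (U.conj_a0 M (n := n⁻¹) (by rw [map_inv]; exact inv_mem hg) hb)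
      calc (n : G) * w * (n : G)⁻¹ * b = n * (w * ((n⁻¹ : N) * b * ((n⁻¹ : N) : G)⁻¹)) * (n : G)⁻¹ := by
            rw [Subgroup.coe_inv]; group
        _ = n * (((n⁻¹ : N) * b * ((n⁻¹ : N) : G)⁻¹) * w) * (n : G)⁻¹ := by rw [h]
        _ = _ := by rw [Subgroup.coe_inv]; group
  have hall : U.a0 M ≤ Zc := by
    intro a ha
    obtain ⟨haN, haA⟩ := (U.mem_a0 M).1 ha
    obtain ⟨w, hw, e⟩ := M.orb_span horb haA
    obtain ⟨k, hk⟩ := U.pi_eq (m := ⟨a, haN⟩) (n := w) e.symm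
    rw [show a = (w : G) * y ^ k from hk]
    exact mul_mem hw (pow_mem hy k)
  exact ⟨fun a ha b hb => (hall ha).2.2 b hb, fun a ha => (hall ha).2.1⟩

theorem self_centralizing : centralizer (U.a0 M : Set G) = U.a0 M := by
  refine le_antisymm (fun g hg => ?_) fun a ha => mem_centralizer_iff.2 fun b hb => (U.elementary M).1 b hb a ha
  have hgN : g ∈ N := (U.memN g).2 (mem_centralizer_iff.1 hg y (U.y_a0 M)).symm
  refine (U.mem_a0 M).2 ⟨hgN, M.cent_grpA fun a ha => ?_⟩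
  obtain ⟨n, rfl⟩ := U.surj a
  rw [← map_mul, ← map_mul]
  exact congrArg π (Subtype.ext (mem_centralizer_iff.1 hg (n : G) ((U.mem_a0 M).2 ⟨n.2, ha⟩)).symm)

theorem norm_iff {n : N} : (n : G) ∈ normalizer (U.a0 M : Set G) ↔ π n ∈ normalizer (M.grpA : Set T) := by
  constructor
  · intro h
    refine M.mem_normA fun a ha => ?_
    obtain ⟨w, rfl⟩ := U.surj a
    obtain ⟨hN, hA⟩ := (U.mem_a0 M).1 ((mem_normalizer_iff.1 h (w : G)).1 ((U.mem_a0 M).2 ⟨w.2, ha⟩))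
    rw [← map_inv, ← map_mul, ← map_mul]
    exact hA
  · intro h
    refine mem_normalizer_iff.2 fun a => ⟨U.conj_a0 M h, fun ha => ?_⟩
    have := U.conj_a0 M (n := n⁻¹) (by rw [map_inv]; exact inv_mem h) ha
    rwa [show ((n⁻¹ : N) : G) * ((n : G) * a * (n : G)⁻¹) * ((n⁻¹ : N) : G)⁻¹ = a by rw [Subgroup.coe_inv]; group] at this

theorem card_norm_inf : Nat.card (normalizer (U.a0 M : Set G) ⊓ N : Subgroup G) = 87480 := by
  let f : (normalizer (U.a0 M : Set G) ⊓ N : Subgroup G) →* normalizer (M.grpA : Set T) :=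
    MonoidHom.codRestrict (π.comp (Subgroup.inclusion inf_le_right)) _ fun g => (U.norm_iff M).1 g.2.1
  have hs : Function.Surjective f := fun a => by
    obtain ⟨n, hn⟩ := U.surj (a : T)
    exact ⟨⟨n, (U.norm_iff M).2 (hn ▸ a.2), n.2⟩, Subtype.ext hn⟩
  have hk : Nat.card f.ker = 3 := by
    rw [← U.toData.y_ord, ← Nat.card_zpowers]
    refine Nat.card_congr
      { toFun := fun c => ⟨c.1.1, (U.ker _).1 (congrArg Subtype.val (MonoidHom.mem_ker.1 c.2) :)⟩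
        invFun := fun c => ⟨⟨c.1, (U.norm_iff M (n := ⟨c.1, zpowers_le.2 ((U.memN y).2 rfl) c.2⟩)).2
            (by rw [(U.ker _).2 c.2]; exact one_mem _), zpowers_le.2 ((U.memN y).2 rfl) c.2⟩,
          MonoidHom.mem_ker.2 (Subtype.ext ((U.ker _).2 c.2))⟩
        left_inv := fun c => rfl
        right_inv := fun c => rfl }
  have e := f.ker.card_mul_index
  rw [Subgroup.index_ker, MonoidHom.range_eq_top.2 hs, Subgroup.card_top, hk, M.card_normA] at e
  omega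

/-- The conjugates of the element in the group of order 243 are conjugate in its normalizer. -/
theorem transitive {e : G} (he : e ∈ U.a0 M) (hc : IsConj y e) :
    ∃ h ∈ normalizer (U.a0 M : Set G), h * y * h⁻¹ = e := by
  obtain ⟨m, hm⟩ := isConj_iff.1 hc
  set B := (U.a0 M).map (MulAut.conj m⁻¹).toMonoidHom with hB
  have hinj : ∀ g : G, Function.Injective (MulAut.conj g).toMonoidHom := fun g => (MulAut.conj g).injective
  have hyB : y ∈ B := ⟨e, he, by show m⁻¹ * e * m⁻¹⁻¹ = y; rw [← hm]; group⟩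
  have hBab : ∀ a ∈ B, ∀ b ∈ B, a * b = b * a := by
    rintro _ ⟨a, ha, rfl⟩ _ ⟨b, hb, rfl⟩
    rw [← map_mul, ← map_mul, (U.elementary M).1 a ha b hb]
  have hBN : B ≤ N := fun b hb => (U.memN b).2 (hBab b hb y hyB)
  set Bt := (B.subgroupOf N).map π with hBt
  have hcard : Nat.card Bt = 81 := by
    let f : B →* Bt := MonoidHom.codRestrict (π.comp (Subgroup.inclusion hBN)) _ fun b => ⟨_, b.2, rfl⟩
    have hs : Function.Surjective f := fun a => by
      obtain ⟨n, hn, e'⟩ := a.2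
      exact ⟨⟨n, hn⟩, Subtype.ext e'⟩
    have hk : Nat.card f.ker = 3 := by
      rw [← U.toData.y_ord, ← Nat.card_zpowers]
      refine Nat.card_congr
        { toFun := fun c => ⟨c.1.1, (U.ker _).1 (congrArg Subtype.val (MonoidHom.mem_ker.1 c.2) :)⟩
          invFun := fun c => ⟨⟨c.1, zpowers_le.2 hyB c.2⟩, MonoidHom.mem_ker.2 (Subtype.ext ((U.ker _).2 c.2))⟩
          left_inv := fun c => rfl
          right_inv := fun c => rfl }
    have h := f.ker.card_mul_index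
    rw [Subgroup.index_ker, MonoidHom.range_eq_top.2 hs, Subgroup.card_top, hk, Subgroup.card_map_of_injective (hinj _),
      U.card_a0 M] at h
    omega
  obtain ⟨g, hg⟩ := M.abelian_conj hcard (by
    rintro _ ⟨a, ha, rfl⟩ _ ⟨b, hb, rfl⟩
    rw [← map_mul, ← map_mul]
    exact congrArg π (Subtype.ext (hBab _ ha _ hb)))
  obtain ⟨n, rfl⟩ := U.surj g
  have hnB : B.map (MulAut.conj (n : G)).toMonoidHom = U.a0 M := by
    refine eq_of_le_of_card_ge ?_ (by rw [Subgroup.card_map_of_injective (hinj _), Subgroup.card_map_of_injective (hinj _)])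
    rintro _ ⟨b, hb, rfl⟩
    refine (U.mem_a0 M).2 ⟨mul_mem (mul_mem n.2 (hBN hb)) (inv_mem n.2), ?_⟩
    rw [← hg]
    exact ⟨π ⟨b, hBN hb⟩, ⟨_, hb, rfl⟩, by
      show π n * π ⟨b, hBN hb⟩ * (π n)⁻¹ = _
      rw [← map_inv, ← map_mul, ← map_mul]; rfl⟩
  refine ⟨m * (n : G)⁻¹, mem_normalizer_of_map ?_, ?_⟩
  · intro a ha
    rw [← hnB] at ha
    obtain ⟨_, ⟨a', ha', rfl⟩, rfl⟩ := ha
    show m * (n : G)⁻¹ * ((n : G) * (m⁻¹ * a' * m⁻¹⁻¹) * (n : G)⁻¹) * (m * (n : G)⁻¹)⁻¹ ∈ U.a0 M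
    rwa [show m * (n : G)⁻¹ * ((n : G) * (m⁻¹ * a' * m⁻¹⁻¹) * (n : G)⁻¹) * (m * (n : G)⁻¹)⁻¹ = a' by group]
  · have hny : (n : G) * y = y * n := (U.memN _).1 n.2
    calc m * (n : G)⁻¹ * y * (m * (n : G)⁻¹)⁻¹ = m * ((n : G)⁻¹ * (y * n)) * m⁻¹ := by group
      _ = m * y * m⁻¹ := by rw [← hny, inv_mul_cancel_left]
      _ = e := hm
where
  mem_normalizer_of_map {h : G} {A : Subgroup G} (H : ∀ a ∈ A, h * a * h⁻¹ ∈ A) :
      h ∈ normalizer (A : Set G) := by
    refine mem_normalizer_iff.2 fun a => ⟨H a, fun ha => ?_⟩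
    have hpow : ∀ (k : ℕ), ∀ a ∈ A, h ^ k * a * (h ^ k)⁻¹ ∈ A := by
      intro k
      induction k with
      | zero => intro a ha; simpa using ha
      | succ k ih =>
        intro a ha
        rw [pow_succ', show h * h ^ k * a * (h * h ^ k)⁻¹ = h * (h ^ k * a * (h ^ k)⁻¹) * h⁻¹ by group]
        exact H _ (ih a ha)
    have := hpow (orderOf h - 1) _ ha
    rwa [show h ^ (orderOf h - 1) = h⁻¹ from eq_inv_of_mul_eq_one_left (by
      rw [← pow_succ, Nat.sub_add_cancel (orderOf_pos h), pow_orderOf_eq_one]),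
      show h⁻¹ * (h * a * h⁻¹) * h⁻¹⁻¹ = a by group] at this

end Quo

end

end CfsgLib.Spor.SuzType.YCent
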